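import Cfsg.Agent.S0157
import Cfsg.Agent.Characters.Linear
import Cfsg.Agent.PermutationGroups.IrrSum
import Cfsg.Agent.Prune
set_option linter.all false
prune_inst 0x7f00000000000000000000000000000000000000000000000000000000000000000000000000000000000000000000000000000000000000000000000000000000000000000000000000000000000000003fffffffffffffffffffffffffffbeffbdffffffff
open scoped Cfsg.Agent.FastGrp

/-!
# An irreducible representation of degree at most the index of a proper subgroup
-/

set_option autoImplicit false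
open Cfsg

namespace Cfsg.Agent.H452.FprDeg

open MulAction

/-- A proper subgroup of a nonabelian simple group gives a nontrivial irreducible representation
of degree at most its index. -/
theorem exists_irr {G : Type*} [Group G] [Finite G] [IsSimpleGroup G]
    (hna : ∃ x y : G, x * y ≠ y * x) {H : Subgroup G} (hH : H ≠ ⊤) :
    ∃ (k : ℕ) (ρ : Representation ℂ G (Fin k → ℂ)), ρ.IsIrreducible ∧ 2 ≤ k ∧ k ≤ H.index := by
  classical
  set χ : G → ℂ := fun g => (Nat.card (fixedBy (G ⧸ H) g) : ℂ) with hχ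
  have h1 : IsCharacter G χ := S0157.isCharacter_fixedBy (G ⧸ H)
  obtain ⟨m, hm⟩ := PermutationGroups.IrrSum.exists_sum_irr h1
  have hχ1 : χ 1 = (H.index : ℂ) := by
    rw [hχ]
    simp only [fixedBy_one_eq_univ, Subgroup.index]
    congr 1
    exact Nat.card_congr (Equiv.Set.univ _)
  -- homomorphisms to commutative groups
  have hhom : ∀ f : G →* ℂˣ, f = 1 := by
    intro f
    rcases (MonoidHom.normal_ker f).eq_bot_or_eq_top with h | h
    · exfalso
      obtain ⟨a, b, hab⟩ := hna
      apply hab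
      apply (MonoidHom.ker_eq_bot_iff f).1 h
      rw [map_mul, map_mul, mul_comm]
    · ext x
      have : x ∈ f.ker := h ▸ Subgroup.mem_top x
      rw [(MonoidHom.mem_ker).1 this]
      rfl
  have hev : ∀ g : G, χ g = m.sum (fun ψ n => (n : ℂ) * (ψ : G → ℂ) g) := by
    intro g
    rw [hm, Finsupp.sum, Finset.sum_apply, Finsupp.sum]
    apply Finset.sum_congr rfl
    intro ψ _
    rw [Pi.smul_apply, nsmul_eq_mul]
  obtain ⟨ψ, hψ, hψ1⟩ : ∃ ψ ∈ m.support, (ψ : G → ℂ) 1 ≠ 1 := by
    by_contra hcon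
    push Not at hcon
    apply hH
    rw [eq_top_iff]
    intro g _
    have h2 : χ g = χ 1 := by
      rw [hev, hev, Finsupp.sum, Finsupp.sum]
      apply Finset.sum_congr rfl
      intro ψ hψ
      obtain ⟨f, hf⟩ := Characters.Linear.exists_hom_of_isIrrCharacter ψ.2 (hcon ψ hψ)
      rw [hhom f] at hf
      rw [hf]
      rfl
    rw [hχ1, hχ] at h2
    have h3 : Nat.card (fixedBy (G ⧸ H) g) = Nat.card (G ⧸ H) := by
      have : (Nat.card (fixedBy (G ⧸ H) g) : ℂ) = ((Nat.card (G ⧸ H) : ℕ) : ℂ) := h2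
      exact_mod_cast this
    have h4 : fixedBy (G ⧸ H) g = Set.univ := by
      apply Set.eq_of_subset_of_ncard_le (Set.subset_univ _)
      rw [Set.ncard_univ, ← h3, Nat.card_coe_set_eq]
    have h5 : (QuotientGroup.mk 1 : G ⧸ H) ∈ fixedBy (G ⧸ H) g := by rw [h4]; trivial
    have h6 : (QuotientGroup.mk (g * 1) : G ⧸ H) = QuotientGroup.mk 1 := h5
    rw [mul_one, eq_comm, QuotientGroup.eq, inv_one, one_mul] at h6
    exact h6
  obtain ⟨k, ρ, hρ, hk⟩ := ψ.2
  have hk1 : (ψ : G → ℂ) 1 = (k : ℂ) := by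
    rw [← hk, Representation.char_one]
    simp
  -- all degrees are natural numbers
  have hnat : ∀ ψ : IrrCharacter G, ∃ n : ℕ, (ψ : G → ℂ) 1 = (n : ℂ) := by
    intro ψ
    obtain ⟨n, ρ, -, hn⟩ := ψ.2
    exact ⟨n, by rw [← hn, Representation.char_one]; simp⟩
  choose d hd using hnat
  have hdk : d ψ = k := by
    have := hd ψ
    rw [hk1] at this
    exact_mod_cast this.symm
  have hsum : H.index = m.sum (fun ψ n => n * d ψ) := by
    have h2 := hev 1
    rw [hχ1] at h2
    have h3 : ((H.index : ℕ) : ℂ) = ((m.sum (fun ψ n => n * d ψ) : ℕ) : ℂ) := by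
      rw [h2, Finsupp.sum, Finsupp.sum, Nat.cast_sum]
      apply Finset.sum_congr rfl
      intro φ _
      rw [hd φ, Nat.cast_mul]
    exact_mod_cast h3
  refine ⟨k, ρ, hρ, ?_, ?_⟩
  · have h0 : k ≠ 0 := by
      rintro rfl
      have h2 : Nontrivial (Subrepresentation ρ) := hρ.1
      obtain ⟨a, b, hab⟩ := h2.exists_pair_ne
      apply hab
      have h3 : Subsingleton (Submodule ℂ (Fin 0 → ℂ)) := inferInstance
      exact Subrepresentation.toSubmodule_injective (Subsingleton.elim _ _)
    have h1 : k ≠ 1 := by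
      rintro rfl
      apply hψ1
      rw [hk1]
      simp
    omega
  · rw [hsum, Finsupp.sum, ← hdk]
    have hm0 : m ψ ≠ 0 := Finsupp.mem_support_iff.1 hψ
    calc d ψ ≤ m ψ * d ψ := Nat.le_mul_of_pos_left _ (Nat.pos_of_ne_zero hm0)
      _ ≤ ∑ a ∈ m.support, m a * d a :=
          Finset.single_le_sum (f := fun a => m a * d a) (fun _ _ => Nat.zero_le _) hψ

end Cfsg.Agent.H452.FprDeg
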