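import Cfsg.Agent.H398.FPR.PsuThree
import Cfsg.Agent.H398.FPR.PairMap_m3
import Cfsg.Agent.H452.FprRee
import Cfsg.Agent.H394.SqPsu3
import Cfsg.Agent.FastGrp
import Cfsg.Agent.Prune
set_option linter.all false
prune_inst 0x7f00000000000000000000000000000000000000000000000000000000000000000000000000000000000000000000000000000000000000000000000000000000000000000000000000000000000000003fffffffffffffffffffffffffffbeffbdffffffff
open scoped Cfsg.Agent.FastGrp

/-!
# Fixed point ratios in `PSU₃(q)`: prime divisors of `q² - 1`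
-/

set_option autoImplicit false
open Subgroup MulAction Matrix

namespace Cfsg.Agent.H452.FprPsu3A

open Cfsg.Agent
open Cfsg.Agent.H409 Cfsg.Agent.H452.FprTorus
open Cfsg.Agent.UThreeGen.MatGroup
open Cfsg.Agent.HKS.EndU (tor act tor_emb ci wel_tor sne comm_tor tor_conj)
open Cfsg.Agent.H212.U3.Model (exists_pi card_HG card_SUG)

section A

variable {F : Type*} [Field F] [Fintype F] {q : ℕ} {σ : F →+* F} [hσ : Fact (∀ x, σ (σ x) = x)]

/-- the two radicals generate -/
theorem gen_top (hF : Fintype.card F = q ^ 2) (hq : 3 ≤ q) (hs : ∀ x, σ x = x ^ q)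
    {π : SUG σ →* Cfsg.PSU 3 F q} (hπ : Function.Surjective π)
    (hker : ∀ g, π g = 1 ↔ g ∈ Subgroup.center (SUG σ)) :
    (emb σ).range.map π ⊔ ((emb σ).range.map (MulAut.conj (wel σ)).toMonoidHom).map π = ⊤ := by
  have hF' : Nat.card F = q ^ 2 := by rw [Nat.card_eq_fintype_card, hF]
  have hsimp : IsSimpleGroup (Cfsg.PSU 3 F q) := S0283.result hF 3 le_rfl (by omega)
  set U := (emb σ).range
  set V := U.map (MulAut.conj (wel σ)).toMonoidHom
  set K := U ⊔ V with hK
  have hKn : K.Normal := by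
    have hc := closure_SUG (σ := σ) (UThreeGen.Recog.exists_b (by omega) hs hF')
    have hn : (⊤ : Subgroup (SUG σ)) ≤ normalizer (K : Set (SUG σ)) := by
      rw [← hc, closure_le]
      rintro g (hg | hg)
      · exact le_normalizer (mem_sup_left hg : g ∈ K)
      · rw [Set.mem_singleton_iff] at hg
        rw [hg]
        rw [SetLike.mem_coe, mem_normalizer_iff_map_conj_eq, hK, Subgroup.map_sup]
        have hV : V.map (MulAut.conj (wel σ)).toMonoidHom = U := by
          rw [Subgroup.map_map]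
          have : ((MulAut.conj (wel σ)).toMonoidHom.comp (MulAut.conj (wel σ)).toMonoidHom) =
              MonoidHom.id _ := by
            ext1 z
            show wel σ * (wel σ * z * (wel σ)⁻¹) * (wel σ)⁻¹ = z
            rw [wel_inv]
            calc wel σ * (wel σ * z * wel σ) * wel σ = (wel σ * wel σ) * z * (wel σ * wel σ) := by
                  group
              _ = z := by rw [wel_mul_wel, one_mul, mul_one]
          rw [this, Subgroup.map_id]
        exact (congrArg (fun W => V ⊔ W) hV).trans (sup_comm _ _)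
    rwa [top_le_iff, normalizer_eq_top_iff] at hn
  have hKm : (K.map π).Normal := hKn.map π hπ
  have hKt : K.map π = ⊤ := by
    rcases hKm.eq_bot_or_eq_top with h | h
    · exfalso
      obtain ⟨x, hx1⟩ := H212.U3.Model.exists_a (σ := σ) hF hs 1
      have hxK : emb σ x ∈ K := mem_sup_left ⟨x, rfl⟩
      have h3 : π (emb σ x) = 1 := by
        have h4 : π (emb σ x) ∈ K.map π := mem_map_of_mem π hxK
        rw [h] at h4
        exact h4
      have h4 := eq_one_of_mem_center ((hker _).1 h3)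
      rw [h4, one_a] at hx1
      exact zero_ne_one hx1
    · exact h
  rw [← hKt, hK, Subgroup.map_sup]

theorem pi_emb_inj {π : SUG σ →* Cfsg.PSU 3 F q}
    (hker : ∀ g, π g = 1 ↔ g ∈ Subgroup.center (SUG σ)) : Function.Injective (π.comp (emb σ)) := by
  rw [injective_iff_map_eq_one]
  intro x h
  exact eq_one_of_mem_center ((hker _).mp h)

theorem card_U (hF : Fintype.card F = q ^ 2) (hs : ∀ x, σ x = x ^ q)
    {π : SUG σ →* Cfsg.PSU 3 F q} (hker : ∀ g, π g = 1 ↔ g ∈ Subgroup.center (SUG σ)) :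
    Nat.card ((emb σ).range.map π) = q ^ 3 := by
  rw [← card_HG (σ := σ) hF hs, ← MonoidHom.range_comp]
  exact (Nat.card_congr (MonoidHom.ofInjective (pi_emb_inj hker)).toEquiv).symm

/-- a torus element of order prime to `2` in the split part acts without fixed points -/
theorem act_fpf {m : Fˣ} (hm : σ (m : F) = m) (h2 : (m : F) ^ 2 ≠ 1) {u : HG σ} (h : act m u = u) :
    u = 1 := by
  have ha := congrArg HG.a h
  have hb := congrArg HG.b h
  have ha' : (m : F) ^ 2 / σ (m : F) * u.a = u.a := ha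
  have hb' : (m : F) * σ (m : F) * u.b = u.b := hb
  rw [hm] at ha' hb'
  have hm0 : (m : F) ≠ 0 := m.ne_zero
  have hm1 : (m : F) ≠ 1 := by
    intro h
    apply h2
    rw [h, one_pow]
  have ha2 : (m : F) ^ 2 / (m : F) = m := by field_simp
  rw [ha2] at ha'
  ext
  · have h3 : ((m : F) - 1) * u.a = 0 := by linear_combination ha'
    rw [one_a]
    exact (mul_eq_zero.1 h3).resolve_left (sub_ne_zero.2 hm1)
  · have h3 : ((m : F) ^ 2 - 1) * u.b = 0 := by linear_combination hb'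
    rw [one_b]
    exact (mul_eq_zero.1 h3).resolve_left (sub_ne_zero.2 h2)

end A

section B

variable {F : Type*} [Field F] [Fintype F] {q : ℕ}

/-- **Odd prime divisors of `q - 1`.** -/
theorem row_sub (hF : Fintype.card F = q ^ 2) (hq : 3 ≤ q) {p : ℕ} [hp : Fact p.Prime]
    (hp2 : p ≠ 2) (hd : p ∣ q - 1) : FprRow (p + 1) 1 p (Cfsg.PSU 3 F q) := by
  classical
  obtain ⟨σ, hs⟩ : ∃ σ : F →+* F, ∀ x, σ x = x ^ q :=
    ⟨LieClassical.HermBasic.conj hF, fun x => LieClassical.HermBasic.conj_apply hF x⟩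
  have hσ : Fact (∀ x, σ (σ x) = x) := ⟨fun x => by
    rw [hs, hs]; exact LieClassical.HermBasic.pow_q_pow_q hF x⟩
  have hF' : Nat.card F = q ^ 2 := by rw [Nat.card_eq_fintype_card, hF]
  obtain ⟨π, hπ, hker⟩ := exists_pi (σ := σ) (by omega) hs hF'
  have hsimp : IsSimpleGroup (Cfsg.PSU 3 F q) := S0283.result hF 3 le_rfl (by omega)
  have hfin : Finite (Cfsg.PSU 3 F q) := Finite.of_surjective π hπ
  obtain ⟨r, k, hr, hrc, hk, hk0⟩ := LieClassical.HermBasic.exists_prime_pow hF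
  have hrF : Fact r.Prime := ⟨hr⟩
  have hTI := Cfsg.Agent.H394.SqPsu3.inf_of_ti (Cfsg.Agent.H394.SqPsu3.ti_psu3 hF (p := r))
  -- the order
  have hcard := Cfsg.Agent.H394.SqPsu3.card_psu3 hF
  have hdg : Nat.gcd 3 (q + 1) ∣ q ^ 2 - 1 := by
    have h1 : q ^ 2 - 1 = (q + 1) * (q - 1) := by
      have := Nat.sq_sub_sq q 1
      simpa using this
    rw [h1]
    exact (Nat.gcd_dvd_right _ _).mul_right _
  obtain ⟨h, hh⟩ := hdg
  have hgpos : 0 < Nat.gcd 3 (q + 1) := Nat.gcd_pos_of_pos_left _ (by norm_num)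
  have hq9 : 3 ^ 2 ≤ q ^ 2 := Nat.pow_le_pow_left hq 2
  have hord : Nat.card (Cfsg.PSU 3 F q) = q ^ 3 * ((q ^ 3 + 1) * h) := by
    apply Nat.eq_of_mul_eq_mul_left hgpos
    rw [hcard, hh]
    ring
  have hhle : h ≤ q ^ 2 - 1 := by
    rw [hh]
    exact Nat.le_mul_of_pos_left _ hgpos
  have hrq : r ∣ q := hk ▸ dvd_pow_self r hk0.ne'
  have hq23 : q ^ 2 ≤ q ^ 3 := Nat.pow_le_pow_right (by omega) (by norm_num)
  obtain ⟨hQ, hQ1, hcount⟩ := Cfsg.Agent.H452.FprRee.rank_one_data (S := Cfsg.PSU 3 F q) (r := r) hTI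
    (Q := q ^ 3) (h := h) (k := k * 3) (by rw [hk, pow_mul]) (by omega) hord (by
      intro h1
      have h2 : r ∣ q ^ 2 - 1 := by rw [hh]; exact h1.mul_left _
      have h3 : r ∣ q ^ 2 := hrq.trans (dvd_pow_self q (by norm_num))
      have h4 : r ∣ q ^ 2 - (q ^ 2 - 1) := Nat.dvd_sub h3 h2
      rw [Nat.sub_sub_self (by omega)] at h4
      exact hr.one_lt.ne' (Nat.dvd_one.1 h4)) (by omega)
  -- the torus element
  have hdiv : q - 1 ∣ q ^ 2 - 1 := ⟨q + 1, by have := Nat.sq_sub_sq q 1; rw [one_pow] at this; rw [this, mul_comm]⟩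
  obtain ⟨l, hl⟩ := H398.FPR.PsuThree.exists_unit hF (hd.trans hdiv)
  have hlq : l ^ q = l := by
    have h1 : l ^ (q - 1) = 1 := orderOf_dvd_iff_pow_eq_one.1 (by rw [hl]; exact hd)
    calc l ^ q = l ^ (q - 1 + 1) := by rw [Nat.sub_add_cancel (by omega)]
      _ = l := by rw [pow_succ, h1, one_mul]
  have hprop : ∀ m : Fˣ, orderOf m = p → m ^ q = m → σ (m : F) = m ∧ (m : F) ^ 2 ≠ 1 := by
    intro m hm hmq
    refine ⟨by rw [hs, ← Units.val_pow_eq_pow_val, hmq], ?_⟩
    intro h2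
    have h3 : m ^ 2 = 1 := Units.ext (by rw [Units.val_pow_eq_pow_val, h2, Units.val_one])
    have h4 := orderOf_dvd_of_pow_eq_one h3
    rw [hm] at h4
    exact hp2 ((Nat.prime_dvd_prime_iff_eq hp.out Nat.prime_two).1 h4)
  have hci : ci σ l = l⁻¹ := by
    rw [ci]
    congr 1
    apply Units.ext
    exact (hprop l hl hlq).1
  have hl' : orderOf (ci σ l) = p := by rw [hci, orderOf_inv, hl]
  have hlq' : (ci σ l) ^ q = ci σ l := by rw [hci, inv_pow, hlq]
  obtain ⟨hl1, hl2⟩ := hprop l hl hlq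
  obtain ⟨hl1', hl2'⟩ := hprop _ hl' hlq'
  have hlp : l ^ p = 1 := by rw [← hl, pow_orderOf_eq_one]
  have hxp : (π (tor σ l)) ^ p = 1 := by rw [← map_pow, ← map_pow, hlp, map_one, map_one]
  have hxo : ∃ j : ℕ, orderOf (π (tor σ l)) = p ^ j := by
    obtain ⟨j, -, hj⟩ := (Nat.dvd_prime_pow hp.out).1
      (show orderOf (π (tor σ l)) ∣ p ^ 1 by rw [pow_one]; exact orderOf_dvd_of_pow_eq_one hxp)
    exact ⟨j, hj⟩
  -- the Sylow subgroups
  have hUP : IsPGroup r ((emb σ).range.map π) :=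
    IsPGroup.of_card (n := k * 3) (by rw [card_U hF hs hker, hk, pow_mul])
  obtain ⟨P₁, hP₁⟩ := hUP.exists_le_sylow
  have hP₁' : (emb σ).range.map π = (P₁ : Subgroup (Cfsg.PSU 3 F q)) := by
    apply Subgroup.eq_of_le_of_card_ge hP₁
    rw [card_U hF hs hker]
    exact (hQ P₁).le
  have hP₂' : (((π (wel σ)) • P₁ : Sylow r (Cfsg.PSU 3 F q)) : Subgroup (Cfsg.PSU 3 F q)) =
      ((emb σ).range.map (MulAut.conj (wel σ)).toMonoidHom).map π := by
    rw [Sylow.smul_def]
    change (P₁ : Subgroup (Cfsg.PSU 3 F q)).map (MulAut.conj (π (wel σ))).toMonoidHom = _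
    rw [← hP₁', Subgroup.map_map, Subgroup.map_map]
    congr 1
    ext1 g
    change π (wel σ) * π g * (π (wel σ))⁻¹ = π (wel σ * g * (wel σ)⁻¹)
    rw [map_mul, map_mul, map_inv]
  have hne : P₁ ≠ π (wel σ) • P₁ := by
    intro h1
    have h2 := gen_top hF hq hs hπ hker
    rw [← hP₂', ← h1, hP₁', sup_idem] at h2
    have h3 := hQ P₁
    change Nat.card (P₁ : Subgroup (Cfsg.PSU 3 F q)) = q ^ 3 at h3
    rw [h2, Subgroup.card_top, hord] at h3
    have h4 : q ^ 3 * ((q ^ 3 + 1) * h) = q ^ 3 * 1 := by rw [mul_one]; exact h3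
    have h5 := Nat.eq_of_mul_eq_mul_left (show 0 < q ^ 3 by positivity) h4
    have h6 := Nat.eq_one_of_mul_eq_one_right h5
    have : 0 < q ^ 3 := by positivity
    omega
  have hconj : ∀ g : SUG σ, π (tor σ l) * (π (wel σ) * π g * (π (wel σ))⁻¹) =
      π (wel σ) * (π (tor σ (ci σ l)) * π g) * (π (wel σ))⁻¹ := by
    intro g
    have h1 : tor σ l * wel σ = wel σ * tor σ (ci σ l) := by
      rw [← wel_tor, mul_assoc, ← mul_assoc (wel σ), wel_mul_wel, one_mul]
    calc π (tor σ l) * (π (wel σ) * π g * (π (wel σ))⁻¹)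
        = π (tor σ l * wel σ) * π g * (π (wel σ))⁻¹ := by rw [map_mul]; group
      _ = _ := by rw [h1, map_mul]; group
  have hconj' : ∀ g : SUG σ, (π (wel σ) * π g * (π (wel σ))⁻¹) * π (tor σ l) =
      π (wel σ) * (π g * π (tor σ (ci σ l))) * (π (wel σ))⁻¹ := by
    intro g
    have h1 : (wel σ)⁻¹ * tor σ l = tor σ (ci σ l) * (wel σ)⁻¹ := by
      rw [← wel_tor, wel_inv, mul_assoc, wel_mul_wel, mul_one]
    calc (π (wel σ) * π g * (π (wel σ))⁻¹) * π (tor σ l)
        = π (wel σ) * π g * π ((wel σ)⁻¹ * tor σ l) := by rw [map_mul, map_inv]; group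
      _ = _ := by rw [h1, map_mul, map_inv]; group
  refine row_ti_torus (S := Cfsg.PSU 3 F q) (r := r) hTI (Q := q ^ 3) hQ hQ1 hcount ?_
    (x := π (tor σ l)) hxo hne ?_ ?_ ?_ ?_
  · have h1 : p ≤ q - 1 := Nat.le_of_dvd (by omega) hd
    have h2 : q * q ≤ q ^ 3 := by
      calc q * q = q ^ 2 := (pow_two q).symm
        _ ≤ q ^ 3 := hq23
    have h3 : 3 * q ≤ q * q := Nat.mul_le_mul_right _ hq
    omega
  · rw [← hP₁', mem_normalizer_iff_map_conj_eq]
    apply Subgroup.eq_of_le_of_card_ge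
    · rintro _ ⟨_, ⟨_, ⟨u, rfl⟩, rfl⟩, rfl⟩
      change π (tor σ l) * π (emb σ u) * (π (tor σ l))⁻¹ ∈ _
      rw [tor_conj]
      exact ⟨_, ⟨_, rfl⟩, rfl⟩
    · exact (Nat.card_congr (((emb σ).range.map π).equivMapOfInjective _
        (MulAut.conj (π (tor σ l))).injective).toEquiv).le
  · rw [hP₂', mem_normalizer_iff_map_conj_eq]
    apply Subgroup.eq_of_le_of_card_ge
    · rintro _ ⟨_, ⟨_, ⟨_, ⟨u, rfl⟩, rfl⟩, rfl⟩, rfl⟩
      change π (tor σ l) * π (wel σ * emb σ u * (wel σ)⁻¹) * (π (tor σ l))⁻¹ ∈ _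
      refine ⟨_, ⟨_, ⟨act (ci σ l) u, rfl⟩, rfl⟩, ?_⟩
      change π (wel σ * emb σ (act (ci σ l) u) * (wel σ)⁻¹) = _
      rw [map_mul, map_mul, map_inv, map_mul, map_mul, map_inv, hconj, ← tor_conj]
      have h1 : π (tor σ (ci σ l)) = (π (wel σ))⁻¹ * π (tor σ l) * π (wel σ) := by
        rw [← wel_tor, map_mul, map_mul]
        congr 2
        rw [← map_inv, wel_inv]
      rw [h1]
      group
    · exact (Nat.card_congr ((((emb σ).range.map (MulAut.conj (wel σ)).toMonoidHom).map π).equivMapOfInjective _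
        (MulAut.conj (π (tor σ l))).injective).toEquiv).le
  · rw [← hP₁']
    rintro _ ⟨_, ⟨u, rfl⟩, rfl⟩ h1
    rw [act_fpf hl1 hl2 (comm_tor hker h1), map_one, map_one]
  · rw [hP₂']
    rintro _ ⟨_, ⟨_, ⟨u, rfl⟩, rfl⟩, rfl⟩ h1
    change π (tor σ l) * π (wel σ * emb σ u * (wel σ)⁻¹) = π (wel σ * emb σ u * (wel σ)⁻¹) * π (tor σ l) at h1
    rw [map_mul, map_mul, map_inv, hconj, hconj'] at h1
    have h2 := mul_left_cancel (mul_right_cancel h1)
    change π (wel σ * emb σ u * (wel σ)⁻¹) = 1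
    rw [act_fpf hl1' hl2' (comm_tor hker h2), map_one, mul_one, mul_inv_cancel, map_one]

/-- `p + 1` is not a power of the characteristic if `p ≥ 5` divides `q + 1`. -/
theorem pow_ne {r k p : ℕ} (hr : r.Prime) (hp : p.Prime) (h5 : 5 ≤ p) (hd : p ∣ r ^ k + 1) (t : ℕ) :
    r ^ t ≠ p + 1 := by
  intro h
  have h2 : r = 2 := by
    rcases hr.eq_two_or_odd' with h2 | h2
    · exact h2
    · exfalso
      have h3 : Odd (r ^ t) := h2.pow
      have h4 : Odd p := hp.odd_of_ne_two (by omega)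
      obtain ⟨a, ha⟩ := h3
      obtain ⟨b, hb⟩ := h4
      omega
  subst h2
  have h1 : ((2 : ZMod p)) ^ t = 1 := by
    have h3 : ((2 ^ t : ℕ) : ZMod p) = ((p + 1 : ℕ) : ZMod p) := by rw [h]
    push_cast at h3
    rw [h3, ZMod.natCast_self, zero_add]
  have h3 : (2 : ZMod p) ^ k = -1 := by
    have h4 := (ZMod.natCast_eq_zero_iff (2 ^ k + 1) p).2 hd
    push_cast at h4
    linear_combination h4
  rcases Nat.even_or_odd t with ht | ht
  · obtain ⟨s, hs⟩ := ht
    have h4 : 3 ∣ p := by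
      have h5 : (3 : ℕ) ∣ 2 ^ t - 1 := by
        rw [hs, ← two_mul, pow_mul]
        have := Nat.sub_dvd_pow_sub_pow (2 ^ 2) 1 s
        rw [one_pow] at this
        exact this
      have h6 : 2 ^ t - 1 = p := by omega
      rwa [h6] at h5
    have := (Nat.prime_dvd_prime_iff_eq Nat.prime_three hp).1 h4
    omega
  · have h4 : (2 : ZMod p) ^ (t * k) = 1 := by rw [pow_mul, h1, one_pow]
    have h5 : (2 : ZMod p) ^ (t * k) = -1 := by rw [mul_comm, pow_mul, h3, ht.neg_one_pow]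
    have h6 : ((2 : ℕ) : ZMod p) = 0 := by
      push_cast
      linear_combination h5 - h4
    have := Nat.le_of_dvd (by norm_num) ((ZMod.natCast_eq_zero_iff 2 p).1 h6)
    omega

/-- **Prime divisors `p ≥ 5` of `q + 1`.** -/
theorem row_add (hF : Fintype.card F = q ^ 2) (hq : 3 ≤ q) {p : ℕ} [hp : Fact p.Prime]
    (hp5 : 5 ≤ p) (hd : p ∣ q + 1) : FprRow (p + 1) 1 p (Cfsg.PSU 3 F q) := by
  classical
  obtain ⟨σ, hs⟩ : ∃ σ : F →+* F, ∀ x, σ x = x ^ q :=
    ⟨LieClassical.HermBasic.conj hF, fun x => LieClassical.HermBasic.conj_apply hF x⟩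
  have hσ : Fact (∀ x, σ (σ x) = x) := ⟨fun x => by
    rw [hs, hs]; exact LieClassical.HermBasic.pow_q_pow_q hF x⟩
  have hF' : Nat.card F = q ^ 2 := by rw [Nat.card_eq_fintype_card, hF]
  obtain ⟨π, hπ, hker⟩ := exists_pi (σ := σ) (by omega) hs hF'
  have hfin : Finite (Cfsg.PSU 3 F q) := Finite.of_surjective π hπ
  obtain ⟨r, k, hr, hrc, hk, hk0⟩ := LieClassical.HermBasic.exists_prime_pow hF
  have hrF : Fact r.Prime := ⟨hr⟩
  have hdiv : q + 1 ∣ q ^ 2 - 1 := ⟨q - 1, by have := Nat.sq_sub_sq q 1; rwa [one_pow] at this⟩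
  obtain ⟨l, hl⟩ := H398.FPR.PsuThree.exists_unit hF (hd.trans hdiv)
  have hlp : l ^ p = 1 := by rw [← hl, pow_orderOf_eq_one]
  have hl' : ((l ^ p ^ 0 : Fˣ) : F) ^ 2 ≠ σ ((l ^ p ^ 0 : Fˣ) : F) := by
    rw [hs, pow_zero, pow_one]
    intro h
    have h1 : l ^ 2 = l ^ q := Units.ext (by
      rw [Units.val_pow_eq_pow_val, Units.val_pow_eq_pow_val]; exact h)
    have h4 : l ^ (q + 1) = 1 := orderOf_dvd_iff_pow_eq_one.1 (by rw [hl]; exact hd)
    have h5 : l ^ 3 = 1 := by
      calc l ^ 3 = l ^ 2 * l := by rw [← pow_succ]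
        _ = l ^ q * l := by rw [h1]
        _ = l ^ (q + 1) := by rw [pow_succ]
        _ = 1 := h4
    have h6 := orderOf_dvd_of_pow_eq_one h5
    rw [hl] at h6
    have := Nat.le_of_dvd (by norm_num) h6
    omega
  have hUc : Nat.card ((emb σ).range.map π) = r ^ (k * 3) := by
    rw [card_U hF hs hker, hk, pow_mul]
  have hVc : Nat.card (((emb σ).range.map (MulAut.conj (wel σ)).toMonoidHom).map π) = r ^ (k * 3) := by
    rw [← hUc]
    have h1 : ((emb σ).range.map (MulAut.conj (wel σ)).toMonoidHom).map π =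
        ((emb σ).range.map π).map (MulAut.conj (π (wel σ))).toMonoidHom := by
      rw [Subgroup.map_map, Subgroup.map_map]
      congr 1
      ext1 g
      change π (wel σ * g * (wel σ)⁻¹) = π (wel σ) * π g * (π (wel σ))⁻¹
      rw [map_mul, map_mul, map_inv]
    rw [h1]
    exact (Nat.card_congr (((emb σ).range.map π).equivMapOfInjective _
        (MulAut.conj (π (wel σ))).injective).toEquiv).symm
  refine H435.Fpr.T3_sharp_good (k := 1) hp.out hr (fun t => pow_ne hr hp.out hp5 (hk ▸ hd) t)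
    (x := π (tor σ l)) (by rw [pow_one, ← map_pow, ← map_pow, hlp, map_one, map_one])
    ((H398.FPR.PsuThree.pair_tor (σ := σ) hF hs hl').map π)
    ((H398.FPR.PsuThree.pair_tor' (σ := σ) hF hs hl').map π)
    (IsPGroup.of_card hUc) (IsPGroup.of_card hVc) ?_
  rw [eq_top_iff, ← gen_top hF hq hs hπ hker, sup_le_iff]
  constructor
  · intro z hz
    exact subset_closure (Or.inl (Or.inr hz))
  · intro z hz
    exact subset_closure (Or.inr hz)

end B

end Cfsg.Agent.H452.FprPsu3A
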