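import Mathlib
import Cfsg.Agent.OddOrderLocal.Thm34
import Cfsg.Agent.Lib.CoprimeCommutator
import Cfsg.Agent.Lib.PGroupCoprimeAction
import Cfsg.Agent.S1459
import Cfsg.Agent.Solvable.FpfPrime
import Cfsg.Agent.OddOrderLocal.Thm34Weights
set_option linter.all false

-- part: H452/Base
section
/-!
# Basic tools for coprime fixed point free action of `p`-groups

* `Chief`, `isNilpotent_of_chief`: a normal subgroup centralising all chief factors inside it is nilpotent.
* `IsMin` : minimal normal subgroups; they are elementary abelian in a solvable group.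
* `Cfg p G A` : `A` is a `p`-group acting fixed point freely on the solvable normal `p'`-subgroup `G`,
  `G A` the whole group; passes to quotients.
* `exists_rep` : an elementary abelian group with operators yields a representation over an algebraically
  closed field.
-/

set_option autoImplicit false

namespace Cfsg.Agent.H452.Base

open Module
open scoped TensorProduct commutatorElement
open Cfsg.Agent.OddOrderLocal.Thm34 (bc bc_apply bc_tmul eq_of_bc elemRep elemRep_apply)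
open Cfsg.Agent.Lib.CoprimeCommutator

universe u v

section chief

variable {G : Type*} [Group G]

/-- `V < U` is a chief factor of `G`. -/
def Chief (U V : Subgroup G) : Prop :=
  U.Normal ∧ V.Normal ∧ V < U ∧ ∀ W : Subgroup G, W.Normal → V ≤ W → W ≤ U → W = V ∨ W = U

/-- The iterated commutator `⁅⁅U, E⁆, E, …⁆`. -/
def it (E : Subgroup G) : ℕ → Subgroup G → Subgroup G
  | 0, U => U
  | n + 1, U => it E n ⁅U, E⁆

theorem it_mono (E : Subgroup G) (n : ℕ) : Monotone (it E n) := by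
  induction n with
  | zero => exact fun _ _ h => h
  | succ n ih => exact fun U V h => ih (Subgroup.commutator_mono h le_rfl)

theorem lcs_eq_it (E : Subgroup G) (n k : ℕ) :
    E.lowerCentralSeries (k + n) = it E n (E.lowerCentralSeries k) := by
  induction n generalizing k with
  | zero => rfl
  | succ n ih =>
    have : k + (n + 1) = (k + 1) + n := by ring
    rw [this, ih]
    rfl

theorem exists_it_eq_bot [Finite G] (F E : Subgroup G)
    (h : ∀ U V : Subgroup G, Chief U V → U ≤ F → ⁅U, E⁆ ≤ V) (c : ℕ) :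
    ∀ U : Subgroup G, Nat.card U = c → U.Normal → U ≤ F → ∃ n, it E n U = ⊥ := by
  induction c using Nat.strong_induction_on with
  | _ c ih =>
    intro U hUc hU hUF
    by_cases hb : U = ⊥
    · exact ⟨0, hb⟩
    obtain ⟨V, hV⟩ : ∃ V : Subgroup G, Maximal (fun V : Subgroup G => V.Normal ∧ V < U) V :=
      (Set.toFinite {V : Subgroup G | V.Normal ∧ V < U}).exists_maximal
        ⟨⊥, inferInstance, bot_lt_iff_ne_bot.2 hb⟩
    have hch : Chief U V := by
      refine ⟨hU, hV.prop.1, hV.prop.2, ?_⟩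
      intro W hW hVW hWU
      by_cases hWU' : W = U
      · exact Or.inr hWU'
      · left
        exact le_antisymm (hV.le_of_ge ⟨hW, lt_of_le_of_ne hWU hWU'⟩ hVW) hVW
    obtain ⟨n, hn⟩ := ih (Nat.card V) (by
      rw [← hUc]
      exact Set.Finite.card_lt_card (Set.toFinite _) hV.prop.2) V rfl hV.prop.1
        (hV.prop.2.le.trans hUF)
    refine ⟨n + 1, ?_⟩
    rw [eq_bot_iff, ← hn]
    exact it_mono E n (h U V hch hUF)

/-- A normal subgroup centralising all chief factors inside it is nilpotent. -/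
theorem isNilpotent_of_chief [Finite G] (L : Subgroup G) (hL : L.Normal)
    (h : ∀ U V : Subgroup G, Chief U V → U ≤ L → ⁅U, L⁆ ≤ V) : Group.IsNilpotent L := by
  obtain ⟨n, hn⟩ := exists_it_eq_bot L L h _ L rfl hL le_rfl
  rw [Subgroup.isNilpotent_iff_lowerCentralSeries]
  refine ⟨0 + n, ?_⟩
  rw [lcs_eq_it]
  exact hn

/-- Minimal normal subgroups. -/
def IsMin (W : Subgroup G) : Prop :=
  W.Normal ∧ W ≠ ⊥ ∧ ∀ X : Subgroup G, X.Normal → X ≤ W → X = ⊥ ∨ X = W

theorem Chief.isMin {U V : Subgroup G} (h : Chief U V) [hV : V.Normal] :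
    IsMin (U.map (QuotientGroup.mk' V)) := by
  obtain ⟨hU, _, hlt, hch⟩ := h
  have hs := QuotientGroup.mk'_surjective V
  refine ⟨hU.map _ hs, ?_, ?_⟩
  · intro hb
    rw [Subgroup.map_eq_bot_iff, QuotientGroup.ker_mk'] at hb
    exact hlt.not_ge hb
  · intro X hX hXU
    have h1 : V ≤ X.comap (QuotientGroup.mk' V) := by
      intro v hv
      rw [Subgroup.mem_comap]
      have : QuotientGroup.mk' V v = 1 := (QuotientGroup.eq_one_iff v).2 hv
      rw [this]; exact X.one_mem
    have h2 : X.comap (QuotientGroup.mk' V) ≤ U := by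
      have h3 : X.comap (QuotientGroup.mk' V) ≤ (U.map (QuotientGroup.mk' V)).comap (QuotientGroup.mk' V) :=
        Subgroup.comap_mono hXU
      rw [Subgroup.comap_map_eq, QuotientGroup.ker_mk', sup_eq_left.2 hlt.le] at h3
      exact h3
    rcases hch _ (hX.comap _) h1 h2 with h4 | h4
    · left
      rw [← Subgroup.map_comap_eq_self_of_surjective hs X, h4, Subgroup.map_eq_bot_iff,
        QuotientGroup.ker_mk']
    · right
      rw [← Subgroup.map_comap_eq_self_of_surjective hs X, h4]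

/-- A solvable minimal normal subgroup is elementary abelian. -/
theorem IsMin.elementary [Finite G] {W : Subgroup G} (h : IsMin W) (hs : Group.IsSolvable W) :
    (∀ a ∈ W, ∀ b ∈ W, a * b = b * a) ∧ ∃ q : ℕ, q.Prime ∧ ∀ a ∈ W, a ^ q = 1 := by
  obtain ⟨hn, hne, hmin⟩ := h
  have hnt : Nontrivial W := (Subgroup.nontrivial_iff_ne_bot W).2 hne
  have hcomm : ∀ a ∈ W, ∀ b ∈ W, a * b = b * a := by
    have h1 : ⁅W, W⁆ = ⊥ := by
      rcases hmin ⁅W, W⁆ inferInstance (Subgroup.commutator_le_self W) with h | h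
      · exact h
      · exfalso
        have h2 := Group.IsSolvable.commutator_lt_top_of_nontrivial W
        apply h2.ne
        rw [commutator_def]
        apply Subgroup.map_injective W.subtype_injective
        rw [Subgroup.map_commutator, ← MonoidHom.range_eq_map, Subgroup.range_subtype, h]
    intro a ha b hb
    rw [Subgroup.commutator_eq_bot_iff_le_centralizer] at h1
    exact Subgroup.mem_centralizer_iff.1 (h1 hb) a ha
  refine ⟨hcomm, ?_⟩
  have hc1 : Nat.card W ≠ 1 := by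
    intro h
    exact hne (Subgroup.card_eq_one.1 h)
  obtain ⟨q, hq, hqd⟩ := Nat.exists_prime_and_dvd hc1
  refine ⟨q, hq, ?_⟩
  let X : Subgroup G :=
    { carrier := {a | a ∈ W ∧ a ^ q = 1}
      mul_mem' := by
        rintro a b ⟨ha, ha'⟩ ⟨hb, hb'⟩
        refine ⟨W.mul_mem ha hb, ?_⟩
        rw [(show Commute a b from hcomm a ha b hb).mul_pow, ha', hb', one_mul]
      one_mem' := ⟨W.one_mem, one_pow _⟩
      inv_mem' := by
        rintro a ⟨ha, ha'⟩
        exact ⟨W.inv_mem ha, by rw [inv_pow, ha', inv_one]⟩ }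
  have hX : X.Normal := by
    constructor
    rintro a ⟨ha, ha'⟩ g
    exact ⟨hn.conj_mem a ha g, by rw [conj_pow, ha', mul_one, mul_inv_cancel]⟩
  rcases hmin X hX (fun a ha => ha.1) with h1 | h1
  · exfalso
    have : Fact q.Prime := ⟨hq⟩
    obtain ⟨w, hw⟩ := exists_prime_orderOf_dvd_card' (G := W) q hqd
    have h2 : (w : G) ∈ X := ⟨w.2, by
      have := pow_orderOf_eq_one w
      rw [hw] at this
      exact_mod_cast congrArg Subtype.val this⟩
    rw [h1, Subgroup.mem_bot] at h2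
    have h3 : w = 1 := Subtype.ext h2
    rw [h3, orderOf_one] at hw
    exact hq.one_lt.ne hw
  · intro a ha
    rw [← h1] at ha
    exact ha.2

end chief

section sylow

variable {G : Type*} [Group G] [Finite G]

/-- A subgroup of `L` containing a Sylow `r`-subgroup of `L` for every prime `r` is `L`. -/
theorem eq_of_sylow_le {X L : Subgroup G} (hX : X ≤ L)
    (h : ∀ r : ℕ, r.Prime → ∃ T : Sylow r L, (T : Subgroup L).map L.subtype ≤ X) : X = L := by
  apply le_antisymm hX
  rw [← Subgroup.subgroupOf_eq_top, ← Subgroup.index_eq_one]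
  by_contra hne
  obtain ⟨r, hr, hrd⟩ := Nat.exists_prime_and_dvd hne
  obtain ⟨T, hT⟩ := h r hr
  have : Fact r.Prime := ⟨hr⟩
  have h1 : (T : Subgroup L) ≤ X.subgroupOf L := by
    intro t ht
    exact hT ⟨t, ht, rfl⟩
  exact T.not_dvd_index (hrd.trans (Subgroup.index_dvd_of_le h1))

end sylow

section cfg

/-- `A` is a `p`-group acting fixed point freely on the solvable normal `p'`-subgroup `G` and `G A` is the
whole group. -/
structure Cfg (p : ℕ) {Γ : Type u} [Group Γ] (G A : Subgroup Γ) : Prop where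
  normal : G.Normal
  gen : G ⊔ A = ⊤
  isp : IsPGroup p A
  ndvd : ¬ p ∣ Nat.card G
  fix : ∀ g ∈ G, (∀ a ∈ A, a * g = g * a) → g = 1
  sol : Group.IsSolvable G

variable {p : ℕ} {Γ : Type u} [Group Γ] [Finite Γ] {G A : Subgroup Γ}

omit [Finite Γ] in
theorem Cfg.le_normalizer (h : Cfg p G A) (B : Subgroup Γ) : B ≤ Subgroup.normalizer (G : Set Γ) := by
  have := h.normal
  rw [Subgroup.normalizer_eq_top_iff.2 this]; exact le_top

/-- Fixed points of a `p`-group in a section: if `A` has no fixed points in `G` then it has none modulo an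
invariant subgroup `N`. -/
theorem mem_of_fixed_mod [Fact p.Prime] {G A N : Subgroup Γ} (hA : IsPGroup p A)
    (hfix : ∀ g ∈ G, (∀ a ∈ A, a * g = g * a) → g = 1) (hNG : N ≤ G)
    (hpN : ¬ p ∣ Nat.card N) (hAN : A ≤ Subgroup.normalizer (N : Set Γ)) {g : Γ} (hg : g ∈ G)
    (h : ∀ a ∈ A, g⁻¹ * (a * g * a⁻¹) ∈ N) : g ∈ N := by
  obtain ⟨c, hc, hgc⟩ := exists_fixed_in_coset p A N hA hAN hpN g h
  have hcG : c ∈ G := by
    have h1 : c = g * (g⁻¹ * c) := by group
    rw [h1]; exact G.mul_mem hg (hNG hgc)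
  have h1 : c = 1 := hfix c hcG (fun a ha => Subgroup.mem_centralizer_iff.1 hc a ha)
  rw [h1, mul_one] at hgc
  exact (N.inv_mem_iff).1 hgc

theorem Cfg.map [Fact p.Prime] (h : Cfg p G A) (N : Subgroup Γ) [hN : N.Normal] (hNG : N ≤ G) :
    Cfg p (G.map (QuotientGroup.mk' N)) (A.map (QuotientGroup.mk' N)) where
  normal := h.normal.map _ (QuotientGroup.mk'_surjective N)
  gen := by
    rw [← Subgroup.map_sup, h.gen, Subgroup.map_top_of_surjective _ (QuotientGroup.mk'_surjective N)]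
  isp := h.isp.map _
  ndvd := fun hd => h.ndvd (hd.trans (Subgroup.card_map_dvd G _))
  fix := by
    rintro _ ⟨g, hg, rfl⟩ hfix
    refine (QuotientGroup.eq_one_iff g).2 ?_
    refine mem_of_fixed_mod h.isp h.fix hNG (fun hd => h.ndvd (hd.trans (Subgroup.card_dvd_of_le hNG)))
      (by rw [Subgroup.normalizer_eq_top_iff.2 hN]; exact le_top) hg ?_
    intro a ha
    have h1 := hfix (QuotientGroup.mk' N a) ⟨a, ha, rfl⟩
    rw [← QuotientGroup.eq]
    show QuotientGroup.mk' N g = QuotientGroup.mk' N (a * g * a⁻¹)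
    rw [map_mul, map_mul, h1, map_inv, mul_inv_cancel_right]
  sol := by
    have := h.sol
    exact Group.isSolvable_of_surjective ((QuotientGroup.mk' N).subgroupMap_surjective G)

theorem coprime_of_isPGroup [hp : Fact p.Prime] {A : Subgroup Γ} (hA : IsPGroup p A) {n : ℕ} (hn : ¬ p ∣ n) :
    (Nat.card A).Coprime n := by
  obtain ⟨k, hk⟩ := IsPGroup.iff_card.1 hA
  rw [hk]
  exact Nat.Coprime.pow_left _ ((Nat.Prime.coprime_iff_not_dvd hp.out).2 hn)

omit [Finite Γ] in
/-- `⁅G, D⁆` is normal. -/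
theorem Cfg.commutator_normal (h : Cfg p G A) {D : Subgroup Γ}
    (hAD : A ≤ Subgroup.normalizer (D : Set Γ)) : (⁅G, D⁆ : Subgroup Γ).Normal := by
  rw [← Subgroup.normalizer_eq_top_iff, eq_top_iff, ← h.gen]
  apply sup_le (left_le_normalizer_commutator G D)
  have hconj : ∀ a ∈ A, ∀ x ∈ (⁅G, D⁆ : Subgroup Γ), a * x * a⁻¹ ∈ (⁅G, D⁆ : Subgroup Γ) := by
    intro a ha x hx
    have h1 : a * x * a⁻¹ ∈ (⁅G, D⁆ : Subgroup Γ).map (MulAut.conj a).toMonoidHom := ⟨x, hx, rfl⟩
    rw [Subgroup.map_commutator] at h1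
    refine Subgroup.commutator_mono ?_ ?_ h1
    · rintro _ ⟨g, hg, rfl⟩
      exact h.normal.conj_mem g hg a
    · rintro _ ⟨d, hd, rfl⟩
      exact (Subgroup.mem_normalizer_iff.1 (hAD ha) d).1 hd
  intro a ha
  rw [Subgroup.mem_normalizer_iff]
  intro x
  refine ⟨hconj a ha x, fun hx => ?_⟩
  have h2 := hconj a⁻¹ (A.inv_mem ha) _ hx
  have h1 : a⁻¹ * (a * x * a⁻¹) * a⁻¹⁻¹ = x := by group
  rwa [h1] at h2

theorem Cfg.commutator_commutator [Fact p.Prime] (h : Cfg p G A) {D : Subgroup Γ} (hD : D ≤ A) :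
    ⁅⁅G, D⁆, D⁆ = ⁅G, D⁆ :=
  commutator_commutator_eq D G (h.le_normalizer D)
    (coprime_of_isPGroup (h.isp.to_le hD) h.ndvd)

end cfg

section rep

theorem exists_rep_aux {G : Type u} [Group G] [Finite G] {W : Type u} [CommGroup W] [Finite W] (q : ℕ)
    [hq : Fact q.Prime] [Module (ZMod q) (Additive W)] (κ : G →* MulAut W) (A : Subgroup G)
    (hA : ¬ q ∣ Nat.card A) (hfix : ∀ w, (∀ a ∈ A, κ a w = w) → w = 1) :
    ∃ (F : Type) (_ : Field F) (_ : IsAlgClosed F) (V : Type u) (_ : AddCommGroup V) (_ : Module F V)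
      (_ : FiniteDimensional F V) (ρ : Representation F G V),
      (∀ n : ℕ, ¬ q ∣ n → (n : F) ≠ 0) ∧ (∀ g h, ρ g = ρ h → κ g = κ h) ∧
      (∀ v, (∀ a ∈ A, ρ a v = v) → v = 0) := by
  classical
  have hfinA : Finite (Additive W) := inferInstanceAs (Finite W)
  have hfd : FiniteDimensional (ZMod q) (Additive W) := Module.Finite.of_finite
  have hqF : ∀ n : ℕ, ¬ q ∣ n → (n : ZMod q) ≠ 0 := by
    intro n hn h
    exact hn ((ZMod.natCast_eq_zero_iff n q).1 h)
  have hcast : ∀ n : ℕ, (n : ZMod q) ≠ 0 → (n : AlgebraicClosure (ZMod q)) ≠ 0 := by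
    intro n hn h
    apply hn
    have h1 : algebraMap (ZMod q) (AlgebraicClosure (ZMod q)) (n : ZMod q) = 0 := by rw [map_natCast, h]
    exact (map_eq_zero _).1 h1
  have hfd' : FiniteDimensional (AlgebraicClosure (ZMod q))
      (AlgebraicClosure (ZMod q) ⊗[ZMod q] (Additive W)) :=
    Module.Finite.base_change (ZMod q) (AlgebraicClosure (ZMod q)) (Additive W)
  refine ⟨AlgebraicClosure (ZMod q), inferInstance, inferInstance,
    AlgebraicClosure (ZMod q) ⊗[ZMod q] Additive W, TensorProduct.addCommGroup,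
    TensorProduct.leftModule, hfd',
    bc (AlgebraicClosure (ZMod q)) (elemRep q κ), fun n hn => hcast n (hqF n hn), ?_, ?_⟩
  · intro g h hgh
    have h1 := eq_of_bc hgh
    ext w
    exact LinearMap.congr_fun h1 (Additive.ofMul w)
  · intro v hv
    have := Fintype.ofFinite A
    have hsum : ∑ a : A, elemRep q κ (a : G) = 0 := by
      ext w
      rw [LinearMap.sum_apply]
      apply hfix (Additive.toMul (∑ a : A, elemRep q κ (a : G) w))
      intro b hb
      have h1 : elemRep q κ b (∑ a : A, elemRep q κ (a : G) w) = ∑ a : A, elemRep q κ (a : G) w := by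
        rw [map_sum]
        apply Fintype.sum_equiv (Equiv.mulLeft (⟨b, hb⟩ : A))
        intro a
        rw [← End.mul_apply, ← map_mul]
        rfl
      exact h1
    have hsum' : ∑ a : A, bc (AlgebraicClosure (ZMod q)) (elemRep q κ) (a : G) = 0 := by
      have h1 := congrArg (Module.End.baseChangeHom (ZMod q) (AlgebraicClosure (ZMod q)) (Additive W)) hsum
      rw [map_sum, map_zero] at h1
      exact h1
    have h1 := LinearMap.congr_fun hsum' v
    rw [LinearMap.sum_apply] at h1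
    have h2 : ∀ a : A, bc (AlgebraicClosure (ZMod q)) (elemRep q κ) (a : G) v = v := fun a => hv a a.2
    simp only [h2, Finset.sum_const, LinearMap.zero_apply, Finset.card_univ,
      ← Nat.card_eq_fintype_card] at h1
    rw [← Nat.cast_smul_eq_nsmul (AlgebraicClosure (ZMod q))] at h1
    rcases smul_eq_zero.1 h1 with h3 | h3
    · exact absurd h3 (hcast _ (hqF _ hA))
    · exact h3

/-- An elementary abelian group `W` with operators, on which `A` has no fixed points, yields a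
representation over an algebraically closed field without vectors fixed by `A`. -/
theorem exists_rep {G : Type u} [Group G] [Finite G] {W : Type u} [CommGroup W] [Finite W] (q : ℕ)
    [hq : Fact q.Prime] (hW : ∀ a : W, a ^ q = 1) (κ : G →* MulAut W) (A : Subgroup G)
    (hA : ¬ q ∣ Nat.card A) (hfix : ∀ w, (∀ a ∈ A, κ a w = w) → w = 1) :
    ∃ (F : Type) (_ : Field F) (_ : IsAlgClosed F) (V : Type u) (_ : AddCommGroup V) (_ : Module F V)
      (_ : FiniteDimensional F V) (ρ : Representation F G V),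
      (∀ n : ℕ, ¬ q ∣ n → (n : F) ≠ 0) ∧ (∀ g h, ρ g = ρ h → κ g = κ h) ∧
      (∀ v, (∀ a ∈ A, ρ a v = v) → v = 0) :=
  @exists_rep_aux G _ _ W _ _ q _ (AddCommGroup.zmodModule (by
    intro a
    exact hW a.toMul)) κ A hA hfix

end rep

end Cfsg.Agent.H452.Base
end

-- part: H452/TopN
section
/-!
# Nilpotency of `⁅G, D⁆` from the two-step property `T2`

`PP Γ A D` : a property of pairs `D ≤ A` of subgroups, closed under quotients by `p'`-groups.
`T2 p PP` : if `A` acts without fixed points on the `r`-group `Q` and on the module `V`, then `D` commutes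
with `Q` on `V`. Then `⁅G, D⁆` is nilpotent for every configuration `Cfg p G A` (`isNilpotent_commutator`).
-/

set_option autoImplicit false

namespace Cfsg.Agent.H452.TopN

open Module Cfsg.Agent.H452.Base
open Cfsg.Agent.Lib.CoprimeCommutator

universe u

/-- Properties of pairs of subgroups. -/
abbrev Pr := ∀ (Γ : Type u) [Group Γ], Subgroup Γ → Subgroup Γ → Prop

/-- `PP` is closed under quotients by normal `p'`-subgroups. -/
structure Closed (p : ℕ) (PP : Pr.{u}) : Prop where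
  le : ∀ (Γ : Type u) [Group Γ] (A D : Subgroup Γ), PP Γ A D → D ≤ A
  norm : ∀ (Γ : Type u) [Group Γ] (A D : Subgroup Γ), PP Γ A D → A ≤ Subgroup.normalizer (D : Set Γ)
  quot : ∀ (Γ : Type u) [Group Γ] [Finite Γ] (A D : Subgroup Γ) (N : Subgroup Γ) [N.Normal],
    ¬ p ∣ Nat.card N → PP Γ A D → PP (Γ ⧸ N) (A.map (QuotientGroup.mk' N)) (D.map (QuotientGroup.mk' N))

/-- The two-step property. -/
def T2 (p : ℕ) (PP : Pr.{u}) : Prop :=
  ∀ (Γ : Type u) [Group Γ] [Finite Γ] (A D Q : Subgroup Γ) (r : ℕ) (F : Type) [Field F] [IsAlgClosed F]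
    (V : Type u) [AddCommGroup V] [Module F V] [FiniteDimensional F V] (ρ : Representation F Γ V),
    PP Γ A D → IsPGroup p A → r.Prime → r ≠ p → IsPGroup r Q → A ≤ Subgroup.normalizer (Q : Set Γ) →
    (∀ x ∈ Q, (∀ a ∈ A, a * x = x * a) → x = 1) → (p : F) ≠ 0 → (r : F) ≠ 0 →
    (∀ v, (∀ a ∈ A, ρ a v = v) → v = 0) → ∀ x ∈ Q, ∀ d ∈ D, ρ (x * d) = ρ (d * x)

/-- A normal `q`-subgroup acts trivially on an irreducible elementary abelian `q`-group. -/
theorem trivial_of_isPGroup {Γ : Type u} [Group Γ] [Finite Γ] {W : Type u} [CommGroup W] [Finite W]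
    [Nontrivial W] {q : ℕ} [hq : Fact q.Prime] (hW : ∀ w : W, w ^ q = 1) (κ : Γ →* MulAut W)
    (hirr : ∀ X : Subgroup W, (∀ g, ∀ x ∈ X, κ g x ∈ X) → X = ⊥ ∨ X = ⊤) (R : Subgroup Γ)
    [hRn : R.Normal] (hR : IsPGroup q R) : ∀ x ∈ R, κ x = 1 := by
  let X : Subgroup W :=
    { carrier := {w | ∀ x ∈ R, κ x w = w}
      mul_mem' := fun {a b} ha hb x hx => by rw [map_mul, ha x hx, hb x hx]
      one_mem' := fun x _ => map_one _
      inv_mem' := fun {a} ha x hx => by rw [map_inv, ha x hx] }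
  have hX : ∀ g, ∀ x ∈ X, κ g x ∈ X := by
    intro g w hw x hx
    have h1 : x * g = g * (g⁻¹ * x * g) := by group
    have h2 : g⁻¹ * x * g ∈ R := by
      have := hRn.conj_mem x hx g⁻¹
      rwa [inv_inv] at this
    rw [← MulAut.mul_apply, ← map_mul, h1, map_mul, MulAut.mul_apply, hw _ h2]
  rcases hirr X hX with h | h
  · exfalso
    let act : MulAction R W := MulAction.compHom W (κ.comp R.subtype)
    have hpW : IsPGroup q W := fun w => ⟨1, by rw [pow_one]; exact hW w⟩
    have hd : q ∣ Nat.card W := by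
      obtain ⟨n, hn⟩ := IsPGroup.iff_card.1 hpW
      rw [hn]
      apply dvd_pow_self
      rintro rfl
      rw [pow_zero] at hn
      have := (Nat.card_eq_one_iff_unique.1 hn).1
      exact not_subsingleton W this
    obtain ⟨w, hw, hw1⟩ := hR.exists_fixed_point_of_prime_dvd_card_of_fixed_point W hd
      (a := (1 : W)) (by intro x; exact map_one (κ x))
    have h1 : w ∈ X := fun x hx => hw ⟨x, hx⟩
    rw [h, Subgroup.mem_bot] at h1
    exact hw1 h1.symm
  · intro x hx
    ext w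
    have : w ∈ X := by rw [h]; trivial
    exact this x hx

theorem eq_bot_of_isPGroup {Γ : Type u} [Group Γ] [Finite Γ] {p : ℕ} {T : Subgroup Γ}
    (hT : IsPGroup p T) (hd : ¬ p ∣ Nat.card T) [Fact p.Prime] : T = ⊥ := by
  obtain ⟨k, hk⟩ := IsPGroup.iff_card.1 hT
  rcases Nat.eq_zero_or_pos k with h0 | h0
  · apply Subgroup.card_eq_one.1
    rw [hk, h0, pow_zero]
  · exact absurd (by rw [hk]; exact dvd_pow_self _ h0.ne') hd

/-- If `L` is normal and nilpotent in `Γ`, its Sylow subgroups are normal in `Γ`. -/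
theorem sylow_map_normal {Γ : Type u} [Group Γ] [Finite Γ] {L : Subgroup Γ} (hL : L.Normal)
    (hn : Group.IsNilpotent L) {r : ℕ} [Fact r.Prime] (T : Sylow r L) :
    ((T : Subgroup L).map L.subtype).Normal := by
  have h1 : (T : Subgroup L).Normal := by
    have := (Group.isNilpotent_of_finite_tfae (G := L)).out 0 3
    exact this.1 hn r inferInstance T
  have h2 : (T : Subgroup L).Characteristic := Sylow.characteristic_of_normal T h1
  exact ConjAct.normal_of_characteristic_of_normal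

theorem extN {p : ℕ} [hp : Fact p.Prime] {PP : Pr.{u}} (hc : Closed p PP) (hT : T2 p PP)
    {Γ : Type u} [Group Γ] [Finite Γ] {G A D : Subgroup Γ} (h : Cfg p G A) (hP : PP Γ A D)
    {W : Type u} [CommGroup W] [Finite W] [Nontrivial W] {q : ℕ} [hq : Fact q.Prime]
    (hqp : q ≠ p) (hW : ∀ w : W, w ^ q = 1) (κ : Γ →* MulAut W)
    (hfix : ∀ w, (∀ a ∈ A, κ a w = w) → w = 1)
    (hirr : ∀ X : Subgroup W, (∀ g, ∀ x ∈ X, κ g x ∈ X) → X = ⊥ ∨ X = ⊤)
    (hfaith : ∀ g ∈ G, κ g = 1 → g = 1) (hnil : Group.IsNilpotent (⁅G, D⁆ : Subgroup Γ)) :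
    (⁅G, D⁆ : Subgroup Γ) = ⊥ := by
  have hDA := hc.le Γ A D hP
  have hL : (⁅G, D⁆ : Subgroup Γ).Normal := h.commutator_normal (hc.norm Γ A D hP)
  set L : Subgroup Γ := ⁅G, D⁆ with hLdef
  have hLG : L ≤ G := commutator_le_left (h.le_normalizer D)
  have hqA : ¬ q ∣ Nat.card A := by
    intro hd
    obtain ⟨k, hk⟩ := IsPGroup.iff_card.1 h.isp
    rw [hk] at hd
    exact hqp ((Nat.prime_dvd_prime_iff_eq hq.out hp.out).1 (hq.out.dvd_of_dvd_pow hd))
  obtain ⟨F, _, _, V, _, _, _, ρ, hF, hρ, hρfix⟩ := exists_rep q hW κ A hqA hfix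
  have hcent : ∀ d ∈ D, ∀ x ∈ L, d * x = x * d := by
    intro d hd
    let X : Subgroup Γ := L ⊓ Subgroup.centralizer ({d} : Set Γ)
    have hXL : X = L := by
      apply eq_of_sylow_le inf_le_left
      intro r hr
      have hrf : Fact r.Prime := ⟨hr⟩
      obtain ⟨T⟩ : Nonempty (Sylow r L) := inferInstance
      refine ⟨T, ?_⟩
      have hTn := sylow_map_normal hL hnil T
      have hTp : IsPGroup r ((T : Subgroup L).map L.subtype) := T.isPGroup'.map _
      have hTL : (T : Subgroup L).map L.subtype ≤ L := Subgroup.map_subtype_le _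
      refine le_inf hTL ?_
      intro x hx
      rw [Subgroup.mem_centralizer_iff]
      intro d' hd'
      rw [Set.mem_singleton_iff.1 hd']
      by_cases hrq : r = q
      · subst hrq
        have h1 := trivial_of_isPGroup hW κ hirr _ hTp x hx
        have h2 := hfaith x (hLG (hTL hx)) h1
        rw [h2, one_mul, mul_one]
      · by_cases hrp : r = p
        · subst hrp
          have h3 := eq_bot_of_isPGroup hTp (fun hd => h.ndvd
            (hd.trans (Subgroup.card_dvd_of_le (hTL.trans hLG))))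
          rw [h3, Subgroup.mem_bot] at hx
          rw [hx, one_mul, mul_one]
        · have hTG := hTL.trans hLG
          have h4 := hT Γ A D ((T : Subgroup L).map L.subtype) r F V ρ hP h.isp hr hrp hTp
            (by rw [Subgroup.normalizer_eq_top_iff.2 hTn]; exact le_top)
            (fun y hy => h.fix y (hTG hy))
            (hF p (fun hd => hqp ((Nat.prime_dvd_prime_iff_eq hq.out hp.out).1 hd)))
            (hF r (fun hd => hrq ((Nat.prime_dvd_prime_iff_eq hq.out hr).1 hd).symm)) hρfix x hx d hd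
          have h5 := hρ _ _ h4
          have h6 : κ (x * d * x⁻¹ * d⁻¹) = 1 := by
            have h7 : x * d * x⁻¹ * d⁻¹ = (x * d) * (d * x)⁻¹ := by group
            rw [h7, map_mul, map_inv, h5, mul_inv_cancel]
          have h8 : x * d * x⁻¹ * d⁻¹ ∈ G := by
            have h9 : x * d * x⁻¹ * d⁻¹ = x * (d * x⁻¹ * d⁻¹) := by group
            rw [h9]
            exact G.mul_mem (hTG hx) (h.normal.conj_mem _ (G.inv_mem (hTG hx)) d)
          have h10 := hfaith _ h8 h6
          have h11 : x * d = (x * d * x⁻¹ * d⁻¹) * (d * x) := by group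
          rw [h11, h10, one_mul]
    intro x hx
    rw [← hXL] at hx
    exact Subgroup.mem_centralizer_iff.1 hx.2 d rfl
  have h12 := h.commutator_commutator hDA
  rw [← hLdef] at h12
  rw [← h12, Subgroup.commutator_eq_bot_iff_le_centralizer]
  intro x hx
  rw [Subgroup.mem_centralizer_iff]
  intro d hd
  exact hcent d hd x hx

/-- A minimal normal subgroup `W ≤ G` of `Γ` and the quotient `Γ / C_G(W)` acting on it. -/
theorem min_quot {p : ℕ} [hp : Fact p.Prime] {Γ : Type u} [Group Γ] [Finite Γ] {G A : Subgroup Γ}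
    (h : Cfg p G A) {W : Subgroup Γ} (hW : Base.IsMin W) (hWG : W ≤ G) :
    ∃ (K : Subgroup Γ) (_ : K.Normal), W ≤ K ∧ K ≤ G ∧ K ≤ Subgroup.centralizer (W : Set Γ) ∧
      ∃ (W' : Type u) (_ : CommGroup W') (_ : Finite W') (_ : Nontrivial W') (q : ℕ)
        (_ : Fact q.Prime) (κ : Γ ⧸ K →* MulAut W'), q ≠ p ∧ (∀ w : W', w ^ q = 1) ∧
        (∀ w, (∀ a ∈ A.map (QuotientGroup.mk' K), κ a w = w) → w = 1) ∧
        (∀ X : Subgroup W', (∀ g, ∀ x ∈ X, κ g x ∈ X) → X = ⊥ ∨ X = ⊤) ∧
        (∀ g ∈ G.map (QuotientGroup.mk' K), κ g = 1 → g = 1) := by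
  have hWn := hW.1
  have hGn := h.normal
  have hGs := h.sol
  have hWs : Group.IsSolvable W :=
    Group.isSolvable_of_isSolvable_injective (f := Subgroup.inclusion hWG)
      (Subgroup.inclusion_injective hWG)
  obtain ⟨hcomm, q, hq, hWq⟩ := hW.elementary hWs
  have hcn : (Subgroup.centralizer (W : Set Γ)).Normal := inferInstance
  refine ⟨G ⊓ Subgroup.centralizer (W : Set Γ), inferInstance, ?_, inf_le_left, inf_le_right, ?_⟩
  · refine le_inf hWG ?_
    intro w hw
    rw [Subgroup.mem_centralizer_iff]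
    intro w' hw'
    exact hcomm w' hw' w hw
  let cg : CommGroup W :=
    { (inferInstance : Group W) with mul_comm := fun a b => Subtype.ext (hcomm a a.2 b b.2) }
  have hnt : Nontrivial W := (Subgroup.nontrivial_iff_ne_bot W).2 hW.2.1
  have hker : ∀ g : Γ, g ∈ Subgroup.centralizer (W : Set Γ) ↔ MulAut.conjNormal (H := W) g = 1 := by
    intro g
    rw [Subgroup.mem_centralizer_iff]
    constructor
    · intro hg
      ext w
      rw [MulAut.conjNormal_apply, ← hg w w.2, mul_inv_cancel_right]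
      rfl
    · intro hg w hw
      have h1 := congrArg Subtype.val (DFunLike.congr_fun hg (⟨w, hw⟩ : W))
      rw [MulAut.conjNormal_apply] at h1
      have h2 : g * w * g⁻¹ = w := h1
      rw [mul_inv_eq_iff_eq_mul] at h2
      exact h2.symm
  let κ : Γ ⧸ (G ⊓ Subgroup.centralizer (W : Set Γ)) →* MulAut W :=
    QuotientGroup.lift _ (MulAut.conjNormal (H := W)) (fun g hg => (hker g).1 hg.2)
  have hκ : ∀ g : Γ, ∀ w : W, ((κ (QuotientGroup.mk' _ g) w : W) : Γ) = g * w * g⁻¹ := fun g w =>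
    MulAut.conjNormal_apply g w
  refine ⟨W, cg, inferInstance, hnt, q, ⟨hq⟩, κ, ?_, ?_, ?_, ?_, ?_⟩
  · rintro rfl
    apply h.ndvd
    refine Dvd.dvd.trans ?_ (Subgroup.card_dvd_of_le hWG)
    obtain ⟨w, hw⟩ := exists_ne (1 : W)
    have h1 : orderOf w = q := by
      apply orderOf_eq_prime _ hw
      exact Subtype.ext (hWq w w.2)
    rw [← h1]
    exact orderOf_dvd_natCard w
  · intro w
    exact Subtype.ext (hWq w w.2)
  · intro w hw
    apply Subtype.ext
    apply h.fix w (hWG w.2)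
    intro a ha
    have h1 := congrArg Subtype.val (hw _ ⟨a, ha, rfl⟩)
    rw [hκ] at h1
    exact mul_inv_eq_iff_eq_mul.1 h1
  · intro X hX
    have hXn : (X.map W.subtype).Normal := by
      constructor
      rintro _ ⟨x, hx, rfl⟩ g
      exact ⟨κ (QuotientGroup.mk' _ g) x, hX _ x hx, hκ g x⟩
    rcases hW.2.2 _ hXn (Subgroup.map_subtype_le X) with h1 | h1
    · left
      exact (Subgroup.map_eq_bot_iff_of_injective _ W.subtype_injective).1 h1
    · right
      apply Subgroup.map_injective W.subtype_injective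
      rw [h1, ← MonoidHom.range_eq_map, Subgroup.range_subtype]
  · rintro _ ⟨g, hg, rfl⟩ hg1
    refine (QuotientGroup.eq_one_iff g).2 ⟨hg, ?_⟩
    exact (hker g).2 hg1

/-- **Nilpotency of `⁅G, D⁆`** from the two-step property. -/
theorem isNilpotent_commutator {p : ℕ} [hp : Fact p.Prime] {PP : Pr.{u}} (hc : Closed p PP)
    (hT : T2 p PP) : ∀ n : ℕ, ∀ (Γ : Type u) [Group Γ] [Finite Γ] (G A D : Subgroup Γ),
    Nat.card G = n → Cfg p G A → PP Γ A D → Group.IsNilpotent (⁅G, D⁆ : Subgroup Γ) := by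
  intro n
  induction n using Nat.strong_induction_on with
  | _ n ih =>
  intro Γ _ _ G A D hn h hP
  have hL : (⁅G, D⁆ : Subgroup Γ).Normal := h.commutator_normal (hc.norm Γ A D hP)
  have hLG : (⁅G, D⁆ : Subgroup Γ) ≤ G := commutator_le_left (h.le_normalizer D)
  apply isNilpotent_of_chief _ hL
  intro U V hUV hUL
  have hVn := hUV.2.1
  have hVG : V ≤ G := hUV.2.2.1.le.trans (hUL.trans hLG)
  have hpV : ¬ p ∣ Nat.card V := fun hd => h.ndvd (hd.trans (Subgroup.card_dvd_of_le hVG))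
  have h' := h.map V hVG
  have hP' := hc.quot Γ A D V hpV hP
  have hmin := hUV.isMin
  have hWG : U.map (QuotientGroup.mk' V) ≤ G.map (QuotientGroup.mk' V) :=
    Subgroup.map_mono (hUL.trans hLG)
  obtain ⟨K, hKn, hWK, hKG, hKC, W', _, _, _, q, _, κ, hqp, hWq, hfix, hirr, hfaith⟩ :=
    min_quot h' hmin hWG
  have h'' := h'.map K hKG
  have hpK : ¬ p ∣ Nat.card K := fun hd => h'.ndvd (hd.trans (Subgroup.card_dvd_of_le hKG))
  have hP'' := hc.quot _ _ _ K hpK hP'
  have hlt : Nat.card ((G.map (QuotientGroup.mk' V)).map (QuotientGroup.mk' K)) < n := by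
    have h1 : Nat.card (G.map (QuotientGroup.mk' V)) ≤ n := by
      rw [← hn]
      exact Nat.le_of_dvd Nat.card_pos (Subgroup.card_map_dvd G _)
    refine lt_of_lt_of_le ?_ h1
    refine lt_of_le_of_ne (Nat.le_of_dvd Nat.card_pos (Subgroup.card_map_dvd _ _)) ?_
    intro heq
    have hsurj := (QuotientGroup.mk' K).subgroupMap_surjective (G.map (QuotientGroup.mk' V))
    have hinj : Function.Injective ((QuotientGroup.mk' K).subgroupMap (G.map (QuotientGroup.mk' V))) :=
      ((Nat.bijective_iff_surjective_and_card _).2 ⟨hsurj, heq.symm⟩).1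
    apply hmin.2.1
    rw [eq_bot_iff]
    intro w hw
    have h3 : (QuotientGroup.mk' K).subgroupMap (G.map (QuotientGroup.mk' V)) ⟨w, hWG hw⟩ =
        (QuotientGroup.mk' K).subgroupMap (G.map (QuotientGroup.mk' V)) 1 := by
      apply Subtype.ext
      show QuotientGroup.mk' K w = QuotientGroup.mk' K 1
      rw [map_one]
      exact (QuotientGroup.eq_one_iff w).2 (hWK hw)
    exact congrArg Subtype.val (hinj h3)
  have hnil := ih _ hlt _ _ _ _ rfl h'' hP''
  have hbot := extN hc hT h'' hP'' hqp hWq κ hfix hirr hfaith hnil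
  have hLK : (⁅G, D⁆ : Subgroup Γ).map (QuotientGroup.mk' V) ≤ K := by
    rw [← Subgroup.map_commutator, Subgroup.map_eq_bot_iff, QuotientGroup.ker_mk'] at hbot
    rw [Subgroup.map_commutator]
    exact hbot
  have h5 : (⁅U, ⁅G, D⁆⁆ : Subgroup Γ).map (QuotientGroup.mk' V) = ⊥ := by
    rw [Subgroup.map_commutator, Subgroup.commutator_comm,
      Subgroup.commutator_eq_bot_iff_le_centralizer]
    exact hLK.trans hKC
  rw [Subgroup.map_eq_bot_iff, QuotientGroup.ker_mk'] at h5
  exact h5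

end Cfsg.Agent.H452.TopN
end

-- part: H452/MinAct
section
/-!
# Minimal coprime action on an `r`-group

`X` normalises the `r`-group `Q`, `Y` is a normal subgroup of `X` of order prime to `r`, `Y` centralises all proper
`X`-invariant subgroups of `Q` but not `Q`. Then `⁅Q, Y⁆ = Q`, `⁅Q, Q⁆ ≤ Z(Q)`, and if `Q` is not abelian
`⁅Q, Q⁆ = Z(Q) = C_Q(Y)` and `x ^ r ∈ Z(Q)` for `x ∈ Q`.
-/

set_option autoImplicit false

namespace Cfsg.Agent.H452.MinAct

open scoped commutatorElement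
open Cfsg.Agent.Lib.CoprimeCommutator

variable {G : Type*} [Group G]

theorem le_normalizer_of_conj {X H : Subgroup G} (h : ∀ a ∈ X, ∀ x ∈ H, a * x * a⁻¹ ∈ H) :
    X ≤ Subgroup.normalizer (H : Set G) := by
  intro a ha
  rw [Subgroup.mem_normalizer_iff]
  intro x
  refine ⟨h a ha x, fun hx => ?_⟩
  have h2 := h a⁻¹ (X.inv_mem ha) _ hx
  have h1 : a⁻¹ * (a * x * a⁻¹) * a⁻¹⁻¹ = x := by group
  rwa [h1] at h2

theorem conj_of_le_normalizer {X H : Subgroup G} (h : X ≤ Subgroup.normalizer (H : Set G)) {a x : G}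
    (ha : a ∈ X) (hx : x ∈ H) : a * x * a⁻¹ ∈ H :=
  (Subgroup.mem_normalizer_iff.1 (h ha) x).1 hx

theorem le_normalizer_commutator {X H K : Subgroup G} (hH : X ≤ Subgroup.normalizer (H : Set G))
    (hK : X ≤ Subgroup.normalizer (K : Set G)) :
    X ≤ Subgroup.normalizer ((⁅H, K⁆ : Subgroup G) : Set G) := by
  apply le_normalizer_of_conj
  intro a ha x hx
  have h1 : a * x * a⁻¹ ∈ (⁅H, K⁆ : Subgroup G).map (MulAut.conj a).toMonoidHom := ⟨x, hx, rfl⟩
  rw [Subgroup.map_commutator] at h1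
  refine Subgroup.commutator_mono ?_ ?_ h1
  · rintro _ ⟨g, hg, rfl⟩
    exact conj_of_le_normalizer hH ha hg
  · rintro _ ⟨d, hd, rfl⟩
    exact conj_of_le_normalizer hK ha hd

theorem le_normalizer_inf {X H K : Subgroup G} (hH : X ≤ Subgroup.normalizer (H : Set G))
    (hK : X ≤ Subgroup.normalizer (K : Set G)) :
    X ≤ Subgroup.normalizer ((H ⊓ K : Subgroup G) : Set G) := by
  apply le_normalizer_of_conj
  intro a ha x hx
  exact ⟨conj_of_le_normalizer hH ha hx.1, conj_of_le_normalizer hK ha hx.2⟩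

theorem le_normalizer_centralizer {X H : Subgroup G} (hH : X ≤ Subgroup.normalizer (H : Set G)) :
    X ≤ Subgroup.normalizer (Subgroup.centralizer (H : Set G) : Set G) := by
  apply le_normalizer_of_conj
  intro a ha x hx
  rw [Subgroup.mem_centralizer_iff] at hx ⊢
  intro y hy
  have h1 := conj_of_le_normalizer hH (X.inv_mem ha) hy
  have h2 := hx _ h1
  calc y * (a * x * a⁻¹) = a * ((a⁻¹ * y * a⁻¹⁻¹) * x) * a⁻¹ := by group
    _ = a * (x * (a⁻¹ * y * a⁻¹⁻¹)) * a⁻¹ := by rw [h2]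
    _ = a * x * a⁻¹ * y := by group

theorem le_normalizer_sup {X H K : Subgroup G} (hH : X ≤ Subgroup.normalizer (H : Set G))
    (hK : X ≤ Subgroup.normalizer (K : Set G)) :
    X ≤ Subgroup.normalizer ((H ⊔ K : Subgroup G) : Set G) := by
  apply le_normalizer_of_conj
  intro a ha x hx
  have h1 : a * x * a⁻¹ ∈ (H ⊔ K : Subgroup G).map (MulAut.conj a).toMonoidHom := ⟨x, hx, rfl⟩
  rw [Subgroup.map_sup] at h1
  have h2 : H.map (MulAut.conj a).toMonoidHom ≤ H := by
    rintro _ ⟨g, hg, rfl⟩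
    exact conj_of_le_normalizer hH ha hg
  have h3 : K.map (MulAut.conj a).toMonoidHom ≤ K := by
    rintro _ ⟨d, hd, rfl⟩
    exact conj_of_le_normalizer hK ha hd
  exact (sup_le_sup h2 h3 : _ ≤ H ⊔ K) h1

theorem commutator_eq_bot_iff {H K : Subgroup G} :
    ⁅H, K⁆ = ⊥ ↔ ∀ x ∈ H, ∀ y ∈ K, x * y = y * x := by
  rw [Subgroup.commutator_eq_bot_iff_le_centralizer]
  constructor
  · intro h x hx y hy
    exact ((Subgroup.mem_centralizer_iff.1 (h hx)) y hy).symm
  · intro h x hx
    rw [Subgroup.mem_centralizer_iff]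
    intro y hy
    exact (h x hx y hy).symm

theorem mem_inf_centralizer {H K : Subgroup G} {x : G} :
    x ∈ H ⊓ Subgroup.centralizer (K : Set G) ↔ x ∈ H ∧ ∀ y ∈ K, x * y = y * x := by
  rw [Subgroup.mem_inf, Subgroup.mem_centralizer_iff]
  constructor
  · rintro ⟨h1, h2⟩
    exact ⟨h1, fun y hy => (h2 y hy).symm⟩
  · rintro ⟨h1, h2⟩
    exact ⟨h1, fun y hy => (h2 y hy).symm⟩

/-- `C_H(K) ≤ H'` for a coprime action with `H = ⁅H, K⁆`. -/
theorem inf_centralizer_le [Finite G] {H K : Subgroup G} (hKH : K ≤ Subgroup.normalizer (H : Set G))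
    (hcop : (Nat.card H).Coprime (Nat.card K)) (hle : H = ⁅H, K⁆) :
    H ⊓ Subgroup.centralizer (K : Set G) ≤ ⁅H, H⁆ := by
  let M : Subgroup G := Subgroup.normalizer (H : Set G)
  have hHM : H ≤ M := Subgroup.le_normalizer
  have hH' : (H.subgroupOf M).map M.subtype = H := by
    rw [Subgroup.subgroupOf_map_subtype, inf_eq_left.2 hHM]
  have hK' : (K.subgroupOf M).map M.subtype = K := by
    rw [Subgroup.subgroupOf_map_subtype, inf_eq_left.2 hKH]
  have hn : (H.subgroupOf M).Normal := Subgroup.normal_in_normalizer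
  have h1 := S1459.centralizer_le (H.subgroupOf M) (K.subgroupOf M) hn (by
    rw [Nat.card_congr (Subgroup.subgroupOfEquivOfLe hHM).toEquiv,
      Nat.card_congr (Subgroup.subgroupOfEquivOfLe hKH).toEquiv]
    exact hcop) (by
    apply Subgroup.map_injective M.subtype_injective
    rw [Subgroup.map_commutator, hH', hK']
    exact hle)
  intro x hx
  rw [mem_inf_centralizer] at hx
  have h2 : (⟨x, hHM hx.1⟩ : M) ∈ (⁅H.subgroupOf M, H.subgroupOf M⁆ : Subgroup M) := by
    apply h1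
    rw [mem_inf_centralizer]
    refine ⟨hx.1, ?_⟩
    intro y hy
    exact Subtype.ext (hx.2 y hy)
  have h3 : x ∈ (⁅H.subgroupOf M, H.subgroupOf M⁆ : Subgroup M).map M.subtype := ⟨_, h2, rfl⟩
  rw [Subgroup.map_commutator, hH'] at h3
  exact h3

/-- A proper characteristic subgroup of a nontrivial `r`-group containing the `r`-th powers and the commutator
subgroup. -/
theorem exists_frattini [Finite G] {Q : Subgroup G} {r : ℕ} [hr : Fact r.Prime] (hQ : IsPGroup r Q)
    (hQ1 : Q ≠ ⊥) : ∃ Φ : Subgroup G, Φ ≤ Q ∧ Φ ≠ Q ∧ (∀ x ∈ Q, x ^ r ∈ Φ) ∧ ⁅Q, Q⁆ ≤ Φ ∧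
      ∀ X : Subgroup G, X ≤ Subgroup.normalizer (Q : Set G) → X ≤ Subgroup.normalizer (Φ : Set G) := by
  let P : Subgroup G := Subgroup.closure {y | ∃ x ∈ Q, x ^ r = y}
  have hPQ : P ≤ Q := by
    rw [Subgroup.closure_le]
    rintro _ ⟨x, hx, rfl⟩
    exact Q.pow_mem hx r
  refine ⟨⁅Q, Q⁆ ⊔ P, sup_le (Subgroup.commutator_le_self Q) hPQ, ?_, ?_, le_sup_left, ?_⟩
  · -- a maximal subgroup
    have hnt : Nontrivial Q := (Subgroup.nontrivial_iff_ne_bot Q).2 hQ1
    obtain ⟨k, hk⟩ := IsPGroup.iff_card.1 hQ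
    have hk0 : k ≠ 0 := by
      rintro rfl
      rw [pow_zero] at hk
      exact hQ1 (Subgroup.card_eq_one.1 hk)
    obtain ⟨m, rfl⟩ := Nat.exists_eq_succ_of_ne_zero hk0
    obtain ⟨M, hM⟩ := Sylow.exists_subgroup_card_pow_prime (G := Q) r (n := m) (by
      rw [hk]; exact pow_dvd_pow r (Nat.le_succ m))
    have hMi : M.index = r := by
      have h1 := M.card_mul_index
      rw [hM, hk, pow_succ] at h1
      exact Nat.eq_of_mul_eq_mul_left (pow_pos hr.out.pos m) h1
    have hMn : M.Normal := by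
      apply Subgroup.normal_of_index_eq_minFac_card
      rw [hMi, hk, Nat.succ_eq_add_one, Nat.Prime.pow_minFac hr.out (Nat.succ_ne_zero m)]
    have hle : ⁅Q, Q⁆ ⊔ P ≤ M.map Q.subtype := by
      apply sup_le
      · have h2 : commutator Q ≤ M := by
          have hc : Nat.card (Q ⧸ M) = r := by rw [← Subgroup.index_eq_card, hMi]
          have : IsCyclic (Q ⧸ M) := isCyclic_of_prime_card hc
          have hcomm : IsMulCommutative (Q ⧸ M) := inferInstance
          exact Subgroup.Normal.quotient_commutative_iff_commutator_le.mp hcomm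
        have h3 := Subgroup.map_mono (f := Q.subtype) h2
        rw [Subgroup.map_subtype_commutator] at h3
        exact h3
      · rw [Subgroup.closure_le]
        rintro _ ⟨x, hx, rfl⟩
        refine ⟨(⟨x, hx⟩ : Q) ^ r, ?_, rfl⟩
        have := Subgroup.pow_index_mem M (⟨x, hx⟩ : Q)
        rwa [hMi] at this
    intro heq
    rw [heq] at hle
    have h4 : M = ⊤ := by
      rw [eq_top_iff]
      intro x _
      obtain ⟨y, hy, hxy⟩ := hle x.2
      have : y = x := Subtype.ext hxy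
      rw [← this]; exact hy
    rw [h4, Subgroup.index_top] at hMi
    exact hr.out.one_lt.ne hMi
  · intro x hx
    exact (le_sup_right : P ≤ _) (Subgroup.subset_closure ⟨x, hx, rfl⟩)
  · intro X hX
    apply le_normalizer_sup (le_normalizer_commutator hX hX)
    apply le_normalizer_of_conj
    intro a ha x hx
    have h1 : P.map (MulAut.conj a).toMonoidHom ≤ P := by
      rw [MonoidHom.map_closure, Subgroup.closure_le]
      rintro _ ⟨_, ⟨y, hy, rfl⟩, rfl⟩
      apply Subgroup.subset_closure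
      refine ⟨a * y * a⁻¹, conj_of_le_normalizer hX ha hy, ?_⟩
      rw [map_pow]; rfl
    exact h1 ⟨x, hx, rfl⟩

/-- **Minimal action.** -/
theorem minAct [Finite G] {Q X Y : Subgroup G} {r : ℕ} [hr : Fact r.Prime] (hQ : IsPGroup r Q)
    (hYX : Y ≤ X) (hXY : X ≤ Subgroup.normalizer (Y : Set G)) (hXQ : X ≤ Subgroup.normalizer (Q : Set G))
    (hY : ¬ r ∣ Nat.card Y)
    (hproper : ∀ H : Subgroup G, H ≤ Q → H ≠ Q → X ≤ Subgroup.normalizer (H : Set G) → ⁅H, Y⁆ = ⊥)
    (hne : ⁅Q, Y⁆ ≠ ⊥) :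
    ⁅Q, Y⁆ = Q ∧ ⁅Q, Q⁆ ≤ Q ⊓ Subgroup.centralizer (Q : Set G) ∧
      Q ⊓ Subgroup.centralizer (Y : Set G) ≤ ⁅Q, Q⁆ ∧ (∀ x ∈ Q, x ^ r ∈ ⁅Q, Q⁆) ∧
      (⁅Q, Q⁆ ≠ ⊥ → Q ⊓ Subgroup.centralizer (Q : Set G) ≤ Q ⊓ Subgroup.centralizer (Y : Set G)) := by
  have hYQ : Y ≤ Subgroup.normalizer (Q : Set G) := hYX.trans hXQ
  have hcop : (Nat.card Y).Coprime (Nat.card Q) := by
    obtain ⟨k, hk⟩ := IsPGroup.iff_card.1 hQ
    rw [hk]
    exact (Nat.Coprime.pow_left k ((Nat.Prime.coprime_iff_not_dvd hr.out).2 hY)).symm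
  have hle1 : ⁅Q, Y⁆ ≤ Q := commutator_le_left hYQ
  have h1 : ⁅Q, Y⁆ = Q := by
    by_contra hcon
    apply hne
    rw [← commutator_commutator_eq Y Q hYQ hcop]
    exact hproper _ hle1 hcon (le_normalizer_commutator hXQ hXY)
  have hQ1 : Q ≠ ⊥ := by
    rintro rfl
    apply hne
    rw [Subgroup.commutator_bot_left]
  obtain ⟨Φ, hΦQ, hΦne, hΦr, hΦc, hΦn⟩ := exists_frattini hQ hQ1
  have h2 : ⁅Φ, Y⁆ = ⊥ := hproper Φ hΦQ hΦne (hΦn X hXQ)
  have h3 : ⁅(⁅Q, Q⁆ : Subgroup G), Y⁆ = ⊥ := by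
    rw [eq_bot_iff, ← h2]
    exact Subgroup.commutator_mono hΦc le_rfl
  have h4 : ⁅Q, Q⁆ ≤ Q ⊓ Subgroup.centralizer (Q : Set G) := by
    refine le_inf (Subgroup.commutator_le_self Q) ?_
    rw [← Subgroup.commutator_eq_bot_iff_le_centralizer]
    have h5 : ⁅⁅Y, Q⁆, ⁅Q, Q⁆⁆ = ⊥ := by
      apply Subgroup.commutator_commutator_eq_bot_of_rotate
      · rw [eq_bot_iff]
        have h2 : ⁅Q, ⁅Q, Q⁆⁆ ≤ ⁅Q, Q⁆ :=
          Subgroup.commutator_mono le_rfl (Subgroup.commutator_le_self Q)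
        calc ⁅⁅Q, ⁅Q, Q⁆⁆, Y⁆ ≤ ⁅⁅Q, Q⁆, Y⁆ := Subgroup.commutator_mono h2 le_rfl
          _ = ⊥ := h3
      · rw [h3, Subgroup.commutator_bot_left]
    rw [Subgroup.commutator_comm Y Q, h1, Subgroup.commutator_comm] at h5
    exact h5
  have h5 : Q ⊓ Subgroup.centralizer (Y : Set G) ≤ ⁅Q, Q⁆ :=
    inf_centralizer_le hYQ hcop.symm h1.symm
  refine ⟨h1, h4, h5, ?_, ?_⟩
  · intro x hx
    apply h5
    rw [mem_inf_centralizer]
    exact ⟨Q.pow_mem hx r, fun y hy => commutator_eq_bot_iff.1 h2 _ (hΦr x hx) y hy⟩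
  · intro hnab
    refine le_inf inf_le_left ?_
    rw [← Subgroup.commutator_eq_bot_iff_le_centralizer]
    apply hproper _ inf_le_left
    · intro heq
      apply hnab
      rw [commutator_eq_bot_iff]
      intro a ha b hb
      rw [← heq] at ha
      exact (mem_inf_centralizer.1 ha).2 b hb
    · exact le_normalizer_inf hXQ (le_normalizer_centralizer hXQ)

end Cfsg.Agent.H452.MinAct
end

-- part: H452/Ext
section
/-!
# From groups of automorphisms to subgroups of the semidirect product, and chains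

* `HasChain G n` : `G` has a normal series of length `n` with nilpotent factors.
* `chain_of_surj` : if `f : G → H` is surjective with nilpotent kernel and `HasChain H n`, then
  `HasChain G (n + 1)`.
* `cfg_sd` : the configuration of the semidirect product `G ⋊ A`.
* `nilp_ext` : the external form of `isNilpotent_commutator`.
* `quotAut`, `fpf_quot` : the induced automorphism of a quotient is fixed point free.
-/

set_option autoImplicit false

namespace Cfsg.Agent.H452.Ext

open Module SemidirectProduct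
open scoped commutatorElement
open Cfsg.Agent.Lib.CoprimeCommutator
open Cfsg.Agent.H452.Base Cfsg.Agent.H452.TopN Cfsg.Agent.H452.MinAct

universe u

theorem lcs_mono {G : Type*} [Group G] {H K : Subgroup G} (h : H ≤ K) (k : ℕ) :
    H.lowerCentralSeries k ≤ K.lowerCentralSeries k := by
  induction k with
  | zero => exact h
  | succ k ih =>
    rw [Subgroup.lowerCentralSeries_succ, Subgroup.lowerCentralSeries_succ]
    exact Subgroup.commutator_mono ih h

section chain

/-- `G` has a normal series of length `n` with nilpotent factors. -/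
def HasChain (G : Type*) [Group G] (n : ℕ) : Prop :=
  ∃ F : Fin (n + 1) → Subgroup G, F 0 = ⊥ ∧ F (Fin.last n) = ⊤ ∧ Monotone F ∧
    (∀ i, (F i).Normal) ∧ ∀ i : Fin n, ∃ k : ℕ, (F i.succ).lowerCentralSeries k ≤ F i.castSucc

theorem hasChain_zero {G : Type*} [Group G] (h : ∀ g : G, g = 1) : HasChain G 0 := by
  refine ⟨fun _ => ⊥, rfl, ?_, fun _ _ _ => le_rfl, fun _ => inferInstance, fun i => i.elim0⟩
  rw [eq_comm, eq_bot_iff]
  intro g _
  rw [h g]; exact Subgroup.one_mem _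

theorem chain_of_surj {G H : Type*} [Group G] [Group H] {f : G →* H} (hf : Function.Surjective f)
    (hk : ∃ k, f.ker.lowerCentralSeries k = ⊥) {n : ℕ} (h : HasChain H n) : HasChain G (n + 1) := by
  obtain ⟨F, h0, h1, hm, hn, hs⟩ := h
  let F' : Fin (n + 1 + 1) → Subgroup G := Fin.cons ⊥ (fun i => (F i).comap f)
  have hF0 : F' 0 = ⊥ := rfl
  have hFs : ∀ i : Fin (n + 1), F' i.succ = (F i).comap f := fun i => rfl
  refine ⟨F', hF0, ?_, ?_, ?_, ?_⟩
  · have : Fin.last (n + 1) = (Fin.last n).succ := rfl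
    rw [this, hFs, h1, Subgroup.comap_top]
  · intro i j hij
    induction i using Fin.cases with
    | zero => rw [hF0]; exact bot_le
    | succ i =>
      induction j using Fin.cases with
      | zero =>
        exfalso
        exact absurd hij (not_le.2 (Fin.succ_pos i))
      | succ j =>
        rw [hFs, hFs]
        exact Subgroup.comap_mono (hm (Fin.succ_le_succ_iff.1 hij))
  · intro i
    induction i using Fin.cases with
    | zero => rw [hF0]; infer_instance
    | succ i =>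
      rw [hFs]
      exact (hn i).comap f
  · intro i
    induction i using Fin.cases with
    | zero =>
      obtain ⟨k, hk⟩ := hk
      refine ⟨k, ?_⟩
      have h2 : F' (Fin.succ 0) = f.ker := by
        rw [hFs, h0]; exact MonoidHom.comap_bot f
      rw [h2, hk]; exact bot_le
    | succ i =>
      obtain ⟨k, hk⟩ := hs i
      refine ⟨k, ?_⟩
      have h2 : i.succ.castSucc = i.castSucc.succ := rfl
      rw [h2, hFs, hFs, ← Subgroup.map_le_iff_le_comap, Subgroup.map_lowerCentralSeries,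
        Subgroup.map_comap_eq_self_of_surjective hf]
      exact hk

/-- gluing a nilpotent normal subgroup -/
theorem chain_of_quot {G : Type*} [Group G] (L : Subgroup G) [L.Normal] (hL : Group.IsNilpotent L)
    {n : ℕ} (h : HasChain (G ⧸ L) n) : HasChain G (n + 1) := by
  apply chain_of_surj (QuotientGroup.mk'_surjective L) _ h
  rw [QuotientGroup.ker_mk']
  exact (Subgroup.isNilpotent_iff_lowerCentralSeries L).1 hL

/-- gluing a normal subgroup of height at most two -/
theorem chain_of_quot_two {G : Type*} [Group G] (N L : Subgroup G) [N.Normal] [L.Normal] (hNL : N ≤ L)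
    (hN : Group.IsNilpotent N) (hL : ∃ k, L.lowerCentralSeries k ≤ N)
    {n : ℕ} (h : HasChain (G ⧸ L) n) : HasChain G (n + 2) := by
  apply chain_of_quot N hN
  let f : G ⧸ N →* G ⧸ L := QuotientGroup.map N L (MonoidHom.id G) hNL
  have hf : Function.Surjective f := by
    intro x
    obtain ⟨g, rfl⟩ := QuotientGroup.mk_surjective x
    exact ⟨QuotientGroup.mk g, rfl⟩
  refine chain_of_surj hf ?_ h
  obtain ⟨k, hk⟩ := hL
  refine ⟨k, ?_⟩
  have h1 : f.ker = L.map (QuotientGroup.mk' N) := by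
    ext x
    obtain ⟨g, rfl⟩ := QuotientGroup.mk_surjective x
    rw [MonoidHom.mem_ker]
    constructor
    · intro hx
      exact ⟨g, (QuotientGroup.eq_one_iff g).1 hx, rfl⟩
    · rintro ⟨g', hg', hgg⟩
      rw [← hgg]
      exact (QuotientGroup.eq_one_iff g').2 hg'
  rw [h1, ← Subgroup.map_lowerCentralSeries, Subgroup.map_eq_bot_iff, QuotientGroup.ker_mk']
  exact hk

end chain

section sd

variable {G : Type u} [Group G] [Finite G]

theorem finite_sd (A : Subgroup (MulAut G)) : Finite (G ⋊[A.subtype] A) :=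
  Finite.of_equiv _ (SemidirectProduct.equivProd (φ := A.subtype)).symm

/-- a `p`-group of automorphisms with no common fixed points acts on a `p'`-group. -/
theorem not_dvd_card {p : ℕ} [Fact p.Prime] (A : Subgroup (MulAut G)) (hA : IsPGroup p A)
    (hfpf : ∀ g : G, (∀ a ∈ A, a g = g) → g = 1) : ¬ p ∣ Nat.card G := by
  intro hd
  obtain ⟨g, hg, hg1⟩ := hA.exists_fixed_point_of_prime_dvd_card_of_fixed_point G hd
    (a := (1 : G)) (by intro x; exact map_one (x : MulAut G))
  exact hg1 (hfpf g (fun a ha => hg ⟨a, ha⟩)).symm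

theorem cfg_sd {p : ℕ} [Fact p.Prime] (hG : Group.IsSolvable G) (A : Subgroup (MulAut G))
    (hA : IsPGroup p A) (hfpf : ∀ g : G, (∀ a ∈ A, a g = g) → g = 1) :
    Cfg p (Γ := G ⋊[A.subtype] A) (inl : G →* G ⋊[A.subtype] A).range
      (inr : A →* G ⋊[A.subtype] A).range where
  normal := by
    rw [SemidirectProduct.range_inl_eq_ker_rightHom]
    exact MonoidHom.normal_ker _
  gen := by
    rw [eq_top_iff]
    intro x _
    rw [← SemidirectProduct.inl_left_mul_inr_right x]
    exact Subgroup.mul_mem_sup ⟨_, rfl⟩ ⟨_, rfl⟩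
  isp := hA.of_surjective (inr : A →* G ⋊[A.subtype] A).rangeRestrict
    (MonoidHom.rangeRestrict_surjective _)
  ndvd := by
    have h1 : Nat.card (inl : G →* G ⋊[A.subtype] A).range = Nat.card G :=
      Nat.card_congr (MonoidHom.ofInjective SemidirectProduct.inl_injective).toEquiv.symm
    rw [h1]
    exact not_dvd_card A hA hfpf
  fix := by
    rintro _ ⟨g, rfl⟩ h
    have h1 : g = 1 := by
      apply hfpf
      intro a ha
      have h2 := h (inr ⟨a, ha⟩) ⟨_, rfl⟩
      apply SemidirectProduct.inl_injective (φ := A.subtype)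
      have h3 := SemidirectProduct.inl_aut (φ := A.subtype) ⟨a, ha⟩ g
      rw [map_inv, h2, mul_inv_cancel_right] at h3
      exact h3
    rw [h1, map_one]
  sol := Group.isSolvable_of_surjective (MonoidHom.rangeRestrict_surjective (inl : G →* G ⋊[A.subtype] A))

omit [Finite G] in
/-- pulling back a normal subgroup of the semidirect product -/
theorem comap_inl_inv {A : Subgroup (MulAut G)} {L : Subgroup (G ⋊[A.subtype] A)} (hL : L.Normal)
    {a : MulAut G} (ha : a ∈ A) {g : G} (hg : g ∈ L.comap inl) : a g ∈ L.comap inl := by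
  rw [Subgroup.mem_comap] at hg ⊢
  have h3 := SemidirectProduct.inl_aut (φ := A.subtype) ⟨a, ha⟩ g
  have h4 : (inl (a g) : G ⋊[A.subtype] A) = inr ⟨a, ha⟩ * inl g * (inr ⟨a, ha⟩)⁻¹ := by
    rw [← map_inv]; exact h3
  rw [h4]
  exact hL.conj_mem _ hg _

omit [Finite G] in
theorem comap_inl_comm {A D : Subgroup (MulAut G)} (hDA : D ≤ A) {d : MulAut G} (hd : d ∈ D) (g : G) :
    d g * g⁻¹ ∈ (⁅(inl : G →* G ⋊[A.subtype] A).range, (D.subgroupOf A).map inr⁆ :
      Subgroup (G ⋊[A.subtype] A)).comap inl := by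
  rw [Subgroup.mem_comap]
  have h3 := SemidirectProduct.inl_aut (φ := A.subtype) ⟨d, hDA hd⟩ g
  have h4 : (inl (d g * g⁻¹) : G ⋊[A.subtype] A) =
      ⁅(inr (⟨d, hDA hd⟩ : A) : G ⋊[A.subtype] A), (inl g : G ⋊[A.subtype] A)⁆ := by
    rw [map_inv] at h3
    rw [map_mul, map_inv, commutatorElement_def]
    exact congrArg (· * (inl g)⁻¹) h3
  rw [h4, Subgroup.commutator_comm]
  exact Subgroup.commutator_mem_commutator ⟨_, hd, rfl⟩ ⟨_, rfl⟩

omit [Finite G] in
theorem comap_lcs {A : Subgroup (MulAut G)} {L N : Subgroup (G ⋊[A.subtype] A)}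
    (hL : L ≤ (inl : G →* G ⋊[A.subtype] A).range) {k : ℕ} (h : L.lowerCentralSeries k ≤ N) :
    (L.comap inl).lowerCentralSeries k ≤ N.comap inl := by
  rw [← Subgroup.map_le_iff_le_comap, Subgroup.map_lowerCentralSeries, Subgroup.map_comap_eq,
    inf_eq_right.2 hL]
  exact h

/-- **External form** of the nilpotency theorem. -/
theorem nilp_ext {p : ℕ} [Fact p.Prime] {PP : Pr.{u}} (hc : Closed p PP) (hT : T2 p PP)
    (hG : Group.IsSolvable G) (A D : Subgroup (MulAut G)) (hDA : D ≤ A) (hA : IsPGroup p A)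
    (hfpf : ∀ g : G, (∀ a ∈ A, a g = g) → g = 1)
    (hPP : PP (G ⋊[A.subtype] A) (inr : A →* G ⋊[A.subtype] A).range
      ((D.subgroupOf A).map (inr : A →* G ⋊[A.subtype] A))) :
    ∃ L : Subgroup G, L.Normal ∧ Group.IsNilpotent L ∧ (∀ a ∈ A, ∀ g ∈ L, a g ∈ L) ∧
      ∀ d ∈ D, ∀ g, d g * g⁻¹ ∈ L := by
  have hfin := finite_sd A
  have hcfg := cfg_sd hG A hA hfpf
  have hnil := isNilpotent_commutator hc hT _ _ _ _ _ rfl hcfg hPP
  have hnorm : (⁅(inl : G →* G ⋊[A.subtype] A).range, (D.subgroupOf A).map inr⁆ :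
      Subgroup (G ⋊[A.subtype] A)).Normal := hcfg.commutator_normal (hc.norm _ _ _ hPP)
  refine ⟨(⁅(inl : G →* G ⋊[A.subtype] A).range, (D.subgroupOf A).map inr⁆ :
      Subgroup (G ⋊[A.subtype] A)).comap inl, hnorm.comap _, ?_, ?_, ?_⟩
  · rw [Subgroup.isNilpotent_iff_lowerCentralSeries] at hnil ⊢
    obtain ⟨k, hk⟩ := hnil
    refine ⟨k, ?_⟩
    rw [eq_bot_iff]
    refine (comap_lcs (N := ⊥) (commutator_le_left (hcfg.le_normalizer _)) hk.le).trans ?_
    intro x hx
    rw [Subgroup.mem_comap, Subgroup.mem_bot] at hx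
    rw [Subgroup.mem_bot]
    exact SemidirectProduct.inl_injective (by rw [hx, map_one])
  · intro a ha g hg
    exact comap_inl_inv hnorm ha hg
  · intro d hd g
    exact comap_inl_comm hDA hd g

end sd

section quot

variable {G : Type u} [Group G] [Finite G]

/-- The automorphism induced on a quotient. -/
theorem exists_quotAut (L : Subgroup G) [L.Normal] (σ : MulAut G) (hσ : ∀ g ∈ L, σ g ∈ L)
    (hfpf : ∀ g : G, σ g = g → g = 1) :
    ∃ τ : MulAut (G ⧸ L), (∀ g : G, τ (QuotientGroup.mk g) = QuotientGroup.mk (σ g)) ∧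
      (∀ x, τ x = x → x = 1) := by
  have hmap : L.map (σ : G →* G) = L := by
    have h1 : L.map (σ : G →* G) ≤ L := by
      rintro _ ⟨g, hg, rfl⟩
      exact hσ g hg
    apply Subgroup.eq_of_le_of_card_ge h1
    rw [Subgroup.card_map_of_injective (f := (σ : G →* G)) σ.injective]
  refine ⟨QuotientGroup.congr L L σ hmap, fun g => rfl, ?_⟩
  intro x hx
  obtain ⟨g, rfl⟩ := QuotientGroup.mk_surjective x
  have h1 : (QuotientGroup.mk (σ g) : G ⧸ L) = QuotientGroup.mk g := hx
  rw [QuotientGroup.eq] at h1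
  exact (QuotientGroup.eq_one_iff g).2
    (Solvable.FpfPrime.mk_mem_of_fixed (φ := (σ : G →* G)) hfpf L hσ g h1)

omit [Finite G] in
theorem quotAut_pow {L : Subgroup G} [L.Normal] {σ : MulAut G} {τ : MulAut (G ⧸ L)}
    (h : ∀ g : G, τ (QuotientGroup.mk g) = QuotientGroup.mk (σ g)) (k : ℕ) (g : G) :
    (τ ^ k) (QuotientGroup.mk g) = QuotientGroup.mk ((σ ^ k) g) := by
  induction k with
  | zero => rfl
  | succ k ih => rw [pow_succ', pow_succ', MulAut.mul_apply, MulAut.mul_apply, ih, h]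

end quot

end Cfsg.Agent.H452.Ext
end

-- part: H452/Orbit
section
/-!
# Weights and groups acting without fixed vectors

`A` a finite group (order invertible in `F`) normalising the abelian group `N`, both acting on `V`,
`A` without nonzero fixed vectors.
* `eq_zero_of_stab_fixed`: the stabiliser in `A` of a weight `χ` of `N` has no nonzero fixed vectors in the
  weight space of `χ`.
* `comm_of_min`: if all non-trivial subgroups of `A` contain `φ`, then `φ` centralises `N` on `V`.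
* `mem_of_ne_bot`: in a cyclic group `⟨σ⟩`, `σ ^ (p ^ (n + 1)) = 1`, all non-trivial subgroups contain
  `σ ^ (p ^ n)`.
-/

set_option autoImplicit false

namespace Cfsg.Agent.H452.Orbit

open Module
open Cfsg.Agent.OddOrderLocal.Thm34Weights

attribute [local instance] wtAction

section normal

variable {F : Type*} [Field F] {G : Type*} [Group G] {V : Type*} [AddCommGroup V] [Module F V]

/-- The stabiliser of `χ` in `A`. -/
def stab (N : Subgroup G) [N.Normal] (A : Subgroup G) (χ : N → F) : Subgroup G where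
  carrier := {a | a ∈ A ∧ a • χ = χ}
  mul_mem' := by
    rintro a b ⟨ha, ha'⟩ ⟨hb, hb'⟩
    exact ⟨A.mul_mem ha hb, by rw [mul_smul, hb', ha']⟩
  one_mem' := ⟨A.one_mem, one_smul _ _⟩
  inv_mem' := by
    rintro a ⟨ha, ha'⟩
    refine ⟨A.inv_mem ha, ?_⟩
    conv_lhs => rw [← ha']
    rw [inv_smul_smul]

omit [Field F] in
theorem mem_stab {N : Subgroup G} [N.Normal] {A : Subgroup G} {χ : N → F} {a : G} :
    a ∈ stab N A χ ↔ a ∈ A ∧ a • χ = χ := Iff.rfl

omit [Field F] in
theorem stab_le {N : Subgroup G} [N.Normal] {A : Subgroup G} {χ : N → F} : stab N A χ ≤ A :=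
  fun _ h => h.1

theorem card_ne_zero_of_le {A B : Subgroup G} [Finite A] (hA : (Nat.card A : F) ≠ 0) (h : B ≤ A) :
    (Nat.card B : F) ≠ 0 := by
  obtain ⟨m, hm⟩ := Subgroup.card_dvd_of_le h
  intro h0
  apply hA
  rw [hm, Nat.cast_mul, h0, zero_mul]

/-- Lemma O: the stabiliser of a weight acts without fixed vectors on the weight space. -/
theorem eq_zero_of_stab_fixed [FiniteDimensional F V] (ρ : Representation F G V) (N : Subgroup G) [N.Normal] [Finite N]
    (hN : (Nat.card N : F) ≠ 0) (hcomm : ∀ a ∈ N, ∀ b ∈ N, a * b = b * a)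
    (A : Subgroup G) [Finite A] (hA : (Nat.card A : F) ≠ 0)
    (hfix : ∀ v, (∀ a ∈ A, ρ a v = v) → v = 0) {χ : N → F} {v : V} (hv : v ∈ wt ρ N χ)
    (h : ∀ a ∈ A, a • χ = χ → ρ a v = v) : v = 0 := by
  classical
  have := Fintype.ofFinite A
  -- the sum over A vanishes
  have h0 : ∑ a : A, ρ (a : G) v = 0 := by
    apply hfix
    intro b hb
    rw [map_sum]
    apply Fintype.sum_equiv (Equiv.mulLeft (⟨b, hb⟩ : A))
    intro a
    rw [← End.mul_apply, ← map_mul]
    rfl
  set s : Finset (N → F) := Finset.univ.image (fun a : A => (a : G) • χ) with hs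
  let u : (N → F) → V := fun ψ =>
    ∑ a ∈ (Finset.univ : Finset A).filter (fun a : A => (a : G) • χ = ψ), ρ (a : G) v
  have hu : ∀ ψ ∈ s, u ψ ∈ wt ρ N ψ := by
    intro ψ _
    apply Submodule.sum_mem
    intro a ha
    rw [Finset.mem_filter] at ha
    rw [← ha.2]
    exact smul_mem_wt hv _
  have hsum : ∑ ψ ∈ s, u ψ = 0 := by
    rw [← h0]
    exact Finset.sum_fiberwise_of_maps_to (s := (Finset.univ : Finset A)) (t := s)
      (g := fun a : A => (a : G) • χ) (fun a _ => Finset.mem_image_of_mem _ (Finset.mem_univ a))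
      (fun a : A => ρ (a : G) v)
  have h1 := eq_zero_of_sum_wt hN hcomm s (fun ψ => ψ) u (fun _ _ _ _ h => h) hu hsum χ
    (Finset.mem_image.2 ⟨1, Finset.mem_univ _, by simp⟩)
  have h2 : u χ = ((Finset.univ.filter (fun a : A => (a : G) • χ = χ)).card : F) • v := by
    show ∑ a ∈ (Finset.univ : Finset A).filter (fun a : A => (a : G) • χ = χ), ρ (a : G) v = _
    have h5 : ∀ a ∈ Finset.univ.filter (fun a : A => (a : G) • χ = χ), ρ (a : G) v = v :=
      fun a ha => h a a.2 (Finset.mem_filter.1 ha).2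
    rw [Finset.sum_congr rfl h5, Finset.sum_const, Nat.cast_smul_eq_nsmul]
  have h3 : (Finset.univ.filter (fun a : A => (a : G) • χ = χ)).card = Nat.card (stab N A χ) := by
    rw [← Fintype.card_subtype, ← Nat.card_eq_fintype_card]
    apply Nat.card_congr
    exact ⟨fun a => ⟨a.1.1, a.1.2, a.2⟩, fun a => ⟨⟨a.1, a.2.1⟩, a.2.2⟩, fun _ => rfl, fun _ => rfl⟩
  rw [h2, h3] at h1
  rcases smul_eq_zero.1 h1 with h4 | h4
  · exact absurd h4 (card_ne_zero_of_le hA stab_le)
  · exact h4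

/-- The stabiliser of a weight is not trivial. -/
theorem stab_ne_bot [FiniteDimensional F V] (ρ : Representation F G V) (N : Subgroup G) [N.Normal] [Finite N]
    (hN : (Nat.card N : F) ≠ 0) (hcomm : ∀ a ∈ N, ∀ b ∈ N, a * b = b * a)
    (A : Subgroup G) [Finite A] (hA : (Nat.card A : F) ≠ 0)
    (hfix : ∀ v, (∀ a ∈ A, ρ a v = v) → v = 0) {χ : N → F} (hχ : wt ρ N χ ≠ ⊥) :
    stab N A χ ≠ ⊥ := by
  intro hb
  apply hχ
  rw [Submodule.eq_bot_iff]
  intro v hv
  apply eq_zero_of_stab_fixed ρ N hN hcomm A hA hfix hv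
  intro a ha ha'
  have h1 : a ∈ stab N A χ := ⟨ha, ha'⟩
  rw [hb, Subgroup.mem_bot] at h1
  rw [h1, map_one, End.one_apply]

theorem comm_of_smul_eq [IsAlgClosed F] [FiniteDimensional F V] (ρ : Representation F G V)
    (N : Subgroup G) [N.Normal] [Finite N] (hN : (Nat.card N : F) ≠ 0)
    (hcomm : ∀ a ∈ N, ∀ b ∈ N, a * b = b * a) (g : G)
    (hg : ∀ χ : N → F, wt ρ N χ ≠ ⊥ → g • χ = χ) : ∀ n ∈ N, ρ (g * n) = ρ (n * g) := by
  intro n hn
  have h1 : ∀ χ : N → F, wt ρ N χ ≤ LinearMap.ker (ρ (g * n) - ρ (n * g)) := by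
    intro χ v hv
    by_cases hχ : wt ρ N χ = ⊥
    · rw [hχ, Submodule.mem_bot] at hv
      rw [hv]; exact Submodule.zero_mem _
    rw [LinearMap.mem_ker, LinearMap.sub_apply, sub_eq_zero, map_mul, map_mul, End.mul_apply,
      End.mul_apply]
    have h2 := smul_mem_wt hv g
    rw [hg χ hχ] at h2
    rw [mem_wt] at hv h2
    have h3 := hv ⟨n, hn⟩
    have h4 := h2 ⟨n, hn⟩
    simp only at h3 h4
    rw [h3, h4, map_smul]
  have h2 : (⊤ : Submodule F V) ≤ LinearMap.ker (ρ (g * n) - ρ (n * g)) := by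
    rw [← iSup_wt ρ N hN hcomm]
    exact iSup_le h1
  ext v
  have h3 := h2 (Submodule.mem_top (x := v))
  rw [LinearMap.mem_ker, LinearMap.sub_apply, sub_eq_zero] at h3
  exact h3

end normal

section general

variable {F : Type*} [Field F] [IsAlgClosed F] {G : Type*} [Group G] {V : Type*} [AddCommGroup V]
  [Module F V] [FiniteDimensional F V]

/-- Lemma E: `A` normalises the abelian group `N`, all nontrivial subgroups of `A` contain `φ`, and `A` has
no nonzero fixed vectors; then `φ` commutes with `N` on `V`. -/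
theorem comm_of_min (ρ : Representation F G V) (N : Subgroup G) [Finite N]
    (hN : (Nat.card N : F) ≠ 0) (hcomm : ∀ a ∈ N, ∀ b ∈ N, a * b = b * a)
    (A : Subgroup G) [Finite A] (hA : (Nat.card A : F) ≠ 0) (hAN : A ≤ Subgroup.normalizer (N : Set G))
    (hfix : ∀ v, (∀ a ∈ A, ρ a v = v) → v = 0) {φ : G} (hφ : φ ∈ A)
    (hmin : ∀ H : Subgroup G, H ≤ A → H ≠ ⊥ → φ ∈ H) : ∀ n ∈ N, ρ (φ * n) = ρ (n * φ) := by
  let M : Subgroup G := Subgroup.normalizer (N : Set G)
  have hNM : N ≤ M := Subgroup.le_normalizer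
  have hcN : Nat.card (N.subgroupOf M) = Nat.card N :=
    Nat.card_congr (Subgroup.subgroupOfEquivOfLe hNM).toEquiv
  have hcA : Nat.card (A.subgroupOf M) = Nat.card A :=
    Nat.card_congr (Subgroup.subgroupOfEquivOfLe hAN).toEquiv
  have hfN : Finite (N.subgroupOf M) := (Subgroup.subgroupOfEquivOfLe hNM).finite_iff.2 inferInstance
  have hfA : Finite (A.subgroupOf M) := (Subgroup.subgroupOfEquivOfLe hAN).finite_iff.2 inferInstance
  have hnn : (N.subgroupOf M).Normal := Subgroup.normal_in_normalizer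
  have key := comm_of_smul_eq (ρ.comp M.subtype) (N.subgroupOf M) (by rw [hcN]; exact hN)
    (fun a ha b hb => Subtype.ext (hcomm a ha b hb)) ⟨φ, hAN hφ⟩ (by
      intro χ hχ
      have h1 := stab_ne_bot (ρ.comp M.subtype) (N.subgroupOf M) (by rw [hcN]; exact hN)
        (fun a ha b hb => Subtype.ext (hcomm a ha b hb)) (A.subgroupOf M) (by rw [hcA]; exact hA)
        (by
          intro v hv
          apply hfix
          intro a ha
          exact hv ⟨a, hAN ha⟩ ha) hχ
      have h2 := hmin ((stab (N.subgroupOf M) (A.subgroupOf M) χ).map M.subtype) (by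
        rintro _ ⟨a, ha, rfl⟩
        exact ha.1) (by
        intro h
        apply h1
        exact (Subgroup.map_eq_bot_iff_of_injective _ M.subtype_injective).1 h)
      obtain ⟨a, ha, ha'⟩ := h2
      have h3 : a = ⟨φ, hAN hφ⟩ := Subtype.ext ha'
      rw [← h3]
      exact ha.2)
  intro n hn
  exact key ⟨n, hNM hn⟩ hn

end general

/-- In a cyclic `p`-group every nontrivial subgroup contains the elements of order `p`. -/
theorem mem_of_ne_bot {G : Type*} [Group G] {p n : ℕ} (hp : p.Prime) {σ : G}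
    (hσ : σ ^ p ^ (n + 1) = 1) {H : Subgroup G} (hH : H ≤ Subgroup.zpowers σ) (hne : H ≠ ⊥) :
    σ ^ p ^ n ∈ H := by
  obtain ⟨⟨h, hh⟩, h1'⟩ := Subgroup.ne_bot_iff_exists_ne_one.1 hne
  have h1 : h ≠ 1 := fun h0 => h1' (Subtype.ext h0)
  obtain ⟨j, hj⟩ := hH hh
  have hj' : σ ^ j = h := hj
  -- Bezout
  have hb := Int.gcd_eq_gcd_ab j (p ^ (n + 1) : ℕ)
  have hg : (Int.gcd j (p ^ (n + 1) : ℕ)) ∣ p ^ (n + 1) := by
    have := Int.gcd_dvd_natAbs_right j ((p ^ (n + 1) : ℕ) : ℤ)
    rwa [Int.natAbs_natCast] at this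
  obtain ⟨i, hi, hi'⟩ := (Nat.dvd_prime_pow hp).1 hg
  have hmem : σ ^ p ^ i ∈ H := by
    have h2 : σ ^ ((p ^ i : ℕ) : ℤ) = h ^ (Int.gcdA j (p ^ (n + 1) : ℕ)) := by
      rw [← hi', hb, zpow_add, zpow_mul, hj', zpow_mul, zpow_natCast, hσ, one_zpow, mul_one]
    rw [zpow_natCast] at h2
    rw [h2]
    exact H.zpow_mem hh _
  have hin : i ≤ n := by
    by_contra hcon
    have hi2 : i = n + 1 := by omega
    apply h1
    have h3 : ((p ^ (n + 1) : ℕ) : ℤ) ∣ j := by
      rw [← hi2, ← hi']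
      exact Int.gcd_dvd_left ..
    obtain ⟨m, hm⟩ := h3
    rw [← hj', hm, zpow_mul, zpow_natCast, hσ, one_zpow]
  have h4 : σ ^ p ^ n = (σ ^ p ^ i) ^ p ^ (n - i) := by
    rw [← pow_mul, ← pow_add]
    congr 2
    omega
  rw [h4]
  exact H.pow_mem hmem _

end Cfsg.Agent.H452.Orbit
end

-- part: H452/T2
section
/-!
# The two-step property for a cyclic `p`-group: reduction to the critical configuration

`Cyc p m Γ A D` : `A = ⟨σ⟩`, `D = ⟨σ ^ p ^ m⟩`, `σ ^ p ^ (m + 1) = 1`.
`Crit` : the critical configuration; `t2_of_noCrit`: if it does not occur then `T2 p (Cyc p m)`.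
`t2_two`: `T2 2 (Cyc 2 1)`.
-/

set_option autoImplicit false

namespace Cfsg.Agent.H452.T2

open Module
open Cfsg.Agent.OddOrderLocal.Thm34Weights
open Cfsg.Agent.Lib.CoprimeCommutator
open Cfsg.Agent.H452.Base Cfsg.Agent.H452.TopN Cfsg.Agent.H452.MinAct Cfsg.Agent.H452.Orbit

attribute [local instance] wtAction

universe u

/-- `A = ⟨σ⟩` with `σ ^ p ^ (m + 1) = 1` and `D = ⟨σ ^ p ^ m⟩`. -/
def Cyc (p m : ℕ) : Pr.{u} := fun Γ _ A D =>
  ∃ σ : Γ, A = Subgroup.zpowers σ ∧ D = Subgroup.zpowers (σ ^ p ^ m) ∧ σ ^ p ^ (m + 1) = 1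

theorem pow_mem_zpowers {Γ : Type*} [Group Γ] (σ : Γ) (k : ℕ) :
    Subgroup.zpowers (σ ^ k) ≤ Subgroup.zpowers σ := by
  rw [Subgroup.zpowers_le]
  exact Subgroup.pow_mem _ (Subgroup.mem_zpowers σ) _

theorem zpowers_le_normalizer_pow {Γ : Type*} [Group Γ] (σ : Γ) (k : ℕ) :
    Subgroup.zpowers σ ≤ Subgroup.normalizer (Subgroup.zpowers (σ ^ k) : Set Γ) := by
  apply le_normalizer_of_conj
  rintro a ⟨i, rfl⟩ x ⟨j, rfl⟩
  have h1 : Commute (σ ^ i) ((σ ^ k) ^ j) :=
    (((Commute.refl σ).pow_right k).zpow_right j).zpow_left i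
  show σ ^ i * (σ ^ k) ^ j * (σ ^ i)⁻¹ ∈ _
  rw [h1.eq, mul_inv_cancel_right]
  exact ⟨j, rfl⟩

theorem closed_cyc (p m : ℕ) : Closed p (Cyc.{u} p m) where
  le := by
    rintro Γ _ A D ⟨σ, rfl, rfl, _⟩
    exact pow_mem_zpowers σ _
  norm := by
    rintro Γ _ A D ⟨σ, rfl, rfl, _⟩
    exact zpowers_le_normalizer_pow σ _
  quot := by
    rintro Γ _ _ A D N _ _ ⟨σ, rfl, rfl, h⟩
    refine ⟨QuotientGroup.mk' N σ, MonoidHom.map_zpowers _ _, ?_, ?_⟩
    · rw [MonoidHom.map_zpowers, map_pow]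
    · rw [← map_pow, h, map_one]

/-- The critical configuration. -/
structure Crit (p m r : ℕ) {F : Type*} [Field F] {Γ : Type*} [Group Γ] {V : Type*}
    [AddCommGroup V] [Module F V] (ρ : Representation F Γ V) (σ : Γ) (Q Z : Subgroup Γ) : Prop where
  prime : r.Prime
  ne : r ≠ p
  pF : (p : F) ≠ 0
  rF : (r : F) ≠ 0
  faithful : ∀ g, ρ g = 1 → g = 1
  pow : σ ^ p ^ (m + 1) = 1
  isp : IsPGroup r Q
  normQ : Q.Normal
  normZ : Z.Normal
  le : Z ≤ Q
  central : ∀ z ∈ Z, ∀ x ∈ Q, z * x = x * z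
  mem : ∀ x ∈ Q, (∀ y ∈ Q, x * y = y * x) → x ∈ Z
  comm : ∀ x ∈ Q, ∀ y ∈ Q, x * y * x⁻¹ * y⁻¹ ∈ Z
  rpow : ∀ x ∈ Q, x ^ r ∈ Z
  fixZ : ∀ x ∈ Q, (x ∈ Z ↔ x * σ ^ p ^ m = σ ^ p ^ m * x)
  gen : ⁅Q, Subgroup.zpowers (σ ^ p ^ m)⁆ = Q
  fixQ : ∀ x ∈ Q, σ * x = x * σ → x = 1
  fixV : ∀ v, ρ σ v = v → v = 0
  ne_bot : Z ≠ ⊥

theorem commute_zpowers {Γ : Type*} [Group Γ] {σ x : Γ} (h : σ * x = x * σ) :
    ∀ a ∈ Subgroup.zpowers σ, a * x = x * a := by
  rintro _ ⟨i, rfl⟩
  exact ((show Commute σ x from h).zpow_left i)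

theorem isPGroup_zpowers {Γ : Type*} [Group Γ] {p k : ℕ} [Fact p.Prime] {σ : Γ}
    (hσ : σ ^ p ^ k = 1) : IsPGroup p (Subgroup.zpowers σ) := by
  rintro ⟨_, i, rfl⟩
  refine ⟨k, Subtype.ext ?_⟩
  show (σ ^ i) ^ p ^ k = 1
  rw [← zpow_natCast, ← zpow_mul, mul_comm, zpow_mul, zpow_natCast, hσ, one_zpow]

theorem cast_card_ne_zero {Γ : Type*} [Group Γ] {p : ℕ} [Fact p.Prime] {F : Type*} [Field F]
    (hp : (p : F) ≠ 0) {P : Subgroup Γ} [Finite P] (hP : IsPGroup p P) : (Nat.card P : F) ≠ 0 := by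
  obtain ⟨k, hk⟩ := IsPGroup.iff_card.1 hP
  rw [hk, Nat.cast_pow]
  exact pow_ne_zero _ hp

section crit

variable {p m r : ℕ} {F : Type*} [Field F] {Γ : Type*} [Group Γ] [Finite Γ] {V : Type*}
    [AddCommGroup V] [Module F V] {ρ : Representation F Γ V} {σ : Γ} {Q Z : Subgroup Γ}

omit [Finite Γ] in
theorem Crit.abel (h : Crit p m r ρ σ Q Z) : ∀ a ∈ Z, ∀ b ∈ Z, a * b = b * a :=
  fun a ha b hb => h.central a ha b (h.le hb)

theorem Crit.cardZ (h : Crit p m r ρ σ Q Z) : (Nat.card Z : F) ≠ 0 := by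
  have : Fact r.Prime := ⟨h.prime⟩
  exact cast_card_ne_zero h.rF (h.isp.to_le h.le)

theorem Crit.cardQ (h : Crit p m r ρ σ Q Z) : (Nat.card Q : F) ≠ 0 := by
  have : Fact r.Prime := ⟨h.prime⟩
  exact cast_card_ne_zero h.rF h.isp

theorem Crit.cardC [Fact p.Prime] (h : Crit p m r ρ σ Q Z) :
    (Nat.card (Subgroup.zpowers σ) : F) ≠ 0 :=
  cast_card_ne_zero h.pF (isPGroup_zpowers h.pow)

omit [Finite Γ] in
/-- elements of `Q` fix all weights of `Z` -/
theorem Crit.smul_eq (h : Crit p m r ρ σ Q Z) [Z.Normal] (χ : Z → F) {x : Γ} (hx : x ∈ Q) :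
    x • χ = χ := by
  funext z
  rw [wt_smul_def]
  congr 1
  apply Subtype.ext
  rw [MulAut.conjNormal_apply]
  have := h.central z z.2 x⁻¹ (Q.inv_mem hx)
  rw [← this, mul_inv_cancel_right]

omit [Finite Γ] in
theorem Crit.ne_one (h : Crit p m r ρ σ Q Z) : σ ^ p ^ m ≠ 1 := by
  intro h1
  have h2 := h.gen
  rw [h1, Subgroup.zpowers_one_eq_bot, Subgroup.commutator_bot_right] at h2
  apply h.ne_bot
  rw [eq_bot_iff, h2]
  exact h.le

/-- There is a weight of `Z` with nonzero weight space and which is not trivial. -/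
theorem Crit.exists_weight [IsAlgClosed F] [FiniteDimensional F V] (h : Crit p m r ρ σ Q Z) :
    ∃ χ : Z → F, wt ρ Z χ ≠ ⊥ ∧ ∃ z, χ z ≠ 1 := by
  by_contra hcon
  push Not at hcon
  apply h.ne_bot
  rw [eq_bot_iff]
  intro z hz
  rw [Subgroup.mem_bot]
  apply h.faithful
  have h1 : (⊤ : Submodule F V) ≤ LinearMap.ker (ρ z - 1) := by
    rw [← iSup_wt ρ Z h.cardZ h.abel]
    apply iSup_le
    intro χ v hv
    by_cases hχ : wt ρ Z χ = ⊥
    · rw [hχ, Submodule.mem_bot] at hv
      rw [hv]; exact Submodule.zero_mem _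
    · rw [mem_wt] at hv
      have h2 := hv ⟨z, hz⟩
      rw [hcon χ hχ, one_smul] at h2
      rw [LinearMap.mem_ker, LinearMap.sub_apply, sub_eq_zero]
      exact h2
  ext v
  have h3 := h1 (Submodule.mem_top (x := v))
  rw [LinearMap.mem_ker, LinearMap.sub_apply, sub_eq_zero] at h3
  exact h3

/-- A weight invariant under `σ` is trivial. -/
theorem Crit.eq_one_of_smul (h : Crit p m r ρ σ Q Z) [Z.Normal] {χ : Z → F} (hχ : wt ρ Z χ ≠ ⊥)
    (hs : σ • χ = χ) (z : Z) : χ z = 1 := by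
  let f : Z → Z := fun w => w⁻¹ * MulAut.conjNormal σ w
  have hf : Function.Injective f := by
    intro a b hab
    have h1 : (a : Γ)⁻¹ * (σ * a * σ⁻¹) = (b : Γ)⁻¹ * (σ * b * σ⁻¹) := by
      have := congrArg Subtype.val hab
      simpa [f, MulAut.conjNormal_apply] using this
    have h2 : ((b : Γ) * (a : Γ)⁻¹) = 1 := by
      apply h.fixQ _ (Q.mul_mem (h.le b.2) (Q.inv_mem (h.le a.2)))
      have h3 : (b : Γ) * (a : Γ)⁻¹ = (σ * b * σ⁻¹) * (σ * a * σ⁻¹)⁻¹ := by
        rw [eq_mul_inv_iff_mul_eq, mul_assoc, h1, mul_inv_cancel_left]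
      have h4 : (σ * b * σ⁻¹) * (σ * a * σ⁻¹)⁻¹ = σ * (b * (a : Γ)⁻¹) * σ⁻¹ := by group
      rw [h4] at h3
      rw [← mul_inv_eq_iff_eq_mul, ← h3]
    exact Subtype.ext (mul_inv_eq_one.1 h2).symm
  obtain ⟨w, hw⟩ := (Finite.injective_iff_surjective.1 hf) z
  rw [← hw]
  show χ (w⁻¹ * MulAut.conjNormal σ w) = 1
  have h5 : χ (MulAut.conjNormal σ w) = χ w := by
    have h6 := congrFun hs (MulAut.conjNormal σ w)
    rw [wt_smul_def] at h6
    rw [← h6]
    congr 1
    rw [map_inv]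
    exact (MulAut.conjNormal (H := Z) σ).symm_apply_apply w
  rw [wt_mul hχ, h5, ← wt_mul hχ, inv_mul_cancel, wt_one hχ]

end crit

/-- no critical configuration over `F` -/
def NoCrit (p m : ℕ) (F : Type) [Field F] : Prop :=
  ∀ (r : ℕ) (Γ : Type u) [Group Γ] [Finite Γ] (V : Type u) [AddCommGroup V] [Module F V]
    [FiniteDimensional F V] (ρ : Representation F Γ V) (σ : Γ) (Q Z : Subgroup Γ),
    ¬ Crit p m r ρ σ Q Z

section reduction

variable {p m : ℕ} [hp : Fact p.Prime] {F : Type} [Field F] [IsAlgClosed F]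

theorem pow_fixed {Γ : Type*} [Group Γ] {F : Type*} [Field F] {V : Type*} [AddCommGroup V] [Module F V]
    (ρ : Representation F Γ V) {σ : Γ} {v : V} (h : ρ σ v = v) : ∀ a ∈ Subgroup.zpowers σ, ρ a v = v := by
  rintro _ ⟨i, rfl⟩
  have hinv : ρ σ⁻¹ v = v := by
    conv_lhs => rw [← h]
    rw [← End.mul_apply, ← map_mul, inv_mul_cancel, map_one, End.one_apply]
  have hn : ∀ n : ℕ, ρ (σ ^ n) v = v := by
    intro n
    induction n with
    | zero => rw [pow_zero, map_one, End.one_apply]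
    | succ n ih => rw [pow_succ, map_mul, End.mul_apply, h, ih]
  have hn' : ∀ n : ℕ, ρ (σ⁻¹ ^ n) v = v := by
    intro n
    induction n with
    | zero => rw [pow_zero, map_one, End.one_apply]
    | succ n ih => rw [pow_succ, map_mul, End.mul_apply, hinv, ih]
  obtain ⟨n, rfl | rfl⟩ := i.eq_nat_or_neg
  · show ρ (σ ^ (n : ℤ)) v = v
    rw [zpow_natCast]; exact hn n
  · show ρ (σ ^ (-(n : ℤ))) v = v
    rw [zpow_neg, zpow_natCast, ← inv_pow]; exact hn' n

theorem faithful_case (hN : NoCrit.{u} p m F) {Γ : Type u} [Group Γ] [Finite Γ] {V : Type u}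
    [AddCommGroup V] [Module F V] [FiniteDimensional F V] (ρ : Representation F Γ V)
    (hρ : ∀ g, ρ g = 1 → g = 1) {σ : Γ} (hσ : σ ^ p ^ (m + 1) = 1) {r : ℕ} (hr : r.Prime)
    (hrp : r ≠ p) (hpF : (p : F) ≠ 0) (hrF : (r : F) ≠ 0) (hV : ∀ v, ρ σ v = v → v = 0) :
    ∀ (k : ℕ) (Q : Subgroup Γ), Nat.card Q = k → IsPGroup r Q →
      Subgroup.zpowers σ ≤ Subgroup.normalizer (Q : Set Γ) → (∀ x ∈ Q, σ * x = x * σ → x = 1) →
      ⁅Q, Subgroup.zpowers (σ ^ p ^ m)⁆ = ⊥ := by
  intro k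
  induction k using Nat.strong_induction_on with
  | _ k ih =>
  intro Q hk hQ hσQ hfix
  have hrf : Fact r.Prime := ⟨hr⟩
  by_contra hne
  have hC : IsPGroup p (Subgroup.zpowers σ) := isPGroup_zpowers hσ
  have hrY : ¬ r ∣ Nat.card (Subgroup.zpowers (σ ^ p ^ m)) := by
    obtain ⟨j, hj⟩ := IsPGroup.iff_card.1 (hC.to_le (pow_mem_zpowers σ (p ^ m)))
    rw [hj]
    intro hd
    exact hrp ((Nat.prime_dvd_prime_iff_eq hr hp.out).1 (hr.dvd_of_dvd_pow hd))
  have hproper : ∀ H : Subgroup Γ, H ≤ Q → H ≠ Q →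
      Subgroup.zpowers σ ≤ Subgroup.normalizer (H : Set Γ) →
      ⁅H, Subgroup.zpowers (σ ^ p ^ m)⁆ = ⊥ := by
    intro H hHQ hHne hH
    apply ih (Nat.card H) _ H rfl (hQ.to_le hHQ) hH (fun x hx => hfix x (hHQ hx))
    rw [← hk]
    have hlt : H < Q := lt_of_le_of_ne hHQ hHne
    exact Set.Finite.card_lt_card (Set.toFinite _) hlt
  obtain ⟨h1, h2, h3, h4, h5⟩ := minAct hQ (pow_mem_zpowers σ (p ^ m))
    (zpowers_le_normalizer_pow σ (p ^ m)) hσQ hrY hproper hne
  by_cases hab : ⁅Q, Q⁆ = ⊥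
  · apply hne
    rw [MinAct.commutator_eq_bot_iff] at hab ⊢
    have h6 := comm_of_min ρ Q (cast_card_ne_zero hrF hQ) hab (Subgroup.zpowers σ)
      (cast_card_ne_zero hpF hC) hσQ (fun v hv => hV v (hv σ (Subgroup.mem_zpowers σ)))
      (φ := σ ^ p ^ m) (Subgroup.pow_mem _ (Subgroup.mem_zpowers σ) _)
      (fun H hH hH1 => mem_of_ne_bot hp.out hσ hH hH1)
    intro x hx y hy
    have h7 := h6 x hx
    have h8 : σ ^ p ^ m * x = x * σ ^ p ^ m := by
      have h9 : ρ ((σ ^ p ^ m * x) * (x * σ ^ p ^ m)⁻¹) = 1 := by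
        rw [map_mul, h7, ← map_mul, mul_inv_cancel, map_one]
      exact mul_inv_eq_one.1 (hρ _ h9)
    exact (commute_zpowers h8 y hy).symm
  · have h6 := h5 hab
    set Z : Subgroup Γ := Q ⊓ Subgroup.centralizer (Q : Set Γ) with hZdef
    have hQQZ : ⁅Q, Q⁆ ≤ Z := h2
    have hCZ : Q ⊓ Subgroup.centralizer (Subgroup.zpowers (σ ^ p ^ m) : Set Γ) ≤ Z := h3.trans h2
    let M : Subgroup Γ := Q ⊔ Subgroup.zpowers σ
    have hQM : Q ≤ M := le_sup_left
    have hσM : σ ∈ M := (le_sup_right : Subgroup.zpowers σ ≤ M) (Subgroup.mem_zpowers σ)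
    have hMQ : M ≤ Subgroup.normalizer (Q : Set Γ) := sup_le Subgroup.le_normalizer hσQ
    have hMZ : M ≤ Subgroup.normalizer (Z : Set Γ) :=
      le_normalizer_inf hMQ (le_normalizer_centralizer hMQ)
    have hZQ : Z ≤ Q := inf_le_left
    have hQe : (Q.subgroupOf M).map M.subtype = Q := by
      rw [Subgroup.subgroupOf_map_subtype, inf_eq_left.2 hQM]
    apply hN r M V (ρ.comp M.subtype) ⟨σ, hσM⟩ (Q.subgroupOf M) (Z.subgroupOf M)
    exact
    { prime := hr
      ne := hrp
      pF := hpF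
      rF := hrF
      faithful := fun g hg => Subtype.ext (hρ g hg)
      pow := Subtype.ext hσ
      isp := hQ.of_equiv (Subgroup.subgroupOfEquivOfLe hQM).symm
      normQ := Subgroup.normal_subgroupOf_of_le_normalizer hMQ
      normZ := Subgroup.normal_subgroupOf_of_le_normalizer hMZ
      le := fun x hx => hZQ hx
      central := fun z hz x hx => Subtype.ext ((mem_inf_centralizer.1 hz).2 x hx)
      mem := fun x hx hxy => by
        rw [Subgroup.mem_subgroupOf, hZdef, mem_inf_centralizer]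
        exact ⟨hx, fun y hy => congrArg Subtype.val (hxy ⟨y, hQM hy⟩ hy)⟩
      comm := fun x hx y hy => by
        rw [Subgroup.mem_subgroupOf]
        apply hQQZ
        have := Subgroup.commutator_mem_commutator (H₁ := Q) (H₂ := Q) hx hy
        rwa [commutatorElement_def] at this
      rpow := fun x hx => by
        rw [Subgroup.mem_subgroupOf]
        exact hQQZ (h4 x hx)
      fixZ := fun x hx => by
        rw [Subgroup.mem_subgroupOf]
        constructor
        · intro hz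
          exact Subtype.ext ((mem_inf_centralizer.1 (h6 hz)).2 _ (Subgroup.mem_zpowers _))
        · intro hz
          apply hCZ
          rw [mem_inf_centralizer]
          refine ⟨hx, fun y hy => ?_⟩
          have h7 : σ ^ p ^ m * (x : Γ) = x * σ ^ p ^ m := (congrArg Subtype.val hz).symm
          exact (commute_zpowers h7 y hy).symm
      gen := by
        apply Subgroup.map_injective M.subtype_injective
        rw [Subgroup.map_commutator, MonoidHom.map_zpowers, hQe]
        exact h1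
      fixQ := fun x hx hσx => Subtype.ext (hfix x hx (congrArg Subtype.val hσx))
      fixV := fun v hv => hV v hv
      ne_bot := by
        intro hb
        apply hab
        rw [eq_bot_iff]
        intro x hx
        have h7 : (⟨x, hQM (Subgroup.commutator_le_self Q hx)⟩ : M) ∈ Z.subgroupOf M := hQQZ hx
        rw [hb, Subgroup.mem_bot] at h7
        exact congrArg Subtype.val h7 }

theorem t2_of_noCrit (h : ∀ (F : Type) [Field F] [IsAlgClosed F], NoCrit.{u} p m F) :
    T2 p (Cyc.{u} p m) := by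
  rintro Γ _ _ A D Q r F _ _ V _ _ _ ρ ⟨σ, rfl, rfl, hσ⟩ hA hr hrp hQ hAQ hfix hpF hrF hV
  let N : Subgroup Γ := MonoidHom.ker ρ
  have hNn : N.Normal := MonoidHom.normal_ker ρ
  let ρ' : Representation F (Γ ⧸ N) V := QuotientGroup.lift N ρ le_rfl
  have hρ' : ∀ g, ρ' g = 1 → g = 1 := by
    intro g hg
    obtain ⟨g, rfl⟩ := QuotientGroup.mk_surjective g
    exact (QuotientGroup.eq_one_iff g).2 (MonoidHom.mem_ker.2 hg)
  have hAn : Subgroup.zpowers σ ≤ Subgroup.normalizer ((N ⊓ Q : Subgroup Γ) : Set Γ) :=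
    le_normalizer_inf (by rw [Subgroup.normalizer_eq_top_iff.2 hNn]; exact le_top) hAQ
  have hrf : Fact r.Prime := ⟨hr⟩
  have hpN : ¬ p ∣ Nat.card (N ⊓ Q : Subgroup Γ) := by
    obtain ⟨j, hj⟩ := IsPGroup.iff_card.1 (hQ.to_le (inf_le_right : N ⊓ Q ≤ Q))
    rw [hj]
    intro hd
    exact hrp ((Nat.prime_dvd_prime_iff_eq hp.out hr).1 (hp.out.dvd_of_dvd_pow hd)).symm
  have key := faithful_case (h F) ρ' hρ' (σ := QuotientGroup.mk' N σ) (by rw [← map_pow, hσ, map_one])
    hr hrp hpF hrF (fun v hv => hV v (fun a ha => pow_fixed ρ hv a ha)) _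
    (Q.map (QuotientGroup.mk' N)) rfl (hQ.map _) (by
      rw [← MonoidHom.map_zpowers]
      apply le_normalizer_of_conj
      rintro _ ⟨a, ha, rfl⟩ _ ⟨x, hx, rfl⟩
      exact ⟨a * x * a⁻¹, conj_of_le_normalizer hAQ ha hx, by rw [map_mul, map_mul, map_inv]⟩) (by
      rintro _ ⟨x, hx, rfl⟩ hσx
      refine (QuotientGroup.eq_one_iff x).2 ?_
      refine (mem_of_fixed_mod (G := Q) (N := N ⊓ Q) hA hfix inf_le_right hpN hAn hx ?_).1
      intro a ha
      refine ⟨?_, Q.mul_mem (Q.inv_mem hx) (conj_of_le_normalizer hAQ ha hx)⟩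
      have h1 := commute_zpowers hσx (QuotientGroup.mk' N a) (by
        rw [← MonoidHom.map_zpowers]; exact ⟨a, ha, rfl⟩)
      show _ ∈ N
      rw [← QuotientGroup.eq]
      show QuotientGroup.mk' N x = QuotientGroup.mk' N (a * x * a⁻¹)
      rw [map_mul, map_mul, h1, map_inv, mul_inv_cancel_right])
  intro x hx d hd
  rw [MinAct.commutator_eq_bot_iff] at key
  have h1 := key (QuotientGroup.mk' N x) ⟨x, hx, rfl⟩ (QuotientGroup.mk' N d) (by
    rw [← map_pow, ← MonoidHom.map_zpowers]; exact ⟨d, hd, rfl⟩)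
  have h2 := congrArg ρ' h1
  rw [← map_mul, ← map_mul] at h2
  exact h2

end reduction

/-- For `p = 2`, `m = 1` there is no critical configuration. -/
theorem noCrit_two (F : Type) [Field F] [IsAlgClosed F] : NoCrit.{u} 2 1 F := by
  intro r Γ _ _ V _ _ _ ρ σ Q Z h
  have : Fact (2 : ℕ).Prime := ⟨Nat.prime_two⟩
  have hZn := h.normZ
  obtain ⟨χ, hχ, z, hz⟩ := h.exists_weight
  have hσ4 : σ ^ 4 = 1 := h.pow
  have hfix : ∀ v, (∀ a ∈ Subgroup.zpowers σ, ρ a v = v) → v = 0 :=
    fun v hv => h.fixV v (hv σ (Subgroup.mem_zpowers σ))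
  have hS := stab_ne_bot ρ Z h.cardZ h.abel (Subgroup.zpowers σ) h.cardC hfix hχ
  have hφS : σ ^ 2 ^ 1 ∈ stab Z (Subgroup.zpowers σ) χ :=
    mem_of_ne_bot Nat.prime_two h.pow stab_le hS
  have hσS : σ ∉ stab Z (Subgroup.zpowers σ) χ := by
    intro hσS
    exact hz (h.eq_one_of_smul hχ hσS.2 z)
  have hφ : σ ^ 2 ^ 1 = σ * σ := by rw [pow_one, sq]
  rw [hφ] at hφS
  have hcases : ∀ a ∈ stab Z (Subgroup.zpowers σ) χ, a = 1 ∨ a = σ * σ := by
    rintro a ha
    obtain ⟨j, hj⟩ := ha.1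
    have hj' : σ ^ j = a := hj
    have h4 : σ ^ (4 : ℤ) = 1 := by exact_mod_cast hσ4
    have h5 : ∃ k : ℤ, j = 4 * k + j % 4 := ⟨j / 4, (Int.mul_ediv_add_emod j 4).symm⟩
    obtain ⟨k, hk⟩ := h5
    have h6 : σ ^ (j % 4) = a := by
      rw [← hj']
      conv_rhs => rw [hk, zpow_add, zpow_mul, h4, one_zpow, one_mul]
    have h7 : j % 4 = 0 ∨ j % 4 = 1 ∨ j % 4 = 2 ∨ j % 4 = 3 := by omega
    rcases h7 with h7 | h7 | h7 | h7
    · left; rw [← h6, h7, zpow_zero]
    · exfalso; apply hσS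
      have h8 : a = σ := by rw [← h6, h7, zpow_one]
      rwa [h8] at ha
    · right; rw [← h6, h7]; rw [zpow_ofNat, sq]
    · exfalso; apply hσS
      have h8 : a⁻¹ = σ := by
        rw [← h6, h7, inv_eq_iff_mul_eq_one]
        rw [zpow_ofNat, ← pow_succ]
        exact hσ4
      have h9 := Subgroup.inv_mem _ ha
      rwa [h8] at h9
  -- `φ` acts as `-1`
  have hneg : ∀ v ∈ wt ρ Z χ, ρ (σ * σ) v = - v := by
    intro v hv
    have h1 : v + ρ (σ * σ) v ∈ wt ρ Z χ := by
      have h2 := smul_mem_wt hv (σ * σ)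
      rw [hφS.2] at h2
      exact Submodule.add_mem _ hv h2
    have h3 : v + ρ (σ * σ) v = 0 := by
      apply eq_zero_of_stab_fixed ρ Z h.cardZ h.abel (Subgroup.zpowers σ) h.cardC hfix h1
      intro a ha ha'
      rcases hcases a ⟨ha, ha'⟩ with rfl | rfl
      · rw [map_one, End.one_apply]
      · rw [map_add, ← End.mul_apply, ← map_mul]
        have h5 : σ * σ * (σ * σ) = 1 := by
          rw [← hσ4, pow_succ, pow_succ, pow_succ, pow_one]; simp only [mul_assoc]
        rw [h5, map_one, End.one_apply, add_comm]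
    exact eq_neg_of_add_eq_zero_right h3
  -- `Q` acts trivially on the weight space
  let T : Subgroup Γ :=
    { carrier := {x | ∀ v ∈ wt ρ Z χ, ρ x v = v}
      mul_mem' := fun {a b} ha hb v hv => by rw [map_mul, End.mul_apply, hb v hv, ha v hv]
      one_mem' := fun v _ => by rw [map_one, End.one_apply]
      inv_mem' := fun {a} ha v hv => by
        conv_lhs => rw [← ha v hv]
        rw [← End.mul_apply, ← map_mul, inv_mul_cancel, map_one, End.one_apply] }
  have hQT : Q ≤ T := by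
    conv_lhs => rw [← h.gen]
    rw [Subgroup.commutator_le]
    intro x hx d hd
    have hd' : d = 1 ∨ d = σ * σ := by
      apply hcases
      refine ⟨(pow_mem_zpowers σ _) hd, ?_⟩
      obtain ⟨i, hi⟩ := hd
      have hi' : (σ ^ 2 ^ 1) ^ i = d := hi
      rw [hφ] at hi'
      rw [← hi']
      have h8 : (σ * σ) ^ i ∈ stab Z (Subgroup.zpowers σ) χ := Subgroup.zpow_mem _ hφS i
      exact h8.2
    rcases hd' with rfl | rfl
    · rw [commutatorElement_one_right]; exact T.one_mem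
    · intro v hv
      rw [commutatorElement_def]
      have hw : ∀ y ∈ Q, ∀ v ∈ wt ρ Z χ, ρ y v ∈ wt ρ Z χ := by
        intro y hy v hv
        have h9 := smul_mem_wt hv y
        rwa [h.smul_eq χ hy] at h9
      have h10 : (σ * σ)⁻¹ = σ * σ := by
        rw [inv_eq_iff_mul_eq_one, ← hσ4, pow_succ, pow_succ, pow_succ, pow_one]
        simp only [mul_assoc]
      rw [h10, map_mul, map_mul, map_mul, End.mul_apply, End.mul_apply, End.mul_apply, hneg v hv,
        map_neg, map_neg, map_neg, hneg _ (hw _ (Q.inv_mem hx) _ hv), map_neg, neg_neg,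
        ← End.mul_apply, ← map_mul, mul_inv_cancel, map_one, End.one_apply]
  obtain ⟨v, hv, hv0⟩ := Submodule.exists_mem_ne_zero_of_ne_bot hχ
  have h11 := hQT (h.le z.2) v hv
  rw [mem_wt] at hv
  rw [hv z] at h11
  have h12 : (χ z - 1) • v = 0 := by rw [sub_smul, one_smul, h11, sub_self]
  rcases smul_eq_zero.1 h12 with h13 | h13
  · exact hz (sub_eq_zero.1 h13)
  · exact hv0 h13

theorem t2_two : T2 2 (Cyc.{u} 2 1) := by
  have : Fact (2 : ℕ).Prime := ⟨Nat.prime_two⟩
  exact t2_of_noCrit (fun F _ _ => noCrit_two F)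

end Cfsg.Agent.H452.T2
end
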