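import Mathlib
import Cfsg.Agent.Blocks.ModularTraces
import Cfsg.Agent.H452.Ext_mg
import Cfsg.Agent.H452.Two
set_option linter.all false

-- part: H452/Eig
section
/-!
# Dimension of the centraliser of a diagonalisable endomorphism
-/

set_option autoImplicit false

namespace Cfsg.Agent.H452.Eig

open Module

/-- the centraliser of an endomorphism, as a subspace -/
abbrev cent {F : Type*} [Field F] {V : Type*} [AddCommGroup V] [Module F V] (f : End F V) :
    Submodule F (End F V) := LinearMap.ker (LinearMap.mulLeft F f - LinearMap.mulRight F f)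

theorem mem_cent {F : Type*} [Field F] {V : Type*} [AddCommGroup V] [Module F V] {f T : End F V} :
    T ∈ cent f ↔ f * T = T * f := by
  rw [LinearMap.mem_ker, LinearMap.sub_apply, sub_eq_zero]
  rfl

/-- a separable polynomial of the form `X ^ n - a` gives semisimplicity -/
theorem isSemisimple_of_pow {F : Type*} [Field F] {V : Type*} [AddCommGroup V] [Module F V]
    (f : End F V) {n : ℕ} (hn : (n : F) ≠ 0) {a : F} (ha : a ≠ 0) (hf : f ^ n = a • 1) :
    f.IsSemisimple := by
  have hsq : Squarefree (Polynomial.X ^ n - Polynomial.C a : Polynomial F) :=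
    Polynomial.Separable.squarefree (Polynomial.separable_X_pow_sub_C a hn ha)
  apply Module.End.isSemisimple_of_squarefree_aeval_eq_zero hsq
  rw [map_sub, map_pow, Polynomial.aeval_X, Polynomial.aeval_C, hf, sub_eq_zero]
  ext v
  simp [Module.algebraMap_end_apply]

theorem centralizer_bounds {F : Type*} [Field F] [IsAlgClosed F] {V : Type*} [AddCommGroup V]
    [Module F V] [FiniteDimensional F V] (f : End F V) (hss : f.IsSemisimple) (S : Finset F)
    (hS : ∀ μ, End.eigenspace f μ ≠ ⊥ → μ ∈ S) :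
    (finrank F V) ^ 2 ≤ S.card * finrank F (cent f) ∧ finrank F V ≤ finrank F (cent f) := by
  classical
  have htop := hss.iSup_eigenspace_eq_top
  have hbot : ∀ μ : F, μ ∉ S → End.eigenspace f μ = ⊥ := by
    intro μ hμ
    by_contra h
    exact hμ (hS μ h)
  have hind : iSupIndep (fun μ : S => End.eigenspace f (μ : F)) :=
    (End.eigenspaces_iSupIndep f).comp Subtype.val_injective
  have hsup : ⨆ μ : S, End.eigenspace f (μ : F) = ⊤ := by
    rw [eq_top_iff, ← htop]
    apply iSup_le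
    intro μ
    by_cases h : μ ∈ S
    · exact le_iSup (fun μ : S => End.eigenspace f (μ : F)) ⟨μ, h⟩
    · rw [hbot μ h]; exact bot_le
  have hint := DirectSum.isInternal_submodule_of_iSupIndep_of_iSup_eq_top hind hsup
  let e : (DirectSum S fun μ => End.eigenspace f (μ : F)) ≃ₗ[F] V :=
    LinearEquiv.ofBijective (DirectSum.coeLinearMap _) hint
  have hdim : finrank F V = ∑ μ : S, finrank F (End.eigenspace f (μ : F)) := by
    rw [← e.finrank_eq, Module.finrank_directSum]
  have he : ∀ (μ : S) (v : End.eigenspace f (μ : F)),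
      e (DirectSum.lof F S (fun μ : S => End.eigenspace f (μ : F)) μ v) = v := by
    intro μ v
    exact DirectSum.coeLinearMap_lof (fun μ : S => End.eigenspace f (μ : F)) μ v
  let D : (DirectSum S fun μ => End.eigenspace f (μ : F)) →ₗ[F]
      (DirectSum S fun μ => End.eigenspace f (μ : F)) :=
    DirectSum.lmap (fun μ : S => (μ : F) • (LinearMap.id : End.eigenspace f (μ : F) →ₗ[F] _))
  have hfe : ∀ w, f (e w) = e (D w) := by
    intro w
    have : f ∘ₗ e.toLinearMap = e.toLinearMap ∘ₗ D := by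
      apply DirectSum.linearMap_ext
      intro μ
      ext v
      simp only [D, LinearMap.coe_comp, Function.comp_apply, LinearEquiv.coe_coe, he,
        DirectSum.lmap_lof, LinearMap.smul_apply, LinearMap.id_coe, id_eq]
      rw [End.mem_eigenspace_iff.1 v.2]
      rfl
    exact LinearMap.congr_fun this w
  let Θ : (∀ μ : S, (End.eigenspace f (μ : F) →ₗ[F] End.eigenspace f (μ : F))) →ₗ[F] End F V :=
    { toFun := fun T => e.toLinearMap ∘ₗ DirectSum.lmap T ∘ₗ e.symm.toLinearMap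
      map_add' := by
        intro T T'
        ext v
        simp only [LinearMap.coe_comp, Function.comp_apply, LinearEquiv.coe_coe, LinearMap.add_apply]
        rw [← map_add]
        congr 1
        ext μ
        simp only [DirectSum.lmap_apply, DirectSum.add_apply, Pi.add_apply, LinearMap.add_apply]
      map_smul' := by
        intro c T
        ext v
        simp only [LinearMap.coe_comp, Function.comp_apply, LinearEquiv.coe_coe, LinearMap.smul_apply,
          RingHom.id_apply]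
        rw [← map_smul]
        congr 1
        ext μ
        simp only [DirectSum.lmap_apply, DirectSum.smul_apply, Pi.smul_apply, LinearMap.smul_apply] }
  have hΘinj : Function.Injective Θ := by
    intro T T' h
    funext μ
    ext v
    have h1 := LinearMap.congr_fun h (e (DirectSum.lof F S (fun μ : S => End.eigenspace f (μ : F)) μ v))
    have h2 : ∀ T'' : (∀ μ : S, (End.eigenspace f (μ : F) →ₗ[F] End.eigenspace f (μ : F))),
        Θ T'' (e (DirectSum.lof F S (fun μ : S => End.eigenspace f (μ : F)) μ v)) = T'' μ v := by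
      intro T''
      show e (DirectSum.lmap T'' (e.symm (e _))) = _
      rw [LinearEquiv.symm_apply_apply, DirectSum.lmap_lof, he]
    rw [h2, h2] at h1
    exact h1
  have hΘmem : ∀ T, Θ T ∈ cent f := by
    intro T
    rw [mem_cent]
    ext v
    obtain ⟨w, rfl⟩ := e.surjective v
    show f (e (DirectSum.lmap T (e.symm (e w)))) = e (DirectSum.lmap T (e.symm (f (e w))))
    rw [hfe, hfe, LinearEquiv.symm_apply_apply, LinearEquiv.symm_apply_apply]
    congr 1
    ext μ
    simp only [D, DirectSum.lmap_apply, LinearMap.smul_apply, LinearMap.id_coe, id_eq, map_smul]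
  have hle : finrank F (∀ μ : S, (End.eigenspace f (μ : F) →ₗ[F] End.eigenspace f (μ : F))) ≤
      finrank F (cent f) := by
    apply LinearMap.finrank_le_finrank_of_injective (f := Θ.codRestrict _ hΘmem)
    intro a b hab
    exact hΘinj (congrArg Subtype.val hab)
  rw [Module.finrank_pi_fintype] at hle
  simp only [Module.finrank_linearMap] at hle
  constructor
  · calc (finrank F V) ^ 2 = (∑ μ : S, finrank F (End.eigenspace f (μ : F))) ^ 2 := by rw [hdim]
      _ ≤ (Finset.univ : Finset S).card * ∑ μ : S, (finrank F (End.eigenspace f (μ : F))) ^ 2 :=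
          sq_sum_le_card_mul_sum_sq
      _ ≤ S.card * finrank F (cent f) := by
          apply Nat.mul_le_mul
          · simp
          · refine le_trans (le_of_eq ?_) hle
            apply Finset.sum_congr rfl
            intro μ _
            rw [sq]
  · rw [hdim]
    refine le_trans (Finset.sum_le_sum ?_) hle
    intro μ _
    exact Nat.le_mul_self _

end Cfsg.Agent.H452.Eig
end

-- part: H452/Shult
section
/-!
# Shult's lemma

`X` is a finite group acting on `W`, `S` the subgroup of the elements acting as scalars; `X / S` is abelian and the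
elements of `X` commuting with `X` on `W` are scalars. `t` normalises the image of `X`, inducing `θ`, acts freely on
`X / S`, `t ^ N = 1`, and `t` has no nonzero fixed vectors. If `S ≠ X` then `|X : S| = (N - 1) ^ 2` (`index_eq`), and
every endomorphism commuting with `X` commutes with `t` (`comm`).
-/

set_option autoImplicit false

namespace Cfsg.Agent.H452.Shult

open Module
open Cfsg.Agent.H452.Eig

section basic

variable {F : Type*} [Field F] {X : Type*} [Group X] {W : Type*} [AddCommGroup W] [Module F W]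

/-- The hypotheses of Shult's lemma. -/
structure Hyp (α : Representation F X W) (t : End F W) (θ : MulAut X) (N : ℕ) (S : Subgroup X) :
    Prop where
  tN : t ^ N = 1
  NF : (N : F) ≠ 0
  XF : (Nat.card X : F) ≠ 0
  inter : ∀ x, t * α x = α (θ x) * t
  fix : ∀ w, t w = w → w = 0
  scal : ∀ x, x ∈ S ↔ ∃ c : F, α x = c • 1
  comm : ∀ x y, x * y * x⁻¹ * y⁻¹ ∈ S
  free : ∀ i, 0 < i → i < N → ∀ x, (θ ^ i) x * x⁻¹ ∈ S → x ∈ S
  max : ∀ x, (∀ y, α (x * y) = α (y * x)) → x ∈ S

variable {α : Representation F X W} {t : End F W} {θ : MulAut X} {N : ℕ} {S : Subgroup X}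

theorem Hyp.normal (h : Hyp α t θ N S) : S.Normal := by
  constructor
  intro x hx y
  have h1 : y * x * y⁻¹ = (y * x * y⁻¹ * x⁻¹) * x := by group
  rw [h1]
  exact S.mul_mem (h.comm y x) hx

theorem Hyp.two_le [Nontrivial W] (h : Hyp α t θ N S) : 2 ≤ N := by
  by_contra hcon
  have h1 : N = 0 ∨ N = 1 := by omega
  rcases h1 with rfl | rfl
  · exact h.NF Nat.cast_zero
  · obtain ⟨w, hw⟩ := exists_ne (0 : W)
    apply hw
    apply h.fix
    have h2 := h.tN
    rw [pow_one] at h2
    rw [h2, End.one_apply]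

theorem mul_inv_eq (α : Representation F X W) (x : X) : α x * α x⁻¹ = 1 := by
  rw [← map_mul, mul_inv_cancel, map_one]

theorem inv_mul_eq (α : Representation F X W) (x : X) : α x⁻¹ * α x = 1 := by
  rw [← map_mul, inv_mul_cancel, map_one]

theorem scal_ne_zero [Nontrivial W] {x : X} {c : F} (h : α x = c • 1) : c ≠ 0 := by
  rintro rfl
  rw [zero_smul] at h
  have h1 := mul_inv_eq α x
  rw [h, zero_mul] at h1
  exact one_ne_zero h1.symm

section avg

variable [Fintype X]

/-- averaging over `X` -/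
noncomputable def avg (α : Representation F X W) : End F W →ₗ[F] End F W :=
  (Nat.card X : F)⁻¹ • ∑ x : X, (LinearMap.mulLeft F (α x) ∘ₗ LinearMap.mulRight F (α x⁻¹))

theorem avg_apply (α : Representation F X W) (A : End F W) :
    avg α A = (Nat.card X : F)⁻¹ • ∑ x : X, α x * A * α x⁻¹ := by
  show ((Nat.card X : F)⁻¹ • ∑ x : X, (LinearMap.mulLeft F (α x) ∘ₗ LinearMap.mulRight F (α x⁻¹))) A = _
  rw [LinearMap.smul_apply, LinearMap.sum_apply]
  simp only [LinearMap.comp_apply, LinearMap.mulLeft_apply, LinearMap.mulRight_apply, mul_assoc]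

theorem avg_conj (α : Representation F X W) (A : End F W) (y : X) :
    avg α (α y * A * α y⁻¹) = avg α A := by
  rw [avg_apply, avg_apply]
  congr 1
  apply Fintype.sum_equiv (Equiv.mulRight y)
  intro x
  simp only [Equiv.coe_mulRight, mul_inv_rev, map_mul, mul_assoc]

theorem avg_of_comm (hX : (Nat.card X : F) ≠ 0) {A : End F W} (hA : ∀ x, α x * A = A * α x) :
    avg α A = A := by
  rw [avg_apply]
  have h1 : ∀ x ∈ (Finset.univ : Finset X), α x * A * α x⁻¹ = A := by
    intro x _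
    rw [hA, mul_assoc, mul_inv_eq, mul_one]
  rw [Finset.sum_congr rfl h1, Finset.sum_const, Finset.card_univ, ← Nat.card_eq_fintype_card,
    ← Nat.cast_smul_eq_nsmul F, smul_smul, inv_mul_cancel₀ hX, one_smul]

theorem avg_kills {A : End F W} {W' : Submodule F W} (hW' : ∀ x, ∀ w ∈ W', α x w ∈ W')
    (hA : ∀ w ∈ W', A w = 0) : ∀ w ∈ W', avg α A w = 0 := by
  intro w hw
  rw [avg_apply, LinearMap.smul_apply, LinearMap.sum_apply]
  have h1 : ∀ x ∈ (Finset.univ : Finset X), (α x * A * α x⁻¹) w = 0 := by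
    intro x _
    rw [End.mul_apply, End.mul_apply, hA _ (hW' x⁻¹ w hw), map_zero]
  rw [Finset.sum_congr rfl h1, Finset.sum_const_zero, smul_zero]

theorem Hyp.avg_mem (h : Hyp α t θ N S) {x : X} (hx : x ∈ S) : avg α (α x) = α x := by
  obtain ⟨c, hc⟩ := (h.scal x).1 hx
  apply avg_of_comm h.XF
  intro y
  rw [hc, mul_smul_comm, smul_mul_assoc, mul_one, one_mul]

theorem Hyp.avg_not_mem (h : Hyp α t θ N S) {x : X} (hx : x ∉ S) : avg α (α x) = 0 := by
  have h1 : ∃ y, α (x * y) ≠ α (y * x) := by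
    by_contra hcon
    push Not at hcon
    exact hx (h.max x hcon)
  obtain ⟨y, hy⟩ := h1
  obtain ⟨c, hc⟩ := (h.scal _).1 (h.comm y x)
  have h2 : α y * α x * α y⁻¹ = c • α x := by
    have h3 : y * x * y⁻¹ = (y * x * y⁻¹ * x⁻¹) * x := by group
    rw [← map_mul, ← map_mul, h3, map_mul, hc, smul_mul_assoc, one_mul]
  have h4 : c ≠ 1 := by
    rintro rfl
    apply hy
    have h5 : y * x = (y * x * y⁻¹ * x⁻¹) * (x * y) := by group
    rw [h5, map_mul α (y * x * y⁻¹ * x⁻¹), hc, one_smul, one_mul]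
  have h5 := avg_conj α (α x) y
  rw [h2, map_smul] at h5
  have h6 : (c - 1) • avg α (α x) = 0 := by rw [sub_smul, one_smul, h5, sub_self]
  rcases smul_eq_zero.1 h6 with h7 | h7
  · exact absurd (sub_eq_zero.1 h7) h4
  · exact h7

end avg

end basic

section alg

variable {F : Type*} [Field F] {X : Type*} [Group X] [Finite X] {W : Type*} [AddCommGroup W]
  [Module F W]
  {α : Representation F X W} {t : End F W} {θ : MulAut X} {N : ℕ} {S : Subgroup X}

/-- the algebra generated by `X` -/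
def alg (α : Representation F X W) : Subalgebra F (End F W) := Algebra.adjoin F (Set.range α)

omit [Finite X] in
theorem mem_alg (α : Representation F X W) (x : X) : α x ∈ alg α :=
  Algebra.subset_adjoin ⟨x, rfl⟩

theorem Hyp.exists_coeff (h : Hyp α t θ N S) [Fintype (X ⧸ S)] {A : End F W} (hA : A ∈ alg α) :
    ∃ a : X ⧸ S → F, A = ∑ e, a e • α e.out := by
  have hn := h.normal
  have h1 : ∀ x, α x ∈ Submodule.span F (Set.range (fun e : X ⧸ S => α e.out)) := by
    intro x
    have h2 : ((QuotientGroup.mk x : X ⧸ S).out)⁻¹ * x ∈ S := by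
      rw [← QuotientGroup.eq]; exact Quotient.out_eq' _
    obtain ⟨c, hc⟩ := (h.scal _).1 h2
    have h3 : α x = c • α (QuotientGroup.mk x : X ⧸ S).out := by
      have h4 : x = (QuotientGroup.mk x : X ⧸ S).out * (((QuotientGroup.mk x : X ⧸ S).out)⁻¹ * x) := by
        group
      conv_lhs => rw [h4]
      rw [map_mul, hc, mul_smul_comm, mul_one]
    rw [h3]
    exact Submodule.smul_mem _ _ (Submodule.subset_span ⟨_, rfl⟩)
  have h2 : A ∈ Submodule.span F (Set.range (fun e : X ⧸ S => α e.out)) := by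
    have h3 : A ∈ Subalgebra.toSubmodule (alg α) := hA
    rw [alg, Algebra.adjoin_eq_span] at h3
    have h4 : (Submonoid.closure (Set.range α) : Set (End F W)) ⊆ Set.range α := by
      have h5 : Submonoid.closure (Set.range α) ≤ MonoidHom.mrange α := by
        rw [Submonoid.closure_le]
        rintro _ ⟨x, rfl⟩
        exact ⟨x, rfl⟩
      exact h5
    refine (Submodule.span_le.2 ?_) h3
    rintro _ hx
    obtain ⟨x, rfl⟩ := h4 hx
    exact h1 x
  obtain ⟨a, ha⟩ := (Submodule.mem_span_range_iff_exists_fun F).1 h2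
  exact ⟨a, ha.symm⟩

theorem Hyp.indep (h : Hyp α t θ N S) [Fintype (X ⧸ S)] {W' : Submodule F W} (hW'1 : W' ≠ ⊥)
    (hW' : ∀ x, ∀ w ∈ W', α x w ∈ W') (a : X ⧸ S → F)
    (ha : ∀ w ∈ W', (∑ e, a e • α e.out) w = 0) : a = 0 := by
  classical
  have hn := h.normal
  have := Fintype.ofFinite X
  funext e₀
  have h1 : ∀ w ∈ W', (α (e₀.out)⁻¹ * ∑ e, a e • α e.out) w = 0 := by
    intro w hw
    rw [End.mul_apply, ha w hw, map_zero]
  have h2 := avg_kills hW' h1
  have h3 : avg α (α (e₀.out)⁻¹ * ∑ e, a e • α e.out) = a e₀ • 1 := by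
    rw [Finset.mul_sum, map_sum, Finset.sum_eq_single e₀]
    · rw [mul_smul_comm, inv_mul_eq, map_smul]
      congr 1
      have h4 := h.avg_mem (S.one_mem)
      rwa [map_one] at h4
    · intro e _ he
      rw [mul_smul_comm, ← map_mul, map_smul, h.avg_not_mem, smul_zero]
      intro hmem
      apply he
      rw [← QuotientGroup.eq] at hmem
      have h5 : (QuotientGroup.mk e.out : X ⧸ S) = e := Quotient.out_eq' e
      have h6 : (QuotientGroup.mk e₀.out : X ⧸ S) = e₀ := Quotient.out_eq' e₀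
      rw [h5, h6] at hmem
      exact hmem.symm
    · intro hcon; exact absurd (Finset.mem_univ e₀) hcon
  obtain ⟨w, hw, hw0⟩ := Submodule.exists_mem_ne_zero_of_ne_bot hW'1
  have h4 := h2 w hw
  rw [h3, LinearMap.smul_apply, End.one_apply] at h4
  rcases smul_eq_zero.1 h4 with h5 | h5
  · exact h5
  · exact absurd h5 hw0

/-- an element of the algebra vanishing on a nonzero invariant subspace is zero -/
theorem Hyp.eq_zero (h : Hyp α t θ N S) {W' : Submodule F W} (hW'1 : W' ≠ ⊥)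
    (hW' : ∀ x, ∀ w ∈ W', α x w ∈ W') {A : End F W} (hA : A ∈ alg α) (hA0 : ∀ w ∈ W', A w = 0) :
    A = 0 := by
  classical
  have := Fintype.ofFinite (X ⧸ S)
  obtain ⟨a, rfl⟩ := h.exists_coeff hA
  rw [h.indep hW'1 hW' a hA0]
  simp

/-- an element of the algebra commuting with `X` is a scalar -/
theorem Hyp.scalar_of_comm (h : Hyp α t θ N S) {A : End F W} (hA : A ∈ alg α)
    (hc : ∀ x, α x * A = A * α x) : ∃ c : F, A = c • 1 := by
  classical
  have hn := h.normal
  have := Fintype.ofFinite X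
  have := Fintype.ofFinite (X ⧸ S)
  have h1 := avg_of_comm h.XF hc
  obtain ⟨a, ha⟩ := h.exists_coeff hA
  rw [← h1, ha, map_sum, Finset.sum_eq_single (QuotientGroup.mk 1 : X ⧸ S)]
  · rw [map_smul]
    have h2 : (QuotientGroup.mk 1 : X ⧸ S).out ∈ S := by
      have h3 : (QuotientGroup.mk ((QuotientGroup.mk 1 : X ⧸ S).out) : X ⧸ S) = QuotientGroup.mk 1 :=
        Quotient.out_eq' _
      exact (QuotientGroup.eq_one_iff _).1 h3
    rw [h.avg_mem h2]
    obtain ⟨c, hc'⟩ := (h.scal _).1 h2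
    exact ⟨a (QuotientGroup.mk 1) * c, by rw [hc', smul_smul]⟩
  · intro e _ he
    rw [map_smul, h.avg_not_mem, smul_zero]
    intro hmem
    apply he
    have h3 : (QuotientGroup.mk e.out : X ⧸ S) = e := Quotient.out_eq' e
    rw [← h3]
    exact (QuotientGroup.eq_one_iff _).2 hmem
  · intro hcon; exact absurd (Finset.mem_univ _) hcon

/-- the intertwining operator -/
noncomputable def T (α : Representation F X W) (θ : MulAut X) [Fintype X] : End F W :=
  ∑ x : X, α (θ x * x⁻¹)

omit [Finite X] in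
theorem Hyp.theta_mem (h : Hyp α t θ N S) (ht : IsUnit t) {x : X} (hx : x ∈ S) :
    θ x ∈ S ∧ α (θ x * x⁻¹) = 1 := by
  obtain ⟨c, hc⟩ := (h.scal x).1 hx
  have h1 : α (θ x) = α x := by
    have h2 := h.inter x
    rw [hc, mul_smul_comm, mul_one] at h2
    have h3 : α (θ x) * t = (c • (1 : End F W)) * t := by rw [← h2, smul_mul_assoc, one_mul]
    rw [hc]
    exact ht.mul_right_cancel h3
  refine ⟨(h.scal _).2 ⟨c, by rw [h1, hc]⟩, ?_⟩
  rw [map_mul, h1, mul_inv_eq]

section T

variable [Fintype X]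

omit [Finite X] in
theorem T_mem : T α θ ∈ alg α := Subalgebra.sum_mem _ (fun _ _ => mem_alg α _)

omit [Finite X] in
theorem T_mul (y : X) : T α θ * α y = α (θ y) * T α θ := by
  rw [T, Finset.sum_mul, Finset.mul_sum]
  apply Fintype.sum_equiv (Equiv.mulLeft y⁻¹)
  intro x
  rw [← map_mul, ← map_mul]
  congr 1
  simp only [Equiv.coe_mulLeft, map_mul, map_inv]
  group

omit [Finite X] in
theorem Hyp.t_mul_T (h : Hyp α t θ N S) : t * T α θ = T α θ * t := by
  rw [T, Finset.sum_mul, Finset.mul_sum]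
  apply Fintype.sum_equiv θ.toEquiv
  intro x
  rw [h.inter, map_mul, map_inv]
  rfl

omit [Finite X] in
theorem Hyp.avg_T [Nontrivial W] (h : Hyp α t θ N S) : avg α (T α θ) = (Nat.card S : F) • 1 := by
  classical
  have hN := h.two_le
  have ht : IsUnit t := ⟨⟨t, t ^ (N - 1), by rw [← pow_succ', Nat.sub_add_cancel (by omega), h.tN],
    by rw [← pow_succ, Nat.sub_add_cancel (by omega), h.tN]⟩, rfl⟩
  rw [T, map_sum]
  have h1 : ∀ x ∈ (Finset.univ : Finset X), avg α (α (θ x * x⁻¹)) =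
      if x ∈ S then (1 : End F W) else 0 := by
    intro x _
    split_ifs with hx
    · obtain ⟨h2, h3⟩ := h.theta_mem ht hx
      rw [h.avg_mem (S.mul_mem h2 (S.inv_mem hx)), h3]
    · apply h.avg_not_mem
      intro h2
      apply hx
      apply h.free 1 one_pos (by omega)
      rw [pow_one]
      exact h2
  rw [Finset.sum_congr rfl h1, ← Finset.sum_filter, Finset.sum_const, ← Nat.cast_smul_eq_nsmul F]
  congr 2
  rw [← Fintype.card_subtype, ← Nat.card_eq_fintype_card]

omit [Finite X] in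
theorem Hyp.ker_T [Nontrivial W] (h : Hyp α t θ N S) : LinearMap.ker (T α θ) = ⊥ := by
  rw [Submodule.eq_bot_iff]
  intro w hw
  have h1 : ∀ x, ∀ w ∈ LinearMap.ker (T α θ), α x w ∈ LinearMap.ker (T α θ) := by
    intro x w hw
    rw [LinearMap.mem_ker] at hw ⊢
    rw [← End.mul_apply, T_mul, End.mul_apply, hw, map_zero]
  have h2 := avg_kills h1 (A := T α θ) (fun w hw => hw) w hw
  rw [h.avg_T, LinearMap.smul_apply, End.one_apply] at h2
  rcases smul_eq_zero.1 h2 with h3 | h3
  · exfalso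
    apply h.XF
    obtain ⟨m, hm⟩ := Subgroup.card_subgroup_dvd_card S
    rw [hm, Nat.cast_mul, h3, zero_mul]
  · exact h3

end T

/-- restriction to a nonzero invariant subspace -/
theorem Hyp.restrict [Nontrivial W] (h : Hyp α t θ N S) {U : Submodule F W} (hU1 : U ≠ ⊥)
    (hU : ∀ x, U ≤ U.comap (α x)) (htU : ∀ w ∈ U, t w ∈ U) :
    Hyp (α.subrepresentation U hU) (t.restrict htU) θ N S where
  tN := by
    have h1 : ∀ (n : ℕ) (w : U), (((t.restrict htU) ^ n) w : W) = (t ^ n) (w : W) := by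
      intro n
      induction n with
      | zero => intro w; rfl
      | succ n ih =>
        intro w
        rw [pow_succ', pow_succ', End.mul_apply, End.mul_apply, ← ih]
        rfl
    ext w
    rw [h1, h.tN]
    rfl
  NF := h.NF
  XF := h.XF
  inter := by
    intro x
    ext w
    exact LinearMap.congr_fun (h.inter x) (w : W)
  fix := by
    intro w hw
    apply Subtype.ext
    exact h.fix w (congrArg Subtype.val hw)
  scal := by
    intro x
    constructor
    · intro hx
      obtain ⟨c, hc⟩ := (h.scal x).1 hx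
      refine ⟨c, ?_⟩
      ext w
      exact LinearMap.congr_fun hc (w : W)
    · rintro ⟨c, hc⟩
      refine (h.scal x).2 ⟨c, ?_⟩
      rw [← sub_eq_zero]
      apply h.eq_zero hU1 (fun x w hw => hU x hw)
      · exact Subalgebra.sub_mem _ (mem_alg α x) (Subalgebra.smul_mem _ (Subalgebra.one_mem _) c)
      · intro w hw
        have h1 := congrArg Subtype.val (LinearMap.congr_fun hc ⟨w, hw⟩)
        rw [LinearMap.sub_apply, sub_eq_zero]
        exact h1
  comm := h.comm
  free := h.free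
  max := by
    intro x hx
    apply h.max
    intro y
    rw [← sub_eq_zero]
    apply h.eq_zero hU1 (fun x w hw => hU x hw)
    · exact Subalgebra.sub_mem _ (mem_alg α _) (mem_alg α _)
    · intro w hw
      have h1 := congrArg Subtype.val (LinearMap.congr_fun (hx y) ⟨w, hw⟩)
      rw [LinearMap.sub_apply, sub_eq_zero]
      exact h1

end alg

section perm

/-- Burnside count for an automorphism acting freely outside one point. -/
theorem orbit_count {Q : Type*} [Finite Q] (σ : Equiv.Perm Q) {N : ℕ} (hN : 0 < N)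
    (hσ : σ ^ N = 1) (q₀ : Q) (h : ∀ i, 0 < i → i < N → ∀ q, (σ ^ i) q = q → q = q₀)
    (h₀ : σ q₀ = q₀) (hQ : ∃ q, q ≠ q₀) :
    N * Nat.card (MulAction.orbitRel.Quotient (Subgroup.zpowers σ) Q) = Nat.card Q + (N - 1) := by
  classical
  have := Fintype.ofFinite Q
  have hord : orderOf σ = N := by
    rw [orderOf_eq_iff hN]
    refine ⟨hσ, fun i hi hi0 h1 => ?_⟩
    obtain ⟨q, hq⟩ := hQ
    apply hq
    apply h i hi0 hi
    rw [h1]; rfl
  have hcard : Fintype.card (Subgroup.zpowers σ) = N := by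
    rw [Fintype.card_zpowers, hord]
  have hB := MulAction.sum_card_fixedBy_eq_card_orbits_mul_card_group (Subgroup.zpowers σ) Q
  have hfix : ∀ a : Subgroup.zpowers σ, Fintype.card (MulAction.fixedBy Q a) =
      if a = 1 then Fintype.card Q else 1 := by
    intro a
    split_ifs with ha
    · subst ha
      apply Fintype.card_congr
      refine (Equiv.subtypeUnivEquiv ?_)
      intro q
      simp
    · rw [Fintype.card_eq_one_iff]
      have ha2 := a.2
      rw [← mem_powers_iff_mem_zpowers] at ha2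
      obtain ⟨n, hn⟩ := ha2
      have hn' : (σ ^ n : Equiv.Perm Q) = a := hn
      have hmod : (σ ^ (n % N) : Equiv.Perm Q) = a := by
        rw [← hn']
        conv_rhs => rw [← Nat.mod_add_div n N]
        rw [pow_add, pow_mul, hσ, one_pow, mul_one]
      have hpos : 0 < n % N := by
        rcases Nat.eq_zero_or_pos (n % N) with h0 | h0
        · exfalso
          apply ha
          rw [h0, pow_zero] at hmod
          exact Subtype.ext hmod.symm
        · exact h0
      refine ⟨⟨q₀, ?_⟩, ?_⟩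
      · rw [MulAction.mem_fixedBy]
        show (a : Equiv.Perm Q) q₀ = q₀
        rw [← hmod]
        exact Equiv.Perm.pow_apply_eq_self_of_apply_eq_self h₀ _
      · rintro ⟨q, hq⟩
        rw [Subtype.mk.injEq]
        rw [MulAction.mem_fixedBy] at hq
        have hq' : (a : Equiv.Perm Q) q = q := hq
        rw [← hmod] at hq'
        exact h _ hpos (Nat.mod_lt _ hN) q hq'
  rw [Finset.sum_congr rfl (fun a _ => hfix a), Finset.sum_ite] at hB
  rw [Finset.filter_eq' , if_pos (Finset.mem_univ _)] at hB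
  rw [Finset.sum_singleton, Finset.sum_const, smul_eq_mul, mul_one] at hB
  have h3 : (Finset.univ.filter (fun a : Subgroup.zpowers σ => ¬ a = 1)).card = N - 1 := by
    rw [Finset.filter_not, Finset.card_sdiff_of_subset (Finset.filter_subset _ _)]
    rw [Finset.filter_eq', if_pos (Finset.mem_univ _), Finset.card_univ, hcard, Finset.card_singleton]
  rw [h3, hcard] at hB
  rw [Nat.card_eq_fintype_card, Nat.card_eq_fintype_card, mul_comm, hB]

theorem arith {D M c o N : ℕ} (hN : 2 ≤ N) (h1 : D ^ 2 = M) (h2 : c ≤ o) (h3 : N * o = M + (N - 1))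
    (h4 : D ^ 2 ≤ (N - 1) * c) (h5 : D ≤ c) (hM : 2 ≤ M) : D = N - 1 ∧ c ≤ N - 1 := by
  obtain ⟨k, rfl⟩ : ∃ k, N = k + 1 := ⟨N - 1, by omega⟩
  simp only [Nat.add_sub_cancel] at *
  subst h1
  have hD2 : 2 ≤ D := by
    by_contra hcon
    have : D = 0 ∨ D = 1 := by omega
    rcases this with rfl | rfl <;> norm_num at hM
  have h6 : (k + 1) * c ≤ D ^ 2 + k := by
    calc (k + 1) * c ≤ (k + 1) * o := Nat.mul_le_mul_left _ h2
      _ = D ^ 2 + k := h3
  have h7 : D ≤ k := by
    have h8 : (k + 1) * D ^ 2 ≤ k * (D ^ 2 + k) := by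
      calc (k + 1) * D ^ 2 ≤ (k + 1) * (k * c) := Nat.mul_le_mul_left _ h4
        _ = k * ((k + 1) * c) := by ring
        _ ≤ k * (D ^ 2 + k) := Nat.mul_le_mul_left _ h6
    have h9 : D ^ 2 ≤ k ^ 2 := by nlinarith
    by_contra hc
    push Not at hc
    have := Nat.pow_lt_pow_left hc two_ne_zero
    omega
  have h8 : k ≤ D := by
    have h9 : (k + 1) * D ≤ D ^ 2 + k := (Nat.mul_le_mul_left _ h5).trans h6
    by_contra hc
    push Not at hc
    obtain ⟨d, rfl⟩ : ∃ d, D = d + 2 := ⟨D - 2, by omega⟩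
    nlinarith
  have h9 : D = k := le_antisymm h7 h8
  subst h9
  refine ⟨rfl, ?_⟩
  have h10 : (D + 1) * c ≤ (D + 1) * D := by
    calc (D + 1) * c ≤ D ^ 2 + D := h6
      _ = (D + 1) * D := by ring
  exact Nat.le_of_mul_le_mul_left h10 (by omega)

end perm

section main

variable {F : Type*} [Field F] [IsAlgClosed F] {X : Type*} [Group X] [Finite X] {W : Type*}
  [AddCommGroup W] [Module F W] [FiniteDimensional F W]
  {α : Representation F X W} {t : End F W} {θ : MulAut X} {N : ℕ} {S : Subgroup X}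

omit [Finite X] [IsAlgClosed F] [FiniteDimensional F W] in
theorem Hyp.isUnit [Nontrivial W] (h : Hyp α t θ N S) : IsUnit t := by
  have hN := h.two_le
  exact ⟨⟨t, t ^ (N - 1), by rw [← pow_succ', Nat.sub_add_cancel (by omega), h.tN],
    by rw [← pow_succ, Nat.sub_add_cancel (by omega), h.tN]⟩, rfl⟩

omit [Finite X] [IsAlgClosed F] [FiniteDimensional F W] in
theorem Hyp.pow_inter (h : Hyp α t θ N S) (n : ℕ) (x : X) : t ^ n * α x = α ((θ ^ n) x) * t ^ n := by
  induction n generalizing x with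
  | zero => simp
  | succ n ih =>
    rw [pow_succ, mul_assoc, h.inter, ← mul_assoc, ih, mul_assoc, pow_succ, MulAut.mul_apply]

omit [Finite X] [IsAlgClosed F] [FiniteDimensional F W] in
theorem isIrreducible_of [Nontrivial W] (α : Representation F X W)
    (hirr : ∀ W' : Submodule F W, (∀ x, ∀ w ∈ W', α x w ∈ W') → W' = ⊥ ∨ W' = ⊤) :
    α.IsIrreducible := by
  have : Nontrivial (Subrepresentation α) := by
    refine ⟨⊥, ⊤, ?_⟩
    intro h
    have h1 : (⊥ : Submodule F W) = ⊤ := congrArg Subrepresentation.toSubmodule h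
    exact bot_ne_top h1
  exact { eq_bot_or_eq_top := fun S => by
            rcases hirr S.toSubmodule (fun x w hw => S.apply_mem_toSubmodule x hw) with h | h
            · left; exact Subrepresentation.toSubmodule_injective h
            · right; exact Subrepresentation.toSubmodule_injective h }

theorem mem_alg_of_irr [Nontrivial W] (α : Representation F X W)
    (hirr : ∀ W' : Submodule F W, (∀ x, ∀ w ∈ W', α x w ∈ W') → W' = ⊥ ∨ W' = ⊤) (A : End F W) :
    A ∈ alg α := by
  have hI := isIrreducible_of α hirr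
  obtain ⟨a, ha⟩ := Cfsg.Agent.Blocks.ModularTraces.exists_density (ι := Unit) (V := fun _ => W)
    (fun _ => α) (fun _ => hI) (fun i j hij => absurd (Subsingleton.elim i j) hij) (fun _ => A)
  have h1 : ∀ a : MonoidAlgebra F X, α.asAlgebraHom a ∈ alg α := by
    intro a
    induction a using MonoidAlgebra.induction_linear with
    | zero => rw [map_zero]; exact Subalgebra.zero_mem _
    | add x y hx hy => rw [map_add]; exact Subalgebra.add_mem _ hx hy
    | single x c =>
      rw [Representation.asAlgebraHom_single]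
      exact Subalgebra.smul_mem _ (mem_alg α x) c
  rw [← ha ()]
  exact h1 a

theorem Hyp.irr_case [Nontrivial W] (h : Hyp α t θ N S)
    (hirr : ∀ W' : Submodule F W, (∀ x, ∀ w ∈ W', α x w ∈ W') → W' = ⊥ ∨ W' = ⊤) (hne : S ≠ ⊤) :
    S.index = (N - 1) ^ 2 ∧
      ∀ R : Finset F, (∀ μ, End.eigenspace t μ ≠ ⊥ → μ ∈ R) → N - 1 ≤ R.card := by
  classical
  have hn := h.normal
  have := Fintype.ofFinite (X ⧸ S)
  have hN := h.two_le
  have ht := h.isUnit
  have htop : ∀ x, ∀ w ∈ (⊤ : Submodule F W), α x w ∈ (⊤ : Submodule F W) := fun _ _ _ => trivial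
  -- the basis
  let L : (X ⧸ S → F) →ₗ[F] End F W := Fintype.linearCombination F (fun e : X ⧸ S => α e.out)
  have hL : ∀ a, L a = ∑ e, a e • α e.out := fun a => rfl
  have hLinj : Function.Injective L := by
    rw [← LinearMap.ker_eq_bot, LinearMap.ker_eq_bot']
    intro a ha
    apply h.indep (W' := ⊤) top_ne_bot htop
    intro w _
    rw [← hL, ha, LinearMap.zero_apply]
  have hLsurj : Function.Surjective L := by
    intro A
    obtain ⟨a, ha⟩ := h.exists_coeff (mem_alg_of_irr α hirr A)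
    exact ⟨a, by rw [hL, ha]⟩
  let Φ := LinearEquiv.ofBijective L ⟨hLinj, hLsurj⟩
  have hΦ : ∀ a, Φ a = ∑ e, a e • α e.out := fun a => rfl
  have hidx : (finrank F W) ^ 2 = S.index := by
    have h1 := Φ.finrank_eq
    rw [Module.finrank_fintype_fun_eq_card, Module.finrank_linearMap, ← Nat.card_eq_fintype_card,
      ← Subgroup.index_eq_card] at h1
    rw [sq, h1]
  -- the permutation
  have hθS : S.map (θ : X →* X) = S := by
    have h1 : S.map (θ : X →* X) ≤ S := by
      rintro _ ⟨x, hx, rfl⟩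
      exact (h.theta_mem ht hx).1
    apply Subgroup.eq_of_le_of_card_ge h1
    rw [Subgroup.card_map_of_injective (f := (θ : X →* X)) θ.injective]
  let σ : Equiv.Perm (X ⧸ S) := (QuotientGroup.congr S S θ hθS).toEquiv
  have hσ : ∀ x : X, σ (QuotientGroup.mk x) = QuotientGroup.mk (θ x) := fun x => rfl
  have hσn : ∀ (n : ℕ) (x : X), (σ ^ n) (QuotientGroup.mk x) = QuotientGroup.mk ((θ ^ n) x) := by
    intro n
    induction n with
    | zero => intro x; rfl
    | succ n ih =>
      intro x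
      rw [pow_succ', Equiv.Perm.mul_apply, ih, hσ, pow_succ']
      rfl
  have hmk : ∀ x y : X, (QuotientGroup.mk x : X ⧸ S) = QuotientGroup.mk y ↔ x * y⁻¹ ∈ S := by
    intro x y
    rw [eq_comm, QuotientGroup.eq]
    constructor
    · intro h1
      have h2 := hn.conj_mem _ h1 y
      have h3 : y * (y⁻¹ * x) * y⁻¹ = x * y⁻¹ := by group
      rwa [h3] at h2
    · intro h1
      have h2 := hn.conj_mem _ h1 y⁻¹
      have h3 : y⁻¹ * (x * y⁻¹) * y⁻¹⁻¹ = y⁻¹ * x := by group
      rwa [h3] at h2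
  have hσN : σ ^ N = 1 := by
    ext q
    obtain ⟨x, rfl⟩ := QuotientGroup.mk_surjective q
    rw [hσn, Equiv.Perm.one_apply, hmk, h.scal]
    refine ⟨1, ?_⟩
    have h1 := h.pow_inter N x
    rw [h.tN, one_mul, mul_one] at h1
    rw [map_mul, ← h1, mul_inv_eq, one_smul]
  have hfree : ∀ i, 0 < i → i < N → ∀ q, (σ ^ i) q = q → q = (QuotientGroup.mk (1 : X)) := by
    intro i hi hiN q hq
    obtain ⟨x, rfl⟩ := QuotientGroup.mk_surjective q
    rw [hσn, hmk] at hq
    exact (QuotientGroup.eq_one_iff x).2 (h.free i hi hiN x hq)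
  have h₀ : σ (QuotientGroup.mk (1 : X)) = QuotientGroup.mk (1 : X) := by rw [hσ, map_one]
  have hex : ∃ q : X ⧸ S, q ≠ QuotientGroup.mk 1 := by
    by_contra hcon
    push Not at hcon
    apply hne
    rw [eq_top_iff]
    intro x _
    exact (QuotientGroup.eq_one_iff x).1 (hcon (QuotientGroup.mk x))
  have hcount := orbit_count σ (by omega) hσN (QuotientGroup.mk (1 : X)) hfree h₀ hex
  -- the centraliser
  have hprop : ∀ A ∈ cent t, ∀ e, Φ.symm A e = 0 → Φ.symm A (σ e) = 0 := by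
    intro A hA e he
    rw [mem_cent] at hA
    have hc : ∀ e : X ⧸ S, ∃ c : F, α (θ e.out) = c • α (σ e).out := by
      intro e
      have h1 : ((σ e).out)⁻¹ * θ e.out ∈ S := by
        rw [← QuotientGroup.eq, ← hσ]
        have h2 : (QuotientGroup.mk e.out : X ⧸ S) = e := Quotient.out_eq' e
        have h3 : (QuotientGroup.mk (σ e).out : X ⧸ S) = σ e := Quotient.out_eq' _
        rw [h2, h3]
      obtain ⟨c, hc⟩ := (h.scal _).1 h1
      refine ⟨c, ?_⟩
      have h2 : θ e.out = (σ e).out * (((σ e).out)⁻¹ * θ e.out) := by group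
      rw [h2, map_mul, hc, mul_smul_comm, mul_one]
    choose c hc using hc
    set a := Φ.symm A with ha
    have hA' : A = ∑ e, a e • α e.out := by rw [← hΦ, ha, LinearEquiv.apply_symm_apply]
    let b : X ⧸ S → F := fun e => a (σ.symm e) * c (σ.symm e)
    have hb : Φ b = A := by
      apply ht.mul_right_cancel
      rw [← hA]
      conv_rhs => rw [hA']
      rw [hΦ, Finset.sum_mul, Finset.mul_sum]
      symm
      apply Fintype.sum_equiv σ
      intro e
      rw [mul_smul_comm, h.inter, hc, smul_mul_assoc, smul_smul, smul_mul_assoc]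
      simp only [b, Equiv.symm_apply_apply]
    have hb' : b = a := by rw [ha, ← hb, LinearEquiv.symm_apply_apply]
    rw [← hb']
    show a (σ.symm (σ e)) * c (σ.symm (σ e)) = 0
    rw [Equiv.symm_apply_apply, he, zero_mul]
  let Ω := MulAction.orbitRel.Quotient (Subgroup.zpowers σ) (X ⧸ S)
  have hfΩ : Fintype Ω := Fintype.ofFinite Ω
  let Ψ : cent t →ₗ[F] (Ω → F) :=
    LinearMap.pi (fun ω => (LinearMap.proj (ω.out : X ⧸ S)) ∘ₗ Φ.symm.toLinearMap ∘ₗ (cent t).subtype)
  have hΨinj : Function.Injective Ψ := by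
    rw [← LinearMap.ker_eq_bot, LinearMap.ker_eq_bot']
    rintro ⟨A, hA⟩ hA0
    apply Subtype.ext
    show A = 0
    apply Φ.symm.injective
    rw [map_zero]
    funext q
    have hpn : ∀ n : ℕ, ∀ e, Φ.symm A e = 0 → Φ.symm A ((σ ^ n) e) = 0 := by
      intro n
      induction n with
      | zero => intro e he; exact he
      | succ n ih =>
        intro e he
        rw [pow_succ', Equiv.Perm.mul_apply]
        exact hprop A hA _ (ih e he)
    set ω : Ω := Quotient.mk'' q with hω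
    have h1 : Φ.symm A (ω.out : X ⧸ S) = 0 := congrFun hA0 ω
    have h3 : (MulAction.orbitRel (Subgroup.zpowers σ) (X ⧸ S)) q (ω.out) := by
      apply Quotient.exact
      rw [Quotient.out_eq]
    rw [MulAction.orbitRel_apply, MulAction.mem_orbit_iff] at h3
    obtain ⟨⟨a, ha⟩, haq⟩ := h3
    obtain ⟨n, rfl⟩ := (mem_powers_iff_mem_zpowers.2 ha)
    have h4 : (σ ^ n) (ω.out) = q := haq
    rw [← h4]
    exact hpn n _ h1
  have hcle : finrank F (cent t) ≤ Nat.card Ω := by
    have h1 := LinearMap.finrank_le_finrank_of_injective hΨinj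
    rw [Module.finrank_fintype_fun_eq_card] at h1
    rw [Nat.card_eq_fintype_card]
    exact h1
  -- eigenvalues
  have hss : t.IsSemisimple := isSemisimple_of_pow t h.NF one_ne_zero (by rw [h.tN, one_smul])
  let R₀ : Finset F := (Polynomial.nthRootsFinset N (1 : F)).erase 1
  have hR₀card : R₀.card ≤ N - 1 := by
    have h1 : (1 : F) ∈ Polynomial.nthRootsFinset N (1 : F) := by
      rw [Polynomial.mem_nthRootsFinset (by omega)]; simp
    have h2 : (Polynomial.nthRootsFinset N (1 : F)).card ≤ N := by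
      unfold Polynomial.nthRootsFinset
      refine (Multiset.toFinset_card_le _).trans (Polynomial.card_nthRoots N 1)
    show ((Polynomial.nthRootsFinset N (1 : F)).erase 1).card ≤ N - 1
    rw [Finset.card_erase_of_mem h1]
    omega
  have hR₀ : ∀ μ, End.eigenspace t μ ≠ ⊥ → μ ∈ R₀ := by
    intro μ hμ
    obtain ⟨v, hv, hv0⟩ := Submodule.exists_mem_ne_zero_of_ne_bot hμ
    rw [End.mem_eigenspace_iff] at hv
    rw [Finset.mem_erase, Polynomial.mem_nthRootsFinset (by omega)]
    constructor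
    · rintro rfl
      exact hv0 (h.fix v (by simpa using hv))
    · have h1 : ∀ n : ℕ, (t ^ n) v = μ ^ n • v := by
        intro n
        induction n with
        | zero => simp
        | succ n ih => rw [pow_succ', End.mul_apply, ih, map_smul, hv, smul_smul, pow_succ]
      have h2 := h1 N
      rw [h.tN, End.one_apply] at h2
      have h3 : (μ ^ N - 1) • v = 0 := by rw [sub_smul, one_smul, ← h2, sub_self]
      rcases smul_eq_zero.1 h3 with h4 | h4
      · exact sub_eq_zero.1 h4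
      · exact absurd h4 hv0
  obtain ⟨hb1, hb2⟩ := centralizer_bounds t hss R₀ hR₀
  have hM : 2 ≤ S.index := by
    have h1 : S.index ≠ 1 := fun h1 => hne (Subgroup.index_eq_one.1 h1)
    have h2 : S.index ≠ 0 := Subgroup.index_ne_zero_of_finite
    omega
  rw [← Subgroup.index_eq_card] at hcount
  obtain ⟨hD, hc⟩ := arith hN hidx hcle hcount (hb1.trans (Nat.mul_le_mul_right _ hR₀card)) hb2 hM
  refine ⟨by rw [← hidx, hD], ?_⟩
  intro R hR
  obtain ⟨hb3, _⟩ := centralizer_bounds t hss R hR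
  rw [hD] at hb3
  have h5 : (N - 1) * (N - 1) ≤ R.card * (N - 1) := by
    rw [← sq]
    exact hb3.trans (Nat.mul_le_mul_left _ hc)
  exact Nat.le_of_mul_le_mul_right h5 (by omega)

omit [Finite X] [IsAlgClosed F] [FiniteDimensional F W] in
/-- the algebra preserves invariant subspaces -/
theorem alg_mem {A : End F W} (hA : A ∈ alg α) {U : Submodule F W}
    (hU : ∀ x, ∀ w ∈ U, α x w ∈ U) : ∀ w ∈ U, A w ∈ U := by
  induction hA using Algebra.adjoin_induction with
  | mem x hx =>
    obtain ⟨y, rfl⟩ := hx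
    exact hU y
  | algebraMap r => intro w hw; rw [Module.algebraMap_end_apply]; exact Submodule.smul_mem _ _ hw
  | add x y _ _ hx hy => intro w hw; exact Submodule.add_mem _ (hx w hw) (hy w hw)
  | mul x y _ _ hx hy => intro w hw; exact hx _ (hy w hw)

omit [Finite X] [IsAlgClosed F] [FiniteDimensional F W] in
theorem alg_comm {A : End F W} (hA : A ∈ alg α) {g : End F W} (hg : ∀ x, g * α x = α x * g) :
    g * A = A * g := by
  induction hA using Algebra.adjoin_induction with
  | mem x hx =>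
    obtain ⟨y, rfl⟩ := hx
    exact hg y
  | algebraMap r => exact (Algebra.commutes r g).symm
  | add x y _ _ hx hy => rw [mul_add, add_mul, hx, hy]
  | mul x y _ _ hx hy => rw [← mul_assoc, hx, mul_assoc, hy, mul_assoc]

omit [Finite X] in
theorem Hyp.exists_sub [Nontrivial W] [Fintype X] (h : Hyp α t θ N S) {u : End F W}
    (htu : t * u = T α θ) (hux : ∀ x, u * α x = α x * u) {l : F} (hl : End.eigenspace u l ≠ ⊥) :
    l ≠ 0 ∧ ∃ (U : Submodule F W) (hU : ∀ x, U ≤ U.comap (α x)) (_ : ∀ w ∈ U, t w ∈ U),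
      U ≠ ⊥ ∧ U ≤ End.eigenspace u l ∧ ∀ W' : Submodule F U,
        (∀ x, ∀ w ∈ W', α.subrepresentation U hU x w ∈ W') → W' = ⊥ ∨ W' = ⊤ := by
  have hl0 : l ≠ 0 := by
    rintro rfl
    obtain ⟨w, hw, hw0⟩ := Submodule.exists_mem_ne_zero_of_ne_bot hl
    rw [End.mem_eigenspace_iff, zero_smul] at hw
    apply hw0
    have h1 : w ∈ LinearMap.ker (T α θ) := by
      rw [LinearMap.mem_ker, ← htu, End.mul_apply, hw, map_zero]
    rwa [h.ker_T, Submodule.mem_bot] at h1
  refine ⟨hl0, ?_⟩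
  have hE : ∀ x, ∀ w ∈ End.eigenspace u l, α x w ∈ End.eigenspace u l := by
    intro x w hw
    rw [End.mem_eigenspace_iff] at hw ⊢
    rw [← End.mul_apply, hux, End.mul_apply, hw, map_smul]
  obtain ⟨U, hUmin⟩ := exists_minimal_of_wellFoundedLT (fun U : Submodule F W =>
    U ≠ ⊥ ∧ U ≤ End.eigenspace u l ∧ ∀ x, ∀ w ∈ U, α x w ∈ U) ⟨_, hl, le_rfl, hE⟩
  obtain ⟨⟨hU1, hUE, hUX⟩, hmin⟩ := hUmin
  refine ⟨U, fun x w hw => hUX x w hw, ?_, hU1, hUE, ?_⟩
  · intro w hw
    have h1 := End.mem_eigenspace_iff.1 (hUE hw)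
    have h2 : t w = l⁻¹ • (T α θ) w := by
      rw [← htu, End.mul_apply, h1, map_smul, smul_smul, inv_mul_cancel₀ hl0, one_smul]
    rw [h2]
    exact Submodule.smul_mem _ _ (alg_mem T_mem hUX w hw)
  · intro W' hW'
    by_cases hW'1 : W' = ⊥
    · exact Or.inl hW'1
    right
    have h1 : W'.map U.subtype ≠ ⊥ := by
      intro h2
      apply hW'1
      apply Submodule.map_injective_of_injective (f := U.subtype) U.injective_subtype
      rw [h2, Submodule.map_bot]
    have h2 := hmin ⟨h1, (Submodule.map_subtype_le U W').trans hUE, by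
      rintro x _ ⟨w, hw, rfl⟩
      exact ⟨_, hW' x w hw, rfl⟩⟩ (Submodule.map_subtype_le U W')
    rw [eq_top_iff]
    rintro ⟨w, hw⟩ _
    obtain ⟨w', hw', hww⟩ := h2 hw
    have h3 : w' = ⟨w, hw⟩ := Subtype.ext hww
    rw [← h3]; exact hw'

omit [Finite X] [FiniteDimensional F W] [IsAlgClosed F] in
theorem Hyp.exists_u [Nontrivial W] [Fintype X] (h : Hyp α t θ N S) :
    ∃ u : End F W, t * u = T α θ ∧ (∀ x, u * α x = α x * u) ∧ u * t = t * u := by
  have hN := h.two_le
  have ht := h.isUnit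
  have h1 : t * t ^ (N - 1) = 1 := by
    rw [← pow_succ', Nat.sub_add_cancel (by omega), h.tN]
  have h2 : t * (t ^ (N - 1) * T α θ) = T α θ := by rw [← mul_assoc, h1, one_mul]
  refine ⟨t ^ (N - 1) * T α θ, h2, ?_, ?_⟩
  · intro x
    apply ht.mul_left_cancel
    rw [← mul_assoc, h2, ← mul_assoc, h.inter, mul_assoc, h2, T_mul]
  · apply ht.mul_left_cancel
    rw [← mul_assoc, h2, h.t_mul_T]

/-- **Shult's lemma (a)** -/
theorem Hyp.index_eq [Nontrivial W] (h : Hyp α t θ N S) (hne : S ≠ ⊤) : S.index = (N - 1) ^ 2 := by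
  have := Fintype.ofFinite X
  obtain ⟨u, htu, hux, hut⟩ := h.exists_u
  obtain ⟨l, hl⟩ := Module.End.exists_eigenvalue u
  obtain ⟨hl0, U, hU, htU, hU1, hUE, hirr⟩ := h.exists_sub htu hux hl
  have hnt : Nontrivial U := Submodule.nontrivial_iff_ne_bot.2 hU1
  exact ((h.restrict hU1 hU htU).irr_case hirr hne).1

theorem Hyp.sum_eq_zero (h : Hyp α t θ N S) (hN : 0 < N) (w : W) :
    ∑ i ∈ Finset.range N, (t ^ i) w = 0 := by
  apply h.fix
  rw [map_sum]
  have h1 : ∀ n : ℕ, t ((t ^ n) w) = (t ^ (n + 1)) w := by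
    intro n; rw [pow_succ', End.mul_apply]
  simp only [h1]
  have h2 := Finset.sum_range_succ' (fun n => (t ^ n) w) N
  have h3 := Finset.sum_range_succ (fun n => (t ^ n) w) N
  rw [h3] at h2
  simp only [pow_zero, h.tN, End.one_apply] at h2
  exact (add_right_cancel h2).symm

/-- **Shult's lemma (b)** -/
theorem Hyp.comm_t [Nontrivial W] (h : Hyp α t θ N S) (hne : S ≠ ⊤) {g : End F W}
    (hg : ∀ x, g * α x = α x * g) : g * t = t * g := by
  classical
  have := Fintype.ofFinite X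
  have hN := h.two_le
  have ht := h.isUnit
  obtain ⟨u, htu, hux, hut⟩ := h.exists_u
  obtain ⟨l, hl⟩ := Module.End.exists_eigenvalue u
  obtain ⟨hl0, -⟩ := h.exists_sub htu hux hl
  -- action on eigenspaces of `u`
  have hTi : ∀ (m : F) (w : W), w ∈ End.eigenspace u m → ∀ i : ℕ,
      (T α θ ^ i) w = m ^ i • (t ^ i) w := by
    intro m w hw i
    induction i generalizing w with
    | zero => simp
    | succ i ih =>
      have hw' := End.mem_eigenspace_iff.1 hw
      have h1 : (T α θ) w = m • t w := by rw [← htu, End.mul_apply, hw', map_smul]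
      have h2 : t w ∈ End.eigenspace u m := by
        rw [End.mem_eigenspace_iff, ← End.mul_apply, hut, End.mul_apply, hw', map_smul]
      rw [pow_succ, End.mul_apply, h1, map_smul, ih _ h2, smul_smul, pow_succ t, End.mul_apply,
        ← pow_succ']
  let Ψ : End F W := ∑ i ∈ Finset.range N, (l⁻¹) ^ i • (T α θ) ^ i
  have hΨmem : Ψ ∈ alg α :=
    Subalgebra.sum_mem _ (fun i _ => Subalgebra.smul_mem _ (Subalgebra.pow_mem _ T_mem i) _)
  have hE : ∀ m : F, ∀ x, ∀ w ∈ End.eigenspace u m, α x w ∈ End.eigenspace u m := by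
    intro m x w hw
    rw [End.mem_eigenspace_iff] at hw ⊢
    rw [← End.mul_apply, hux, End.mul_apply, hw, map_smul]
  have hΨapp : ∀ (m : F) (w : W), w ∈ End.eigenspace u m →
      Ψ w = ∑ i ∈ Finset.range N, (l⁻¹ * m) ^ i • (t ^ i) w := by
    intro m w hw
    show (∑ i ∈ Finset.range N, (l⁻¹) ^ i • (T α θ) ^ i) w = _
    rw [LinearMap.sum_apply]
    apply Finset.sum_congr rfl
    intro i _
    rw [LinearMap.smul_apply, hTi m w hw, smul_smul, mul_pow]
  have hΨ0 : Ψ = 0 := by
    apply h.eq_zero hl (hE l) hΨmem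
    intro w hw
    rw [hΨapp l w hw, inv_mul_cancel₀ hl0]
    simp only [one_pow, one_smul]
    exact h.sum_eq_zero (by omega) w
  -- only one eigenvalue
  have huniq : ∀ m : F, End.eigenspace u m ≠ ⊥ → m = l := by
    intro m hm
    by_contra hml
    set κ := l⁻¹ * m with hκ
    have hκ1 : κ ≠ 1 := by
      intro h1
      apply hml
      rw [hκ, inv_mul_eq_one₀ hl0] at h1
      exact h1.symm
    obtain ⟨hm0, U, hU, htU, hU1, hUE, hirr⟩ := h.exists_sub htu hux hm
    have hκ0 : κ ≠ 0 := mul_ne_zero (inv_ne_zero hl0) hm0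
    have hnt : Nontrivial U := Submodule.nontrivial_iff_ne_bot.2 hU1
    -- eigenvectors in `U`
    have heig : ∀ μ : F, ∀ w ∈ U, w ≠ 0 → t w = μ • w →
        μ ^ N = 1 ∧ μ ≠ 1 ∧ κ * μ ≠ 1 ∧ (κ * μ) ^ N = 1 := by
      intro μ w hw hw0 htw
      have h1 : ∀ n : ℕ, (t ^ n) w = μ ^ n • w := by
        intro n
        induction n with
        | zero => simp
        | succ n ih => rw [pow_succ', End.mul_apply, ih, map_smul, htw, smul_smul, pow_succ]
      have h2 : μ ^ N = 1 := by
        have h3 := h1 N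
        rw [h.tN, End.one_apply] at h3
        have h4 : (μ ^ N - 1) • w = 0 := by rw [sub_smul, one_smul, ← h3, sub_self]
        rcases smul_eq_zero.1 h4 with h5 | h5
        · exact sub_eq_zero.1 h5
        · exact absurd h5 hw0
      have h3 : μ ≠ 1 := by
        rintro rfl
        exact hw0 (h.fix w (by rw [htw, one_smul]))
      have h4 := hΨapp m w (hUE hw)
      rw [hΨ0, LinearMap.zero_apply] at h4
      simp only [h1, smul_smul, ← mul_pow] at h4
      rw [← Finset.sum_smul, ← hκ] at h4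
      have h5 : ∑ i ∈ Finset.range N, (κ * μ) ^ i = 0 := by
        rcases smul_eq_zero.1 h4.symm with h6 | h6
        · exact h6
        · exact absurd h6 hw0
      refine ⟨h2, h3, ?_, ?_⟩
      · intro h6
        rw [h6] at h5
        simp only [one_pow, Finset.sum_const, Finset.card_range, nsmul_eq_mul, mul_one] at h5
        exact h.NF h5
      · have h6 := geom_sum_mul (κ * μ) N
        rw [h5, zero_mul] at h6
        exact (sub_eq_zero.1 h6.symm)
    have hκN : κ ^ N = 1 := by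
      obtain ⟨μ, hμ⟩ := Module.End.exists_eigenvalue (t.restrict htU)
      obtain ⟨⟨w, hw⟩, hw1, hw0⟩ := hμ.exists_hasEigenvector
      rw [End.mem_eigenspace_iff] at hw1
      obtain ⟨h1, -, -, h2⟩ := heig μ w hw (fun h0 => hw0 (Subtype.ext h0)) (congrArg Subtype.val hw1)
      rw [mul_pow, h1, mul_one] at h2
      exact h2
    let R : Finset F := ((Polynomial.nthRootsFinset N (1 : F)).erase 1).erase κ⁻¹
    have hR : ∀ μ, End.eigenspace (t.restrict htU) μ ≠ ⊥ → μ ∈ R := by
      intro μ hμ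
      obtain ⟨⟨w, hw⟩, hw1, hw0⟩ := Submodule.exists_mem_ne_zero_of_ne_bot hμ
      rw [End.mem_eigenspace_iff] at hw1
      obtain ⟨h1, h2, h3, -⟩ := heig μ w hw (fun h0 => hw0 (Subtype.ext h0)) (congrArg Subtype.val hw1)
      rw [Finset.mem_erase, Finset.mem_erase, Polynomial.mem_nthRootsFinset (by omega)]
      refine ⟨?_, h2, h1⟩
      intro h4
      apply h3
      rw [h4, mul_inv_cancel₀ hκ0]
    have hcard : R.card ≤ N - 2 := by
      have h1 : (1 : F) ∈ Polynomial.nthRootsFinset N (1 : F) := by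
        rw [Polynomial.mem_nthRootsFinset (by omega)]; simp
      have h2 : (Polynomial.nthRootsFinset N (1 : F)).card ≤ N := by
        unfold Polynomial.nthRootsFinset
        refine (Multiset.toFinset_card_le _).trans (Polynomial.card_nthRoots N 1)
      have h3 : κ⁻¹ ∈ (Polynomial.nthRootsFinset N (1 : F)).erase 1 := by
        rw [Finset.mem_erase, Polynomial.mem_nthRootsFinset (by omega)]
        refine ⟨fun h4 => hκ1 (inv_eq_one.1 h4), ?_⟩
        rw [inv_pow, hκN, inv_one]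
      show (((Polynomial.nthRootsFinset N (1 : F)).erase 1).erase κ⁻¹).card ≤ N - 2
      rw [Finset.card_erase_of_mem h3, Finset.card_erase_of_mem h1]
      omega
    have h1 := ((h.restrict hU1 hU htU).irr_case hirr hne).2 R hR
    omega
  -- `u` is semisimple
  have hTN : ∃ c : F, T α θ ^ N = c • 1 := by
    apply h.scalar_of_comm (Subalgebra.pow_mem _ T_mem N)
    intro x
    have h1 : ∀ n : ℕ, ∀ x, T α θ ^ n * α x = α ((θ ^ n) x) * T α θ ^ n := by
      intro n
      induction n with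
      | zero => intro x; simp
      | succ n ih =>
        intro x
        rw [pow_succ, mul_assoc, T_mul, ← mul_assoc, ih, mul_assoc, pow_succ, MulAut.mul_apply]
    have h2 := h.pow_inter N x
    rw [h.tN, one_mul, mul_one] at h2
    rw [h1, ← h2]
  obtain ⟨c, hc⟩ := hTN
  have huN : u ^ N = c • 1 := by
    have h1 : Commute t u := hut.symm
    have h2 := h1.mul_pow N
    rw [htu, hc, h.tN, one_mul] at h2
    exact h2.symm
  have hc0 : c ≠ 0 := by
    rintro rfl
    rw [zero_smul] at hc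
    have h1 : ∀ n : ℕ, ∀ w, (T α θ ^ n) w = 0 → w = 0 := by
      intro n
      induction n with
      | zero => intro w hw; simpa using hw
      | succ n ih =>
        intro w hw
        rw [pow_succ, End.mul_apply] at hw
        have h2 := ih _ hw
        have h3 : w ∈ LinearMap.ker (T α θ) := h2
        rwa [h.ker_T, Submodule.mem_bot] at h3
    obtain ⟨w, hw⟩ := exists_ne (0 : W)
    exact hw (h1 N w (by rw [hc, LinearMap.zero_apply]))
  have hss : u.IsSemisimple := isSemisimple_of_pow u h.NF hc0 huN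
  have htop := hss.iSup_eigenspace_eq_top
  have hltop : End.eigenspace u l = ⊤ := by
    rw [eq_top_iff, ← htop]
    apply iSup_le
    intro m
    by_cases hm : End.eigenspace u m = ⊥
    · rw [hm]; exact bot_le
    · rw [huniq m hm]
  have hu : u = l • 1 := by
    ext w
    have h1 : w ∈ End.eigenspace u l := by rw [hltop]; trivial
    rw [End.mem_eigenspace_iff] at h1
    rw [h1]; rfl
  have htT : t = l⁻¹ • T α θ := by
    rw [← htu, hu, mul_smul_comm, mul_one, smul_smul, inv_mul_cancel₀ hl0, one_smul]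
  rw [htT, mul_smul_comm, smul_mul_assoc, alg_comm T_mem hg]

end main

end Cfsg.Agent.H452.Shult
end

-- part: H452/Num
section
/-!
# Number theory for the odd case of Shult's theorem
-/

set_option autoImplicit false

namespace Cfsg.Agent.H452.Num

/-- `p` odd, `2 ^ d = p ^ k - 1`, `p ^ n ∣ 2 ^ M - 1`, `k ≤ n`, `0 < M` imply `2 d p ^ (n - k) ≤ M`. -/
theorem le_of_dvd {p k n d M : ℕ} (hp : p.Prime) (hp2 : p ≠ 2) (hk : 0 < k) (hd : 2 ^ d + 1 = p ^ k)
    (hkn : k ≤ n) (hM : 0 < M) (h : p ^ n ∣ 2 ^ M - 1) : 2 * d * p ^ (n - k) ≤ M := by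
  have hp3 : 3 ≤ p := by
    have := hp.two_le
    omega
  have hpk : 3 ≤ p ^ k := by
    calc 3 ≤ p := hp3
      _ = p ^ 1 := (pow_one p).symm
      _ ≤ p ^ k := Nat.pow_le_pow_right hp.pos hk
  have hd1 : 0 < d := by
    rcases Nat.eq_zero_or_pos d with h0 | h0
    · subst h0
      rw [pow_zero] at hd
      omega
    · exact h0
  have hpk' : p ^ k ∣ 2 ^ M - 1 := (pow_dvd_pow p hkn).trans h
  have hM1 : 1 ≤ 2 ^ M := Nat.one_le_two_pow
  -- work in ZMod
  have hz : ((2 : ℕ) : ZMod (p ^ k)) ^ M = 1 := by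
    have h1 : ((2 ^ M - 1 : ℕ) : ZMod (p ^ k)) = 0 := (ZMod.natCast_eq_zero_iff _ _).2 hpk'
    rw [Nat.cast_sub hM1, Nat.cast_pow, Nat.cast_one, sub_eq_zero] at h1
    exact h1
  have hzd : ((2 : ℕ) : ZMod (p ^ k)) ^ d = -1 := by
    have h1 : ((2 ^ d + 1 : ℕ) : ZMod (p ^ k)) = 0 := by
      rw [hd]; exact (ZMod.natCast_eq_zero_iff _ _).2 dvd_rfl
    rw [Nat.cast_add, Nat.cast_pow, Nat.cast_one] at h1
    exact eq_neg_of_add_eq_zero_left h1
  have hz2d : ((2 : ℕ) : ZMod (p ^ k)) ^ (2 * d) = 1 := by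
    rw [mul_comm, pow_mul, hzd]; ring
  have hzero : ∀ a : ℕ, 0 < a → a < p ^ k → ((a : ℕ) : ZMod (p ^ k)) ≠ 0 := by
    intro a ha hap h0
    have h1 := (ZMod.natCast_eq_zero_iff _ _).1 h0
    exact absurd (Nat.le_of_dvd ha h1) (by omega)
  have hmod : M % (2 * d) = 0 := by
    by_contra hr
    set s := M % (2 * d) with hs
    have hs0 : 0 < s := Nat.pos_of_ne_zero hr
    have hs2 : s < 2 * d := Nat.mod_lt _ (by omega)
    have hzs : ((2 : ℕ) : ZMod (p ^ k)) ^ s = 1 := by
      have h1 := hz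
      rw [← Nat.mod_add_div M (2 * d), pow_add, pow_mul, hz2d, one_pow, mul_one] at h1
      exact h1
    rcases le_or_gt s d with hsd | hsd
    · have h1 : 1 ≤ 2 ^ s := Nat.one_le_two_pow
      have h2 : ((2 ^ s - 1 : ℕ) : ZMod (p ^ k)) = 0 := by
        rw [Nat.cast_sub h1, Nat.cast_pow, hzs, Nat.cast_one, sub_self]
      refine hzero _ ?_ ?_ h2
      · have : 1 < 2 ^ s := Nat.one_lt_two_pow hs0.ne'
        omega
      · have : 2 ^ s ≤ 2 ^ d := Nat.pow_le_pow_right (by norm_num) hsd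
        omega
    · obtain ⟨e, he⟩ : ∃ e, s = d + e := ⟨s - d, by omega⟩
      have h2 : ((2 ^ e + 1 : ℕ) : ZMod (p ^ k)) = 0 := by
        rw [he, pow_add, hzd] at hzs
        rw [Nat.cast_add, Nat.cast_pow, Nat.cast_one]
        linear_combination -hzs
      refine hzero _ (Nat.succ_pos _) ?_ h2
      have : 2 ^ e < 2 ^ d := Nat.pow_lt_pow_right (by norm_num) (by omega)
      omega
  obtain ⟨q, hq⟩ := Nat.dvd_of_mod_eq_zero hmod
  have hq0 : q ≠ 0 := by
    rintro rfl
    rw [mul_zero] at hq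
    omega
  have hfp : Fact p.Prime := ⟨hp⟩
  have hpodd : Odd p := hp.odd_of_ne_two hp2
  have hp2k : ¬ p ∣ p ^ k - 2 := by
    intro h1
    have h2 : p ∣ p ^ k := dvd_pow_self p hk.ne'
    have h3 : p ∣ 2 := by
      have h4 : p ^ k - (p ^ k - 2) = 2 := by omega
      rw [← h4]
      exact Nat.dvd_sub h2 h1
    have := Nat.le_of_dvd (by norm_num) h3
    omega
  have hfac : 2 ^ (2 * d) - 1 ^ (1 : ℕ) = (p ^ k - 2) * p ^ k := by
    have h1 : 2 ^ (2 * d) = 2 ^ d * 2 ^ d := by rw [two_mul, pow_add]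
    rw [h1, one_pow]
    obtain ⟨a, ha⟩ : ∃ a, 2 ^ d = a + 1 := ⟨2 ^ d - 1, by have : 1 ≤ 2 ^ d := Nat.one_le_two_pow; omega⟩
    have h2 : p ^ k = a + 2 := by omega
    rw [ha, h2]
    have h3 : a + 2 - 2 = a := by omega
    rw [h3]
    have h4 : (a + 1) * (a + 1) = a * (a + 2) + 1 := by ring
    omega
  have hv1 : padicValNat p (2 ^ (2 * d) - 1) = k := by
    rw [← one_pow (1 : ℕ) (M := ℕ), hfac, padicValNat.mul (by omega) (by positivity),
      padicValNat.eq_zero_of_not_dvd hp2k, padicValNat.prime_pow, zero_add]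
  have hv2 : padicValNat p ((2 ^ (2 * d)) ^ q - 1 ^ q) = k + padicValNat p q := by
    have h4 : 1 < 2 ^ (2 * d) := Nat.one_lt_two_pow (by omega)
    rw [padicValNat.pow_sub_pow hpodd h4 ?_ ?_ hq0, hv1]
    · have : 2 ^ (2 * d) - 1 = (p ^ k - 2) * p ^ k := by rw [← hfac, one_pow]
      rw [this]
      exact Dvd.dvd.mul_left (dvd_pow_self p hk.ne') _
    · intro h5
      have h6 := hp.dvd_of_dvd_pow h5
      have := Nat.le_of_dvd (by norm_num) h6
      omega
  have hne : 2 ^ M - 1 ≠ 0 := by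
    have : 1 < 2 ^ M := Nat.one_lt_two_pow hM.ne'
    omega
  have hv3 : n ≤ padicValNat p (2 ^ M - 1) := (padicValNat_dvd_iff_le hne).1 h
  rw [hq, pow_mul, ← one_pow q, hv2] at hv3
  have h7 : p ^ (n - k) ∣ q := (padicValNat_dvd_iff_le hq0).2 (by omega)
  have h8 := Nat.le_of_dvd (Nat.pos_of_ne_zero hq0) h7
  rw [hq]
  exact Nat.mul_le_mul_left _ h8

end Cfsg.Agent.H452.Num
end

-- part: H452/T2Odd
section
/-!
# The two-step property for cyclic `p`-groups, `p` odd
-/

set_option autoImplicit false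

namespace Cfsg.Agent.H452.T2Odd

open Module
open scoped commutatorElement
open Cfsg.Agent.OddOrderLocal.Thm34Weights
open Cfsg.Agent.Lib.CoprimeCommutator
open Cfsg.Agent.H452.Base Cfsg.Agent.H452.TopN Cfsg.Agent.H452.MinAct Cfsg.Agent.H452.Orbit
open Cfsg.Agent.H452.T2

attribute [local instance] wtAction

universe u

/-- an automorphism acting freely outside one point of `X / S` -/
theorem index_mod {X : Type*} [Group X] [Finite X] (S : Subgroup X) [hn : S.Normal] (θ : MulAut X)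
    (hθS : ∀ x ∈ S, θ x ∈ S) {N : ℕ} (hN : 0 < N) (hθN : ∀ x, (θ ^ N) x * x⁻¹ ∈ S)
    (hfree : ∀ i, 0 < i → i < N → ∀ x, (θ ^ i) x * x⁻¹ ∈ S → x ∈ S) (hne : S ≠ ⊤) :
    N ∣ S.index + (N - 1) := by
  have hθS' : S.map (θ : X →* X) = S := by
    have h1 : S.map (θ : X →* X) ≤ S := by
      rintro _ ⟨x, hx, rfl⟩
      exact hθS x hx
    apply Subgroup.eq_of_le_of_card_ge h1
    rw [Subgroup.card_map_of_injective (f := (θ : X →* X)) θ.injective]
  let σ : Equiv.Perm (X ⧸ S) := (QuotientGroup.congr S S θ hθS').toEquiv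
  have hσ : ∀ x : X, σ (QuotientGroup.mk x) = QuotientGroup.mk (θ x) := fun x => rfl
  have hσn : ∀ (n : ℕ) (x : X), (σ ^ n) (QuotientGroup.mk x) = QuotientGroup.mk ((θ ^ n) x) := by
    intro n
    induction n with
    | zero => intro x; rfl
    | succ n ih =>
      intro x
      rw [pow_succ', Equiv.Perm.mul_apply, ih, hσ, pow_succ']
      rfl
  have hmk : ∀ x y : X, (QuotientGroup.mk x : X ⧸ S) = QuotientGroup.mk y ↔ x * y⁻¹ ∈ S := by
    intro x y
    rw [eq_comm, QuotientGroup.eq]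
    constructor
    · intro h1
      have h2 := hn.conj_mem _ h1 y
      have h3 : y * (y⁻¹ * x) * y⁻¹ = x * y⁻¹ := by group
      rwa [h3] at h2
    · intro h1
      have h2 := hn.conj_mem _ h1 y⁻¹
      have h3 : y⁻¹ * (x * y⁻¹) * y⁻¹⁻¹ = y⁻¹ * x := by group
      rwa [h3] at h2
  have hσN : σ ^ N = 1 := by
    ext q
    obtain ⟨x, rfl⟩ := QuotientGroup.mk_surjective q
    rw [hσn, Equiv.Perm.one_apply, hmk]
    exact hθN x
  have hfr : ∀ i, 0 < i → i < N → ∀ q, (σ ^ i) q = q → q = (QuotientGroup.mk (1 : X)) := by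
    intro i hi hiN q hq
    obtain ⟨x, rfl⟩ := QuotientGroup.mk_surjective q
    rw [hσn, hmk] at hq
    exact (QuotientGroup.eq_one_iff x).2 (hfree i hi hiN x hq)
  have h₀ : σ (QuotientGroup.mk (1 : X)) = QuotientGroup.mk (1 : X) := by rw [hσ, map_one]
  have hex : ∃ q : X ⧸ S, q ≠ QuotientGroup.mk 1 := by
    by_contra hcon
    push Not at hcon
    apply hne
    rw [eq_top_iff]
    intro x _
    exact (QuotientGroup.eq_one_iff x).1 (hcon (QuotientGroup.mk x))
  have hcount := Shult.orbit_count σ hN hσN (QuotientGroup.mk (1 : X)) hfr h₀ hex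
  rw [← Subgroup.index_eq_card] at hcount
  exact ⟨_, hcount.symm⟩

/-- Lemma E for a group acting commutatively (not nec. faithfully) and a cyclic `p`-group. -/
theorem comm_of_cyclic {F : Type*} [Field F] [IsAlgClosed F] {G : Type*} [Group G] [Finite G]
    {V : Type*} [AddCommGroup V] [Module F V] [FiniteDimensional F V] (ρ : Representation F G V)
    (N : Subgroup G) (hN : (Nat.card N : F) ≠ 0) (hcomm : ∀ a ∈ N, ∀ b ∈ N, ρ (a * b) = ρ (b * a))
    {τ : G} {p k : ℕ} [hp : Fact p.Prime] (hpF : (p : F) ≠ 0) (hτ : τ ^ p ^ (k + 1) = 1)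
    (hτN : Subgroup.zpowers τ ≤ Subgroup.normalizer (N : Set G))
    (hfix : ∀ v, ρ τ v = v → v = 0) : ∀ n ∈ N, ρ (τ ^ p ^ k * n) = ρ (n * τ ^ p ^ k) := by
  let K : Subgroup G := MonoidHom.ker ρ
  have hKn : K.Normal := MonoidHom.normal_ker ρ
  let ρ' : Representation F (G ⧸ K) V := QuotientGroup.lift K ρ le_rfl
  have hρ' : ∀ g, ρ' (QuotientGroup.mk' K g) = ρ g := fun g => rfl
  have hN' : (Nat.card (N.map (QuotientGroup.mk' K)) : F) ≠ 0 := by
    intro h
    apply hN
    obtain ⟨c, hc⟩ := Subgroup.card_map_dvd N (QuotientGroup.mk' K)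
    rw [hc, Nat.cast_mul, h, zero_mul]
  have hcomm' : ∀ a ∈ N.map (QuotientGroup.mk' K), ∀ b ∈ N.map (QuotientGroup.mk' K),
      a * b = b * a := by
    rintro _ ⟨a, ha, rfl⟩ _ ⟨b, hb, rfl⟩
    rw [← map_mul, ← map_mul]
    refine QuotientGroup.eq.2 ?_
    show (a * b)⁻¹ * (b * a) ∈ K
    rw [MonoidHom.mem_ker, map_mul ρ, ← hcomm a ha b hb, ← map_mul, inv_mul_cancel, map_one]
  have hτ' : (QuotientGroup.mk' K τ) ^ p ^ (k + 1) = 1 := by rw [← map_pow, hτ, map_one]
  have hA := isPGroup_zpowers (p := p) hτ'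
  have key := comm_of_min ρ' (N.map (QuotientGroup.mk' K)) hN' hcomm'
    (Subgroup.zpowers (QuotientGroup.mk' K τ)) (cast_card_ne_zero hpF hA) (by
      rw [← MonoidHom.map_zpowers]
      apply le_normalizer_of_conj
      rintro _ ⟨a, ha, rfl⟩ _ ⟨x, hx, rfl⟩
      exact ⟨a * x * a⁻¹, conj_of_le_normalizer hτN ha hx, by rw [map_mul, map_mul, map_inv]⟩)
    (fun v hv => hfix v (hv _ (Subgroup.mem_zpowers _))) (φ := (QuotientGroup.mk' K τ) ^ p ^ k)
    (Subgroup.pow_mem _ (Subgroup.mem_zpowers _) _)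
    (fun H hH hH1 => mem_of_ne_bot hp.out hτ' hH hH1)
  intro n hn
  have h1 := key (QuotientGroup.mk' K n) ⟨n, hn, rfl⟩
  rw [← map_pow, ← map_mul, ← map_mul] at h1
  exact h1

/-- subgroups of a cyclic `p`-group -/
theorem exists_zpowers {G : Type*} [Group G] {p n : ℕ} (hp : p.Prime) {σ : G}
    (hσ : σ ^ p ^ n = 1) {H : Subgroup G} (hH : H ≤ Subgroup.zpowers σ) :
    ∃ j ≤ n, H = Subgroup.zpowers (σ ^ p ^ j) := by
  classical
  have hex : ∃ j, σ ^ p ^ j ∈ H := ⟨n, by rw [hσ]; exact H.one_mem⟩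
  refine ⟨Nat.find hex, Nat.find_min' hex (by rw [hσ]; exact H.one_mem), ?_⟩
  apply le_antisymm
  · intro h hh
    obtain ⟨l, hl⟩ := hH hh
    have hl' : σ ^ l = h := hl
    have hb := Int.gcd_eq_gcd_ab l (p ^ n : ℕ)
    have hg : (Int.gcd l (p ^ n : ℕ)) ∣ p ^ n := by
      have := Int.gcd_dvd_natAbs_right l ((p ^ n : ℕ) : ℤ)
      rwa [Int.natAbs_natCast] at this
    obtain ⟨i, hi, hi'⟩ := (Nat.dvd_prime_pow hp).1 hg
    have hmem : σ ^ p ^ i ∈ H := by
      have h2 : σ ^ ((p ^ i : ℕ) : ℤ) = h ^ (Int.gcdA l (p ^ n : ℕ)) := by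
        rw [← hi', hb, zpow_add, zpow_mul, hl', zpow_mul, zpow_natCast, hσ, one_zpow, mul_one]
      rw [zpow_natCast] at h2
      rw [h2]
      exact H.zpow_mem hh _
    have hle : Nat.find hex ≤ i := Nat.find_min' hex hmem
    have h3 : ((p ^ Nat.find hex : ℕ) : ℤ) ∣ l := by
      have h4 : ((p ^ i : ℕ) : ℤ) ∣ l := by
        rw [← hi']
        exact Int.gcd_dvd_left ..
      exact (Int.natCast_dvd_natCast.2 (pow_dvd_pow p hle)).trans h4
    obtain ⟨c, hc⟩ := h3
    refine ⟨c, ?_⟩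
    show (σ ^ p ^ Nat.find hex) ^ c = h
    rw [← hl', hc, zpow_mul, zpow_natCast]
  · rw [Subgroup.zpowers_le]
    exact Nat.find_spec hex

section crit

variable {p m r : ℕ} [hp : Fact p.Prime] {F : Type*} [Field F] {Γ : Type*} [Group Γ] [Finite Γ]
  {V : Type*} [AddCommGroup V] [Module F V] {ρ : Representation F Γ V} {σ : Γ} {Q Z : Subgroup Γ}

/-- the representation of the stabiliser of a weight on the weight space -/
def wrep (ρ : Representation F Γ V) (Z : Subgroup Γ) [Z.Normal] (χ : Z → F) :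
    Representation F (MulAction.stabilizer Γ χ) (wt ρ Z χ) :=
  Representation.subrepresentation (ρ.comp (MulAction.stabilizer Γ χ).subtype) (wt ρ Z χ) (fun g v hv => by
    have h1 := smul_mem_wt hv (g : Γ)
    rwa [MulAction.mem_stabilizer_iff.1 g.2] at h1)

omit hp [Finite Γ] in
theorem wrep_apply [Z.Normal] (χ : Z → F) (g : MulAction.stabilizer Γ χ) (v : wt ρ Z χ) :
    ((wrep ρ Z χ g v : wt ρ Z χ) : V) = ρ g v := rfl

/-- the elements of `Q` acting as scalars on the weight space of `ψ` -/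
def Tn (h : Crit p m r ρ σ Q Z) [Z.Normal] (ψ : Z → F) : Subgroup Γ where
  carrier := {x | x ∈ Q ∧ ∃ c : F, ∀ v ∈ wt ρ Z ψ, ρ x v = c • v}
  mul_mem' := by
    rintro a b ⟨ha, c, hc⟩ ⟨hb, d, hd⟩
    refine ⟨Q.mul_mem ha hb, c * d, fun v hv => ?_⟩
    rw [map_mul, End.mul_apply, hd v hv, map_smul, hc v hv, smul_smul, mul_comm]
  one_mem' := ⟨Q.one_mem, 1, fun v _ => by rw [map_one, End.one_apply, one_smul]⟩
  inv_mem' := by
    rintro a ⟨ha, c, hc⟩
    refine ⟨Q.inv_mem ha, c⁻¹, fun v hv => ?_⟩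
    have h1 : ρ a⁻¹ v ∈ wt ρ Z ψ := by
      have h2 := smul_mem_wt hv a⁻¹
      rwa [h.smul_eq ψ (Q.inv_mem ha)] at h2
    have h2 := hc _ h1
    rw [← End.mul_apply, ← map_mul, mul_inv_cancel, map_one, End.one_apply] at h2
    by_cases hc0 : c = 0
    · rw [hc0, zero_smul] at h2
      rw [h2, map_zero, smul_zero]
    · conv_rhs => rw [h2]
      rw [smul_smul, inv_mul_cancel₀ hc0, one_smul]

omit hp [Finite Γ] in
theorem mem_Tn (h : Crit p m r ρ σ Q Z) [Z.Normal] {ψ : Z → F} {x : Γ} :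
    x ∈ Tn h ψ ↔ x ∈ Q ∧ ∃ c : F, ∀ v ∈ wt ρ Z ψ, ρ x v = c • v := Iff.rfl

omit hp [Finite Γ] in
theorem Tn_le (h : Crit p m r ρ σ Q Z) [Z.Normal] (ψ : Z → F) : Tn h ψ ≤ Q := fun _ hx => hx.1

omit hp [Finite Γ] in
theorem le_Tn (h : Crit p m r ρ σ Q Z) [Z.Normal] (ψ : Z → F) : Z ≤ Tn h ψ := by
  intro z hz
  refine ⟨h.le hz, ψ ⟨z, hz⟩, fun v hv => ?_⟩
  rw [mem_wt] at hv
  exact hv ⟨z, hz⟩

omit hp [Finite Γ] in
theorem Tn_conj (h : Crit p m r ρ σ Q Z) [Z.Normal] {ψ : Z → F} (g : Γ) {x : Γ} (hx : x ∈ Tn h ψ) :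
    g * x * g⁻¹ ∈ Tn h (g • ψ) := by
  obtain ⟨hxQ, c, hc⟩ := hx
  refine ⟨h.normQ.conj_mem x hxQ g, c, fun v hv => ?_⟩
  have h1 : ρ g⁻¹ v ∈ wt ρ Z ψ := by
    have h2 := smul_mem_wt hv g⁻¹
    rwa [inv_smul_smul] at h2
  rw [map_mul, map_mul, End.mul_apply, End.mul_apply, hc _ h1, map_smul, ← End.mul_apply, ← map_mul,
    mul_inv_cancel, map_one, End.one_apply]

omit hp in
theorem Tn_card (h : Crit p m r ρ σ Q Z) [Z.Normal] (ψ : Z → F) (g : Γ) :
    (Tn h (g • ψ)).relIndex Q = (Tn h ψ).relIndex Q := by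
  have h1 : ∀ (ψ : Z → F) (g : Γ), Nat.card (Tn h ψ) ≤ Nat.card (Tn h (g • ψ)) := by
    intro ψ g
    apply Nat.card_le_card_of_injective
      (fun x : Tn h ψ => (⟨g * x * g⁻¹, Tn_conj h g x.2⟩ : Tn h (g • ψ)))
    intro a b hab
    have h2 : g * (a : Γ) * g⁻¹ = g * b * g⁻¹ := congrArg Subtype.val hab
    apply Subtype.ext
    simpa using h2
  have h2 : Nat.card (Tn h (g • ψ)) = Nat.card (Tn h ψ) := by
    apply le_antisymm
    · have h3 := h1 (g • ψ) g⁻¹
      rwa [inv_smul_smul] at h3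
    · exact h1 ψ g
  have h3 : ∀ H : Subgroup Γ, H ≤ Q → Nat.card H * H.relIndex Q = Nat.card Q := by
    intro H hH
    have h4 := (H.subgroupOf Q).card_mul_index
    rwa [Nat.card_congr (Subgroup.subgroupOfEquivOfLe hH).toEquiv] at h4
  have h4 := h3 _ (Tn_le h (g • ψ))
  have h5 := h3 _ (Tn_le h ψ)
  rw [h2, ← h5] at h4
  exact Nat.eq_of_mul_eq_mul_left Nat.card_pos h4

omit hp [Finite Γ] in
/-- a subgroup between `Z` and `Q` is normalised by `Q` -/
theorem conj_mem_of_le (h : Crit p m r ρ σ Q Z) {D : Subgroup Γ} (hZD : Z ≤ D) (hDQ : D ≤ Q)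
    {x y : Γ} (hx : x ∈ D) (hy : y ∈ Q) : y * x * y⁻¹ ∈ D := by
  have h1 : y * x * y⁻¹ = (y * x * y⁻¹ * x⁻¹) * x := by group
  rw [h1]
  exact D.mul_mem (hZD (h.comm y hy x (hDQ hx))) hx

/-- nontrivial elements of `⟨σ⟩` act freely on `Q / D` for an invariant `D ≥ Z`. -/
theorem free_gen (h : Crit p m r ρ σ Q Z) {D : Subgroup Γ} (hZD : Z ≤ D) (hDQ : D ≤ Q) {c : Γ}
    (hc : c ∈ Subgroup.zpowers σ) (hc1 : c ≠ 1)
    (hcD : Subgroup.zpowers c ≤ Subgroup.normalizer (D : Set Γ)) {x : Γ} (hx : x ∈ Q)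
    (hcx : c * x * c⁻¹ * x⁻¹ ∈ D) : x ∈ D := by
  have hφ : σ ^ p ^ m ∈ Subgroup.zpowers c := by
    apply mem_of_ne_bot hp.out h.pow (by rw [Subgroup.zpowers_le]; exact hc)
    intro hb
    exact hc1 (Subgroup.zpowers_eq_bot.1 hb)
  let E : Subgroup Γ :=
    { carrier := {a | a ∈ Subgroup.zpowers c ∧ a * x * a⁻¹ * x⁻¹ ∈ D}
      mul_mem' := by
        rintro a b ⟨ha, ha'⟩ ⟨hb, hb'⟩
        refine ⟨Subgroup.mul_mem _ ha hb, ?_⟩
        have h1 : a * b * x * (a * b)⁻¹ * x⁻¹ = (a * (b * x * b⁻¹ * x⁻¹) * a⁻¹) *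
            (a * x * a⁻¹ * x⁻¹) := by group
        rw [h1]
        exact D.mul_mem (conj_of_le_normalizer hcD ha hb') ha'
      one_mem' := by
        refine ⟨Subgroup.one_mem _, ?_⟩
        have h1 : (1 : Γ) * x * 1⁻¹ * x⁻¹ = 1 := by group
        rw [h1]; exact D.one_mem
      inv_mem' := by
        rintro a ⟨ha, ha'⟩
        refine ⟨Subgroup.inv_mem _ ha, ?_⟩
        have h1 : a⁻¹ * x * a⁻¹⁻¹ * x⁻¹ = (a⁻¹ * (a * x * a⁻¹ * x⁻¹) * a⁻¹⁻¹)⁻¹ := by group
        rw [h1]
        exact D.inv_mem (conj_of_le_normalizer hcD (Subgroup.inv_mem _ ha) ha') }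
  have hE : Subgroup.zpowers c ≤ E := by
    rw [Subgroup.zpowers_le]
    exact ⟨Subgroup.mem_zpowers c, hcx⟩
  have hφp : IsPGroup p (Subgroup.zpowers (σ ^ p ^ m)) :=
    (isPGroup_zpowers h.pow).to_le (pow_mem_zpowers σ _)
  have hφc : Subgroup.zpowers (σ ^ p ^ m) ≤ Subgroup.zpowers c := by
    rw [Subgroup.zpowers_le]; exact hφ
  have hpD : ¬ p ∣ Nat.card D := by
    have : Fact r.Prime := ⟨h.prime⟩
    obtain ⟨j, hj⟩ := IsPGroup.iff_card.1 (h.isp.to_le hDQ)
    rw [hj]
    intro hd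
    exact h.ne ((Nat.prime_dvd_prime_iff_eq hp.out h.prime).1 (hp.out.dvd_of_dvd_pow hd)).symm
  obtain ⟨y, hy, hxy⟩ := exists_fixed_in_coset p (Subgroup.zpowers (σ ^ p ^ m)) D hφp
    (hφc.trans hcD) hpD x (by
      intro a ha
      have h1 := (hE (hφc ha)).2
      have h2 : x⁻¹ * (a * x * a⁻¹) = x⁻¹ * (a * x * a⁻¹ * x⁻¹) * x⁻¹⁻¹ := by group
      rw [h2]
      exact conj_mem_of_le h hZD hDQ h1 (Q.inv_mem hx))
  have hyQ : y ∈ Q := by
    have h1 : y = x * (x⁻¹ * y) := by group
    rw [h1]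
    exact Q.mul_mem hx (hDQ hxy)
  have hyZ : y ∈ Z := by
    rw [h.fixZ y hyQ]
    exact ((Subgroup.mem_centralizer_iff.1 hy) _ (Subgroup.mem_zpowers _)).symm
  have h1 : x = y * (x⁻¹ * y)⁻¹ := by group
  rw [h1]
  exact D.mul_mem (hZD hyZ) (D.inv_mem hxy)

omit hp in
/-- `Q` does not act by scalars on the weight space of a nontrivial weight fixed by `φ` -/
theorem not_le_Tn (h : Crit p m r ρ σ Q Z) [Z.Normal] {χ : Z → F} (hχ : wt ρ Z χ ≠ ⊥) {z : Z}
    (hz : χ z ≠ 1) (hφ : σ ^ p ^ m • χ = χ) : ¬ Q ≤ Tn h χ := by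
  intro hQT
  let T : Subgroup Γ :=
    { carrier := {x | ∀ v ∈ wt ρ Z χ, ρ x v = v}
      mul_mem' := fun {a b} ha hb v hv => by rw [map_mul, End.mul_apply, hb v hv, ha v hv]
      one_mem' := fun v _ => by rw [map_one, End.one_apply]
      inv_mem' := fun {a} ha v hv => by
        conv_lhs => rw [← ha v hv]
        rw [← End.mul_apply, ← map_mul, inv_mul_cancel, map_one, End.one_apply] }
  have hQT' : Q ≤ T := by
    conv_lhs => rw [← h.gen]
    rw [Subgroup.commutator_le]
    intro x hx d hd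
    have hd' : ∀ e ∈ Subgroup.zpowers (σ ^ p ^ m), ∀ v ∈ wt ρ Z χ, ρ e v ∈ wt ρ Z χ := by
      intro e he v hv
      have h1 : e ∈ MulAction.stabilizer Γ χ := by
        have h2 : Subgroup.zpowers (σ ^ p ^ m) ≤ MulAction.stabilizer Γ χ := by
          rw [Subgroup.zpowers_le]; exact hφ
        exact h2 he
      have h2 := smul_mem_wt hv e
      rwa [MulAction.mem_stabilizer_iff.1 h1] at h2
    intro v hv
    obtain ⟨-, c, hc⟩ := hQT hx
    obtain ⟨-, c', hc'⟩ := hQT (Q.inv_mem hx)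
    have hd1 := hd' d⁻¹ (Subgroup.inv_mem _ hd) v hv
    have h3 : ρ x (ρ x⁻¹ v) = v := by
      rw [← End.mul_apply, ← map_mul, mul_inv_cancel, map_one, End.one_apply]
    rw [hc' v hv, map_smul, hc v hv] at h3
    rw [commutatorElement_def, map_mul, map_mul, map_mul, End.mul_apply, End.mul_apply,
      End.mul_apply, hc' _ hd1, map_smul, map_smul]
    have h4 : ρ d (ρ d⁻¹ v) = v := by
      rw [← End.mul_apply, ← map_mul, mul_inv_cancel, map_one, End.one_apply]
    rw [h4, hc v hv, h3]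
  obtain ⟨v, hv, hv0⟩ := Submodule.exists_mem_ne_zero_of_ne_bot hχ
  have h11 := hQT' (h.le z.2) v hv
  rw [mem_wt] at hv
  rw [hv z] at h11
  have h12 : (χ z - 1) • v = 0 := by rw [sub_smul, one_smul, h11, sub_self]
  rcases smul_eq_zero.1 h12 with h13 | h13
  · exact hz (sub_eq_zero.1 h13)
  · exact hv0 h13

omit hp [Finite Γ] in
theorem Q_le_stab (h : Crit p m r ρ σ Q Z) [Z.Normal] (χ : Z → F) : Q ≤ MulAction.stabilizer Γ χ :=
  fun _ hx => h.smul_eq χ hx

/-- the hypotheses of Shult's lemma hold on a weight space -/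
theorem shult_hyp [IsAlgClosed F] [FiniteDimensional F V] (h : Crit p m r ρ σ Q Z) [hZn : Z.Normal]
    [hQn : Q.Normal] {χ : Z → F} (hχ : wt ρ Z χ ≠ ⊥) {j : ℕ} (hj : j ≤ m)
    (hst : stab Z (Subgroup.zpowers σ) χ = Subgroup.zpowers (σ ^ p ^ j))
    (hτM : σ ^ p ^ j ∈ MulAction.stabilizer Γ χ) :
    Shult.Hyp ((wrep ρ Z χ).comp (Subgroup.inclusion (Q_le_stab h χ))) (wrep ρ Z χ ⟨_, hτM⟩)
      (MulAut.conjNormal (σ ^ p ^ j)) (p ^ (m - j + 1)) ((Tn h χ).subgroupOf Q) := by
  set τ := σ ^ p ^ j with hτdef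
  have hτN : τ ^ p ^ (m - j + 1) = 1 := by
    rw [hτdef, ← pow_mul, ← pow_add]
    have h1 : j + (m - j + 1) = m + 1 := by omega
    rw [h1, h.pow]
  have hτφ : τ ^ p ^ (m - j) = σ ^ p ^ m := by
    rw [hτdef, ← pow_mul, ← pow_add]
    have h1 : j + (m - j) = m := by omega
    rw [h1]
  have hord : orderOf τ = p ^ (m - j + 1) :=
    orderOf_eq_prime_pow (by rw [hτφ]; exact h.ne_one) hτN
  have hCF := h.cardC
  have hfixC : ∀ v, (∀ a ∈ Subgroup.zpowers σ, ρ a v = v) → v = 0 :=
    fun v hv => h.fixV v (hv σ (Subgroup.mem_zpowers σ))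
  have hfixτ : ∀ v ∈ wt ρ Z χ, ρ τ v = v → v = 0 := by
    intro v hv hτv
    apply eq_zero_of_stab_fixed ρ Z h.cardZ h.abel (Subgroup.zpowers σ) hCF hfixC hv
    intro a ha ha'
    have h1 : a ∈ stab Z (Subgroup.zpowers σ) χ := ⟨ha, ha'⟩
    rw [hst] at h1
    exact pow_fixed ρ hτv a h1
  have hτC : τ ∈ Subgroup.zpowers σ := Subgroup.pow_mem _ (Subgroup.mem_zpowers σ) _
  have hτTn : ∀ i : ℕ, Subgroup.zpowers (τ ^ i) ≤ Subgroup.normalizer (Tn h χ : Set Γ) := by
    intro i
    apply le_normalizer_of_conj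
    intro a ha x hx
    have h1 := Tn_conj h a hx
    have h2 : a ∈ MulAction.stabilizer Γ χ := by
      have h3 : Subgroup.zpowers (τ ^ i) ≤ MulAction.stabilizer Γ χ := by
        rw [Subgroup.zpowers_le]; exact Subgroup.pow_mem _ hτM i
      exact h3 ha
    rwa [MulAction.mem_stabilizer_iff.1 h2] at h1
  have hwt : ∀ x ∈ Q, ∀ v ∈ wt ρ Z χ, ρ x v ∈ wt ρ Z χ := by
    intro x hx v hv
    have h1 := smul_mem_wt hv x
    rwa [h.smul_eq χ hx] at h1
  have hα : ∀ (x : Q) (v : wt ρ Z χ),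
      ((((wrep ρ Z χ).comp (Subgroup.inclusion (Q_le_stab h χ))) x v : wt ρ Z χ) : V) = ρ x v :=
    fun x v => rfl
  have ht : ∀ v : wt ρ Z χ, ((wrep ρ Z χ ⟨τ, hτM⟩ v : wt ρ Z χ) : V) = ρ τ v := fun v => rfl
  exact
  { tN := by
      rw [← map_pow]
      have h1 : (⟨τ, hτM⟩ : MulAction.stabilizer Γ χ) ^ p ^ (m - j + 1) = 1 := Subtype.ext hτN
      rw [h1, map_one]
    NF := by
      rw [Nat.cast_pow]
      exact pow_ne_zero _ h.pF
    XF := h.cardQ
    inter := by
      intro x
      ext v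
      show ρ τ (ρ x v) = ρ (τ * x * τ⁻¹) (ρ τ v)
      rw [← End.mul_apply, ← End.mul_apply, ← map_mul, ← map_mul, inv_mul_cancel_right]
    fix := by
      intro w hw
      apply Subtype.ext
      exact hfixτ w w.2 (congrArg Subtype.val hw)
    scal := by
      intro x
      rw [Subgroup.mem_subgroupOf, mem_Tn]
      constructor
      · rintro ⟨_, c, hc⟩
        refine ⟨c, ?_⟩
        ext v
        exact hc v v.2
      · rintro ⟨c, hc⟩
        refine ⟨x.2, c, fun v hv => ?_⟩
        exact congrArg Subtype.val (LinearMap.congr_fun hc (⟨v, hv⟩ : wt ρ Z χ))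
    comm := by
      intro x y
      rw [Subgroup.mem_subgroupOf]
      exact le_Tn h χ (h.comm x x.2 y y.2)
    free := by
      intro i hi hiN x hx
      rw [Subgroup.mem_subgroupOf] at hx ⊢
      rw [← map_pow] at hx
      have h1 : (((MulAut.conjNormal (τ ^ i) : MulAut Q) x * x⁻¹ : Q) : Γ) =
          τ ^ i * x * (τ ^ i)⁻¹ * (x : Γ)⁻¹ := by
        rw [Subgroup.coe_mul, Subgroup.coe_inv, MulAut.conjNormal_apply]
      rw [h1] at hx
      apply free_gen h (le_Tn h χ) (Tn_le h χ) (Subgroup.pow_mem _ hτC i) _ (hτTn i) x.2 hx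
      intro h2
      have h3 := orderOf_dvd_of_pow_eq_one h2
      rw [hord] at h3
      exact absurd (Nat.le_of_dvd hi h3) (by omega)
    max := by
      intro x hx
      rw [Subgroup.mem_subgroupOf]
      -- the subgroup of elements commuting with `Q` on the weight space
      let M : Subgroup Γ := MulAction.stabilizer Γ χ
      let K : Subgroup M := MonoidHom.ker (wrep ρ Z χ)
      have hKn : K.Normal := MonoidHom.normal_ker _
      let QM : Subgroup M := Q.subgroupOf M
      have hQMn : QM.Normal := Subgroup.Normal.subgroupOf hQn M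
      have hQMn' : (QM.map (QuotientGroup.mk' K)).Normal :=
        hQMn.map _ (QuotientGroup.mk'_surjective K)
      let Y : Subgroup M := QM ⊓ (Subgroup.centralizer (QM.map (QuotientGroup.mk' K) :
        Set (M ⧸ K))).comap (QuotientGroup.mk' K)
      have hYn : Y.Normal := inferInstance
      have hK : ∀ a b : M, QuotientGroup.mk' K a = QuotientGroup.mk' K b ↔
          wrep ρ Z χ a = wrep ρ Z χ b := by
        intro a b
        constructor
        · intro h1
          have h2 : a⁻¹ * b ∈ K := QuotientGroup.eq.1 h1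
          rw [MonoidHom.mem_ker, map_mul] at h2
          have h3 : wrep ρ Z χ a * (wrep ρ Z χ a⁻¹ * wrep ρ Z χ b) = wrep ρ Z χ a := by
            rw [h2, mul_one]
          rw [← mul_assoc, ← map_mul, mul_inv_cancel, map_one, one_mul] at h3
          exact h3.symm
        · intro h1
          refine QuotientGroup.eq.2 ?_
          rw [MonoidHom.mem_ker, map_mul, ← h1, ← map_mul, inv_mul_cancel, map_one]
      have hYcomm : ∀ a ∈ Y, ∀ b ∈ QM, wrep ρ Z χ (a * b) = wrep ρ Z χ (b * a) := by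
        intro a ha b hb
        rw [← hK, map_mul, map_mul]
        exact ((Subgroup.mem_centralizer_iff.1 (Subgroup.mem_comap.1 ha.2)) _ ⟨b, hb, rfl⟩).symm
      have hxM : (x : Γ) ∈ M := Q_le_stab h χ x.2
      have hxY : (⟨x, hxM⟩ : M) ∈ Y := by
        refine ⟨x.2, Subgroup.mem_comap.2 (Subgroup.mem_centralizer_iff.2 ?_)⟩
        rintro _ ⟨b, hb, rfl⟩
        rw [← map_mul, ← map_mul, hK]
        exact (hx ⟨b, hb⟩).symm
      have hYF : (Nat.card Y : F) ≠ 0 := by
        have h1 : Nat.card Y ∣ Nat.card Q := by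
          have h2 : Nat.card QM = Nat.card Q :=
            Nat.card_congr (Subgroup.subgroupOfEquivOfLe (Q_le_stab h χ)).toEquiv
          rw [← h2]
          exact Subgroup.card_dvd_of_le inf_le_left
        intro h0
        apply h.cardQ
        obtain ⟨c, hc⟩ := h1
        rw [hc, Nat.cast_mul, h0, zero_mul]
      have key := comm_of_cyclic (wrep ρ Z χ) Y hYF (fun a ha b hb => hYcomm a ha b hb.1)
        (τ := (⟨τ, hτM⟩ : M)) (p := p) (k := m - j) h.pF (Subtype.ext hτN)
        (by rw [Subgroup.normalizer_eq_top_iff.2 hYn]; exact le_top) (by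
          intro v hv
          apply Subtype.ext
          exact hfixτ v v.2 (congrArg Subtype.val hv)) _ hxY
      -- the kernel on the weight space
      let Kn : Subgroup Γ :=
        { carrier := {y | y ∈ Q ∧ ∀ v ∈ wt ρ Z χ, ρ y v = v}
          mul_mem' := by
            rintro a b ⟨ha, ha'⟩ ⟨hb, hb'⟩
            exact ⟨Q.mul_mem ha hb, fun v hv => by rw [map_mul, End.mul_apply, hb' v hv, ha' v hv]⟩
          one_mem' := ⟨Q.one_mem, fun v _ => by rw [map_one, End.one_apply]⟩
          inv_mem' := by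
            rintro a ⟨ha, ha'⟩
            refine ⟨Q.inv_mem ha, fun v hv => ?_⟩
            conv_lhs => rw [← ha' v hv]
            rw [← End.mul_apply, ← map_mul, inv_mul_cancel, map_one, End.one_apply] }
      have hKnQ : Kn ≤ Q := fun y hy => hy.1
      have hφM : ∀ a ∈ Subgroup.zpowers (σ ^ p ^ m), a ∈ M := by
        have h1 : Subgroup.zpowers (σ ^ p ^ m) ≤ M := by
          rw [Subgroup.zpowers_le, ← hτφ]
          exact Subgroup.pow_mem _ hτM _
        exact h1
      have hφKn : Subgroup.zpowers (σ ^ p ^ m) ≤ Subgroup.normalizer (Kn : Set Γ) := by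
        apply le_normalizer_of_conj
        intro a ha y hy
        refine ⟨hQn.conj_mem y hy.1 a, fun v hv => ?_⟩
        have h1 : ρ a⁻¹ v ∈ wt ρ Z χ := by
          have h2 := smul_mem_wt hv a⁻¹
          rwa [MulAction.mem_stabilizer_iff.1 (Subgroup.inv_mem _ (hφM a ha))] at h2
        rw [map_mul, map_mul, End.mul_apply, End.mul_apply, hy.2 _ h1, ← End.mul_apply, ← map_mul,
          mul_inv_cancel, map_one, End.one_apply]
      have hpKn : ¬ p ∣ Nat.card Kn := by
        have : Fact r.Prime := ⟨h.prime⟩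
        obtain ⟨j, hj⟩ := IsPGroup.iff_card.1 (h.isp.to_le hKnQ)
        rw [hj]
        intro hd
        exact h.ne ((Nat.prime_dvd_prime_iff_eq hp.out h.prime).1 (hp.out.dvd_of_dvd_pow hd)).symm
      have hφp : IsPGroup p (Subgroup.zpowers (σ ^ p ^ m)) :=
        (isPGroup_zpowers h.pow).to_le (pow_mem_zpowers σ _)
      -- `⟨φ⟩` commutes with `x` modulo the kernel
      have hmod : ∀ a ∈ Subgroup.zpowers (σ ^ p ^ m), (x : Γ)⁻¹ * (a * x * a⁻¹) ∈ Kn := by
        intro a ha
        refine ⟨Q.mul_mem (Q.inv_mem x.2) (hQn.conj_mem x x.2 a), ?_⟩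
        have h1 : QuotientGroup.mk' K ⟨a, hφM a ha⟩ * QuotientGroup.mk' K ⟨x, hxM⟩ =
            QuotientGroup.mk' K ⟨x, hxM⟩ * QuotientGroup.mk' K ⟨a, hφM a ha⟩ := by
          have h2 : QuotientGroup.mk' K ((⟨τ, hτM⟩ : M) ^ p ^ (m - j)) * QuotientGroup.mk' K ⟨x, hxM⟩ =
              QuotientGroup.mk' K ⟨x, hxM⟩ * QuotientGroup.mk' K ((⟨τ, hτM⟩ : M) ^ p ^ (m - j)) := by
            rw [← map_mul, ← map_mul, hK]
            exact key
          have ha0 := ha
          obtain ⟨i, hi⟩ := ha0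
          have h3 : (⟨a, hφM a ha⟩ : M) = ((⟨τ, hτM⟩ : M) ^ p ^ (m - j)) ^ i := by
            apply Subtype.ext
            show a = (τ ^ p ^ (m - j)) ^ i
            rw [hτφ]
            exact hi.symm
          rw [h3, map_zpow]
          exact ((show Commute _ _ from h2).zpow_left i)
        intro v hv
        rw [← map_mul, ← map_mul, hK] at h1
        have h4 := congrArg Subtype.val (LinearMap.congr_fun h1 (⟨ρ a⁻¹ v, by
          have h2 := smul_mem_wt hv a⁻¹
          rwa [MulAction.mem_stabilizer_iff.1 (Subgroup.inv_mem _ (hφM a ha))] at h2⟩ : wt ρ Z χ))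
        have h5 : ρ (a * x) (ρ a⁻¹ v) = ρ (x * a) (ρ a⁻¹ v) := h4
        rw [map_mul, End.mul_apply, map_mul _ (a * x) a⁻¹, End.mul_apply, h5, ← End.mul_apply,
          ← End.mul_apply, ← map_mul, ← map_mul]
        have h6 : (x : Γ)⁻¹ * ((x : Γ) * a) * a⁻¹ = 1 := by group
        rw [h6, map_one, End.one_apply]
      obtain ⟨y, hy, hxy⟩ := exists_fixed_in_coset p (Subgroup.zpowers (σ ^ p ^ m)) Kn hφp hφKn hpKn
        (x : Γ) hmod
      have hyQ : y ∈ Q := by
        have h1 : y = x * ((x : Γ)⁻¹ * y) := by group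
        rw [h1]
        exact Q.mul_mem x.2 (hKnQ hxy)
      have hyZ : y ∈ Z := by
        rw [h.fixZ y hyQ]
        exact ((Subgroup.mem_centralizer_iff.1 hy) _ (Subgroup.mem_zpowers _)).symm
      have h1 : (x : Γ) = y * ((x : Γ)⁻¹ * y)⁻¹ := by group
      rw [h1]
      refine (Tn h χ).mul_mem (le_Tn h χ hyZ) ((Tn h χ).inv_mem ?_)
      exact ⟨hxy.1, 1, fun v hv => by rw [one_smul]; exact hxy.2 v hv⟩ }

end crit

/-- For odd `p` there is no critical configuration. -/
theorem noCrit_odd {p : ℕ} [hp : Fact p.Prime] (hp2 : p ≠ 2) (m : ℕ) (F : Type) [Field F]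
    [IsAlgClosed F] : NoCrit.{u} p m F := by
  classical
  intro r Γ _ _ V _ _ _ ρ σ Q Z h
  have hZn := h.normZ
  have hQn := h.normQ
  have hrf : Fact r.Prime := ⟨h.prime⟩
  obtain ⟨χ, hχ, z, hz⟩ := h.exists_weight
  have hfixC : ∀ v, (∀ a ∈ Subgroup.zpowers σ, ρ a v = v) → v = 0 :=
    fun v hv => h.fixV v (hv σ (Subgroup.mem_zpowers σ))
  have hS := stab_ne_bot ρ Z h.cardZ h.abel (Subgroup.zpowers σ) h.cardC hfixC hχ
  have hφS : σ ^ p ^ m ∈ stab Z (Subgroup.zpowers σ) χ := mem_of_ne_bot hp.out h.pow stab_le hS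
  obtain ⟨j, hj1, hst⟩ := exists_zpowers hp.out h.pow (stab_le (A := Subgroup.zpowers σ) (χ := χ))
  have hj : j ≤ m := by
    by_contra hcon
    have h1 : j = m + 1 := by omega
    apply hS
    rw [hst, h1, h.pow, Subgroup.zpowers_one_eq_bot]
  have hτM : σ ^ p ^ j ∈ MulAction.stabilizer Γ χ := by
    have h1 : σ ^ p ^ j ∈ stab Z (Subgroup.zpowers σ) χ := by rw [hst]; exact Subgroup.mem_zpowers _
    exact h1.2
  have hyp := shult_hyp h hχ hj hst hτM
  have hnt : Nontrivial (wt ρ Z χ) := Submodule.nontrivial_iff_ne_bot.2 hχ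
  have hnle := not_le_Tn h hχ hz hφS.2
  have hne : (Tn h χ).subgroupOf Q ≠ ⊤ := by
    rw [Ne, Subgroup.subgroupOf_eq_top]; exact hnle
  have hidx := hyp.index_eq hne
  set k := m - j + 1 with hk
  -- the prime `r` is 2
  have hpk : 3 ≤ p ^ k := by
    have hp3 : 3 ≤ p := by
      have := hp.out.two_le
      omega
    calc 3 ≤ p := hp3
      _ = p ^ 1 := (pow_one p).symm
      _ ≤ p ^ k := Nat.pow_le_pow_right hp.out.pos (by omega)
  obtain ⟨a, ha⟩ := IsPGroup.iff_card.1 h.isp
  have hdvd : p ^ k - 1 ∣ r ^ a := by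
    have h1 : (p ^ k - 1) ^ 2 ∣ r ^ a := by
      rw [← hidx, ← ha]
      exact Subgroup.index_dvd_card _
    exact (dvd_pow_self _ two_ne_zero).trans h1
  obtain ⟨d, -, hd⟩ := (Nat.dvd_prime_pow h.prime).1 hdvd
  have hr2 : r = 2 := by
    have h1 : 2 ∣ r ^ d := by
      rw [← hd]
      have h2 : Odd (p ^ k) := (hp.out.odd_of_ne_two hp2).pow
      obtain ⟨c, hc⟩ := h2
      exact ⟨c, by omega⟩
    exact ((Nat.prime_dvd_prime_iff_eq Nat.prime_two h.prime).1 (Nat.prime_two.dvd_of_dvd_pow h1)).symm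
  subst hr2
  have hd' : 2 ^ d + 1 = p ^ k := by omega
  -- the orbit
  have hordσ : orderOf σ = p ^ (m + 1) := orderOf_eq_prime_pow h.ne_one h.pow
  let C : Subgroup Γ := Subgroup.zpowers σ
  have hCcard : Nat.card C = p ^ (m + 1) := by rw [Nat.card_zpowers, hordσ]
  have hstc : Nat.card (MulAction.stabilizer C χ) = p ^ k := by
    have h1 : Nat.card (MulAction.stabilizer C χ) = Nat.card (stab Z C χ) := by
      apply Nat.card_congr
      exact ⟨fun c => ⟨c.1.1, c.1.2, c.2⟩, fun c => ⟨⟨c.1, c.2.1⟩, c.2.2⟩, fun _ => rfl, fun _ => rfl⟩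
    rw [h1]
    show Nat.card (stab Z (Subgroup.zpowers σ) χ) = _
    rw [hst, Nat.card_zpowers]
    apply orderOf_eq_prime_pow
    · have h2 : (σ ^ p ^ j) ^ p ^ (m - j) = σ ^ p ^ m := by
        rw [← pow_mul, ← pow_add]
        congr 2; omega
      rw [h2]; exact h.ne_one
    · have h2 : (σ ^ p ^ j) ^ p ^ (m - j + 1) = σ ^ p ^ (m + 1) := by
        rw [← pow_mul, ← pow_add]
        congr 2; omega
      rw [h2]; exact h.pow
  have hfinO : Finite (MulAction.orbit C χ) := (Set.finite_range (fun y : C => y • χ)).to_subtype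
  have hOcard : Nat.card (MulAction.orbit C χ) = p ^ (m + 1 - k) := by
    have h1 := Nat.card_congr (MulAction.orbitEquivQuotientStabilizer C χ)
    have h2 := (MulAction.stabilizer C χ).card_mul_index
    rw [hstc, hCcard] at h2
    rw [← Subgroup.index_eq_card] at h1
    rw [h1]
    have h3 : p ^ k * p ^ (m + 1 - k) = p ^ (m + 1) := by
      rw [← pow_add]; congr 1; omega
    rw [← h3] at h2
    exact Nat.eq_of_mul_eq_mul_left (pow_pos hp.out.pos _) h2
  have hrel : ∀ ψ ∈ MulAction.orbit C χ, ((Tn h ψ).subgroupOf Q).index = (p ^ k - 1) ^ 2 := by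
    rintro _ ⟨c, rfl⟩
    have h1 := Tn_card h χ (c : Γ)
    have h2 : ((Tn h χ).subgroupOf Q).index = (Tn h χ).relIndex Q := rfl
    rw [← hidx, h2, ← h1]
    rfl
  have hgood : ∃ x ∈ Q, x ∉ Tn h χ ∧ ∀ ψ ∈ MulAction.orbit C χ, ψ ≠ χ → x ∈ Tn h ψ := by
    by_contra hcon
    push Not at hcon
    have hcon' : ∀ x ∈ Q, (∀ ψ ∈ MulAction.orbit C χ, ψ ≠ χ → x ∈ Tn h ψ) → x ∈ Tn h χ := by
      intro x hx hψ
      by_contra hxT
      obtain ⟨ψ, hψ1, hψ2, hψ3⟩ := hcon x hx hxT
      exact hψ3 (hψ ψ hψ1 hψ2)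
    let I : Type u := {ψ : MulAction.orbit C χ // (ψ : Z → F) ≠ χ}
    have hIf : Fintype I := Fintype.ofFinite I
    have hIcard : Fintype.card I + 1 = p ^ (m + 1 - k) := by
      have hOf : Fintype (MulAction.orbit C χ) := Fintype.ofFinite _
      rw [← hOcard, Nat.card_eq_fintype_card]
      have h1 : Fintype.card I = Fintype.card {ψ : MulAction.orbit C χ //
          ψ ≠ ⟨χ, MulAction.mem_orbit_self χ⟩} := by
        apply Fintype.card_congr
        apply Equiv.subtypeEquivRight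
        intro ψ
        rw [Ne, Ne, Subtype.ext_iff]
      rw [h1, Fintype.card_subtype_compl, Fintype.card_subtype_eq]
      have h2 : 0 < Fintype.card (MulAction.orbit C χ) :=
        Fintype.card_pos_iff.2 ⟨⟨χ, MulAction.mem_orbit_self χ⟩⟩
      omega
    let D : Subgroup Q := ⨅ i : I, (Tn h (i.1 : Z → F)).subgroupOf Q
    have hmemD : ∀ x : Q, x ∈ D ↔ ∀ ψ ∈ MulAction.orbit C χ, (x : Γ) ∈ Tn h ψ := by
      intro x
      rw [Subgroup.mem_iInf]
      constructor
      · intro hx ψ hψ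
        have h1 : ∀ ψ ∈ MulAction.orbit C χ, ψ ≠ χ → (x : Γ) ∈ Tn h ψ :=
          fun ψ hψ hψ1 => hx ⟨⟨ψ, hψ⟩, hψ1⟩
        by_cases hψ1 : ψ = χ
        · rw [hψ1]
          exact hcon' x x.2 h1
        · exact h1 ψ hψ hψ1
      · intro hx i
        exact hx _ i.1.2
    have hDidx : D.index ≤ 2 ^ (2 * d * Fintype.card I) := by
      refine (Subgroup.index_iInf_le (fun i : I => (Tn h (i.1 : Z → F)).subgroupOf Q)).trans ?_
      have h1 : ∀ i ∈ (Finset.univ : Finset I), ((Tn h (i.1 : Z → F)).subgroupOf Q).index =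
          2 ^ (2 * d) := by
        intro i _
        rw [hrel _ i.1.2, hd, ← pow_mul, mul_comm]
      rw [Finset.prod_congr rfl h1, Finset.prod_const, Finset.card_univ, ← pow_mul]
    have hDn : D.Normal := by
      constructor
      intro x hx y
      rw [hmemD] at hx ⊢
      intro ψ hψ
      exact conj_mem_of_le h (le_Tn h ψ) (Tn_le h ψ) (hx ψ hψ) y.2
    have hconj : ∀ c ∈ C, ∀ x : Γ, x ∈ Q → (∀ ψ ∈ MulAction.orbit C χ, x ∈ Tn h ψ) →
        ∀ ψ ∈ MulAction.orbit C χ, c * x * c⁻¹ ∈ Tn h ψ := by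
      intro c hc x hx hxψ ψ hψ
      have h1 : c⁻¹ • ψ ∈ MulAction.orbit C χ := by
        obtain ⟨c', rfl⟩ := hψ
        refine ⟨⟨c⁻¹, C.inv_mem hc⟩ * c', ?_⟩
        exact mul_smul (c⁻¹ : Γ) (c' : Γ) χ
      have h2 := Tn_conj h c (hxψ _ h1)
      rwa [smul_inv_smul] at h2
    have hDne : D ≠ ⊤ := by
      intro h1
      apply hnle
      intro x hx
      have h2 : (⟨x, hx⟩ : Q) ∈ D := by rw [h1]; trivial
      exact (hmemD _).1 h2 χ (MulAction.mem_orbit_self χ)
    have hmod := index_mod D (MulAut.conjNormal σ : MulAut Q) (N := p ^ (m + 1)) (by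
        intro x hx
        rw [hmemD] at hx ⊢
        rw [MulAut.conjNormal_apply]
        exact hconj σ (Subgroup.mem_zpowers σ) x x.2 hx) (pow_pos hp.out.pos _) (by
        intro x
        rw [← map_pow, h.pow, map_one]
        have h1 : (1 : MulAut Q) x * x⁻¹ = 1 := mul_inv_cancel x
        rw [h1]; exact D.one_mem) (by
        intro i hi hiN x hx
        rw [← map_pow, hmemD] at hx
        rw [hmemD]
        let D' : Subgroup Γ := D.map Q.subtype
        have hD' : ∀ x : Γ, x ∈ D' ↔ x ∈ Q ∧ ∀ ψ ∈ MulAction.orbit C χ, x ∈ Tn h ψ := by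
          intro x
          constructor
          · rintro ⟨y, hy, rfl⟩
            exact ⟨y.2, (hmemD y).1 hy⟩
          · rintro ⟨h1, h2⟩
            exact ⟨⟨x, h1⟩, (hmemD _).2 h2, rfl⟩
        have h1 : (x : Γ) ∈ D' := by
          apply free_gen h (c := σ ^ i)
          · intro z hz
            rw [hD']
            exact ⟨h.le hz, fun ψ _ => le_Tn h ψ hz⟩
          · exact fun x hx => ((hD' x).1 hx).1
          · exact Subgroup.pow_mem _ (Subgroup.mem_zpowers σ) _
          · intro h2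
            have h3 := orderOf_dvd_of_pow_eq_one h2
            rw [hordσ] at h3
            exact absurd (Nat.le_of_dvd hi h3) (by omega)
          · apply le_normalizer_of_conj
            intro c hc x hx
            rw [hD'] at hx ⊢
            exact ⟨hQn.conj_mem x hx.1 c, hconj c ((pow_mem_zpowers σ i) hc) x hx.1 hx.2⟩
          · exact x.2
          · rw [hD']
            have h2 : (((MulAut.conjNormal (σ ^ i) : MulAut Q) x * x⁻¹ : Q) : Γ) =
                σ ^ i * x * (σ ^ i)⁻¹ * (x : Γ)⁻¹ := by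
              rw [Subgroup.coe_mul, Subgroup.coe_inv, MulAut.conjNormal_apply]
            rw [← h2]
            exact ⟨Subtype.prop _, hx⟩
        exact ((hD' x).1 h1).2) hDne
    -- arithmetic
    have hDdvd : D.index ∣ 2 ^ a := by
      rw [← ha]
      exact Subgroup.index_dvd_card D
    obtain ⟨M, -, hM⟩ := (Nat.dvd_prime_pow h.prime).1 hDdvd
    have hM0 : 0 < M := by
      rcases Nat.eq_zero_or_pos M with h0 | h0
      · exfalso
        apply hDne
        rw [h0, pow_zero] at hM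
        exact Subgroup.index_eq_one.1 hM
      · exact h0
    rw [hM] at hmod hDidx
    have hdv : p ^ (m + 1) ∣ 2 ^ M - 1 := by
      have h1 : 1 ≤ 2 ^ M := Nat.one_le_two_pow
      have h2 : 1 ≤ p ^ (m + 1) := Nat.one_le_pow _ _ hp.out.pos
      have h3 : 2 ^ M + (p ^ (m + 1) - 1) = (2 ^ M - 1) + p ^ (m + 1) := by omega
      rw [h3] at hmod
      exact (Nat.dvd_add_left dvd_rfl).1 hmod
    have h1 := Num.le_of_dvd hp.out hp2 (by omega) hd' (by omega) hM0 hdv
    have h2 : M ≤ 2 * d * Fintype.card I :=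
      (Nat.pow_le_pow_iff_right (by norm_num)).1 hDidx
    rw [← hIcard, mul_add, mul_one] at h1
    have hd1 : 0 < d := by
      rcases Nat.eq_zero_or_pos d with h0 | h0
      · rw [h0, pow_zero] at hd'
        omega
      · exact h0
    omega
  obtain ⟨x, hxQ, hxT, hxψ⟩ := hgood
  -- an element `y` not commuting with `x` on the weight space
  obtain ⟨y, hy⟩ : ∃ y : Q, ¬ (((wrep ρ Z χ).comp (Subgroup.inclusion (Q_le_stab h χ))) (⟨x, hxQ⟩ * y) =
      ((wrep ρ Z χ).comp (Subgroup.inclusion (Q_le_stab h χ))) (y * ⟨x, hxQ⟩)) := by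
    by_contra hcon
    push Not at hcon
    exact hxT (hyp.max _ hcon)
  have hz₀ : x * y * x⁻¹ * (y : Γ)⁻¹ ∈ Z := h.comm x hxQ y y.2
  set z₀ : Z := ⟨x * y * x⁻¹ * (y : Γ)⁻¹, hz₀⟩ with hz₀def
  have hχz₀ : χ z₀ ≠ 1 := by
    intro h1
    apply hy
    ext v
    show ρ (x * y) v = ρ (y * x) v
    have h2 : x * y = (x * y * x⁻¹ * (y : Γ)⁻¹) * (y * x) := by group
    have h3 : ρ (y * x) (v : V) ∈ wt ρ Z χ := by
      have h4 := smul_mem_wt v.2 (y * x)
      rwa [h.smul_eq χ (Q.mul_mem y.2 hxQ)] at h4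
    rw [mem_wt] at h3
    have h4 := h3 z₀
    rw [h1, one_smul] at h4
    rw [h2, map_mul, End.mul_apply]
    exact h4
  have hψz₀ : ∀ ψ ∈ MulAction.orbit C χ, ψ ≠ χ → ψ z₀ = 1 := by
    intro ψ hψ hψ1
    have hψ2 : wt ρ Z ψ ≠ ⊥ := by
      obtain ⟨c, rfl⟩ := hψ
      exact wt_smul_ne_bot hχ (c : Γ)
    obtain ⟨-, c, hc⟩ := hxψ ψ hψ hψ1
    obtain ⟨v, hv, hv0⟩ := Submodule.exists_mem_ne_zero_of_ne_bot hψ2
    have hc0 : c ≠ 0 := by
      rintro rfl
      have h1 := hc v hv
      rw [zero_smul] at h1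
      apply hv0
      have h2 : ρ x⁻¹ (ρ x v) = v := by
        rw [← End.mul_apply, ← map_mul, inv_mul_cancel, map_one, End.one_apply]
      rw [← h2, h1, map_zero]
    have hwt : ∀ y ∈ Q, ∀ v ∈ wt ρ Z ψ, ρ y v ∈ wt ρ Z ψ := by
      intro y hy v hv
      have h4 := smul_mem_wt hv y
      rwa [h.smul_eq ψ hy] at h4
    have h1 : ρ (x * y) v = ρ (y * x) v := by
      rw [map_mul, map_mul, End.mul_apply, End.mul_apply, hc v hv, hc _ (hwt y y.2 v hv), map_smul]
    have h2 : x * y = (x * y * x⁻¹ * (y : Γ)⁻¹) * (y * x) := by group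
    have h3 : ρ (y * x) v ∈ wt ρ Z ψ := hwt _ (Q.mul_mem y.2 hxQ) v hv
    have h3' := h3
    rw [mem_wt] at h3'
    have h4 := h3' z₀
    rw [h2, map_mul ρ (x * y * x⁻¹ * (y : Γ)⁻¹), End.mul_apply] at h1
    have h5 : ψ z₀ • ρ (y * x) v = ρ (y * x) v := by rw [← h4]; exact h1
    have h6 : (ψ z₀ - 1) • ρ (y * x) v = 0 := by rw [sub_smul, one_smul, h5, sub_self]
    rcases smul_eq_zero.1 h6 with h7 | h7
    · exact sub_eq_zero.1 h7
    · exfalso
      apply hv0
      have h8 : ρ (y * x)⁻¹ (ρ (y * x) v) = v := by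
        rw [← End.mul_apply, ← map_mul, inv_mul_cancel, map_one, End.one_apply]
      rw [← h8, h7, map_zero]
  -- the norm of `z₀` is trivial
  let cg : CommGroup Z :=
    { (inferInstance : Group Z) with mul_comm := fun a b => Subtype.ext (h.abel a a.2 b b.2) }
  have := Fintype.ofFinite C
  let P : Z := ∏ c : C, MulAut.conjNormal (c : Γ)⁻¹ z₀
  have hP : P = 1 := by
    apply Subtype.ext
    show (P : Γ) = 1
    apply h.fixQ _ (h.le P.2)
    have h1 : MulAut.conjNormal (H := Z) σ⁻¹ P = P := by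
      show MulAut.conjNormal (H := Z) σ⁻¹ (∏ c : C, MulAut.conjNormal (c : Γ)⁻¹ z₀) = _
      rw [map_prod]
      apply Fintype.prod_equiv (Equiv.mulRight (⟨σ, Subgroup.mem_zpowers σ⟩ : C))
      intro c
      rw [Equiv.coe_mulRight, Subgroup.coe_mul, mul_inv_rev, map_mul]
      rfl
    have h2 := congrArg Subtype.val h1
    rw [MulAut.conjNormal_apply, inv_inv] at h2
    have h3 : σ⁻¹ * (P : Γ) * σ = P := h2
    calc σ * (P : Γ) = σ * (σ⁻¹ * (P : Γ) * σ) := by rw [h3]
      _ = P * σ := by group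
  let χh : Z →* F :=
    { toFun := χ
      map_one' := wt_one hχ
      map_mul' := wt_mul hχ }
  have hprod : ∏ c : C, χ (MulAut.conjNormal (c : Γ)⁻¹ z₀) = 1 := by
    have h1 : χh P = 1 := by rw [hP, map_one]
    rw [map_prod] at h1
    exact h1
  have hterm : ∀ c ∈ (Finset.univ : Finset C), χ (MulAut.conjNormal (c : Γ)⁻¹ z₀) =
      if c ∈ MulAction.stabilizer C χ then χ z₀ else 1 := by
    intro c _
    have h1 : χ (MulAut.conjNormal (c : Γ)⁻¹ z₀) = (c • χ) z₀ := rfl
    rw [h1]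
    split_ifs with hc
    · rw [MulAction.mem_stabilizer_iff.1 hc]
    · exact hψz₀ _ ⟨c, rfl⟩ hc
  rw [Finset.prod_congr rfl hterm, ← Finset.prod_filter, Finset.prod_const] at hprod
  have hcf : (Finset.univ.filter (fun c : C => c ∈ MulAction.stabilizer C χ)).card = p ^ k := by
    rw [← Fintype.card_subtype, ← Nat.card_eq_fintype_card]
    exact hstc
  rw [hcf] at hprod
  apply hχz₀
  have h1 : χ z₀ ^ 2 ^ a = 1 := by
    have h2 : z₀ ^ 2 ^ a = 1 := by
      have h3 : (⟨z₀, h.le z₀.2⟩ : Q) ^ Nat.card Q = 1 := pow_card_eq_one'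
      rw [ha] at h3
      apply Subtype.ext
      show (z₀ : Γ) ^ 2 ^ a = 1
      exact congrArg Subtype.val h3
    have h3 : χh (z₀ ^ 2 ^ a) = 1 := by rw [h2, map_one]
    rw [map_pow] at h3
    exact h3
  have hcop : (p ^ k).Coprime (2 ^ a) :=
    Nat.Coprime.pow _ _ ((Nat.coprime_primes hp.out Nat.prime_two).2 hp2)
  exact orderOf_eq_one_iff.1 (Nat.eq_one_of_dvd_coprimes hcop (orderOf_dvd_of_pow_eq_one hprod)
    (orderOf_dvd_of_pow_eq_one h1))

theorem t2_odd {p : ℕ} [hp : Fact p.Prime] (hp2 : p ≠ 2) (m : ℕ) : T2 p (Cyc.{u} p m) :=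
  t2_of_noCrit (fun F _ _ => noCrit_odd hp2 m F)

end Cfsg.Agent.H452.T2Odd
end

-- part: H452/OddExt
section
/-!
# The Shult–Gross theorem for odd primes
-/

set_option autoImplicit false

namespace Cfsg.Agent.H452.OddExt

open Cfsg.Agent.H452.T2 Cfsg.Agent.H452.Ext Cfsg.Agent.H452.Two Cfsg.Agent.H452.T2Odd

universe u

/-- the automorphism induced on `G / L` has order dividing `k` if `σ ^ k` is trivial modulo `L` -/
theorem quot_pow_eq_one {G : Type u} [Group G] {L : Subgroup G} [hL : L.Normal] {σ : MulAut G}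
    {τ : MulAut (G ⧸ L)} (h : ∀ g : G, τ (QuotientGroup.mk g) = QuotientGroup.mk (σ g)) {k : ℕ}
    (hk : ∀ g, (σ ^ k) g * g⁻¹ ∈ L) : τ ^ k = 1 := by
  ext x
  obtain ⟨g, rfl⟩ := QuotientGroup.mk_surjective x
  rw [quotAut_pow h k g, MulAut.one_apply, eq_comm, QuotientGroup.eq]
  have h6 := hL.conj_mem _ (hk g) g⁻¹
  have h7 : g⁻¹ * ((σ ^ k) g * g⁻¹) * g⁻¹⁻¹ = g⁻¹ * (σ ^ k) g := by group
  rwa [h7] at h6

theorem shult_gross {p : ℕ} [Fact p.Prime] (hp2 : p ≠ 2) : ∀ (n : ℕ) (G : Type u) [Group G]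
    [Finite G], Group.IsSolvable G → ∀ σ : MulAut G, σ ^ p ^ n = 1 → (∀ g : G, σ g = g → g = 1) →
    HasChain G n := by
  intro n
  induction n with
  | zero =>
    intro G _ _ _ σ hσ hfpf
    rw [pow_zero, pow_one] at hσ
    apply hasChain_zero
    intro g
    apply hfpf
    rw [hσ]; rfl
  | succ n ih =>
    intro G _ _ hG σ hσ hfpf
    obtain ⟨L, h1, h2, h3, h4⟩ := nilp_cyc (m := n) (t2_odd hp2 n) hG σ hσ hfpf
    obtain ⟨τ, hτ, hτf⟩ := exists_quotAut L σ h3 hfpf
    have hs : Group.IsSolvable (G ⧸ L) :=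
      Group.isSolvable_of_surjective (QuotientGroup.mk'_surjective L)
    exact chain_of_quot L h2 (ih (G ⧸ L) hs τ (quot_pow_eq_one hτ h4) hτf)

end Cfsg.Agent.H452.OddExt
end
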